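/-
Conjugate transposes and dyads on tensor powers of hermitian spaces.
-/
import Cfsg.Agent.Geo.TensorPow.Casimir
import Cfsg.Agent.Geo.TensorPow.Sp.Basic
import Cfsg.Agent.Geo.TensorUnitSpace

set_option autoImplicit false
set_option linter.unusedSectionVars false

namespace CfsgLib.Geo.TensorPow.U

open Matrix CfsgLib.Aschbacher CfsgLib.Geo.UTv
open scoped MatrixGroups

variable {F : Type*} [Field F] {q t m : ℕ}
variable {ι κ : Type} [Fintype ι] [DecidableEq ι]

/-- The hermitian form of an arbitrary coordinate space. -/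
def hd (q : ℕ) (x y : ι → F) : F := ∑ i, x i * y i ^ q

/-- The conjugate of a vector. -/
def cq (q : ℕ) (x : κ → F) : κ → F := fun i => x i ^ q

/-- The conjugate transpose. -/
def st (q : ℕ) {ι' : Type} (X : Matrix ι' κ F) : Matrix κ ι' F := (X.map (· ^ q))ᵀ

/-- The dyad of two vectors. -/
def vm (q : ℕ) (u w : κ → F) : Matrix κ κ F := vecMulVec u (cq q w)

lemma hd_eq_dot (x y : ι → F) : hd q x y = x ⬝ᵥ cq q y := rfl

lemma hd_fin (x y : Fin m → F) : hd q x y = Cfsg.hermForm m F q x y := rfl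

lemma vm_apply (u w : ι → F) (a b : ι) : vm q u w a b = u a * w b ^ q := rfl

lemma vm_mul_vm (a b c d : ι → F) : vm q a b * vm q c d = hd q c b • vm q a d := by
  simp only [vm, Matrix.vecMulVec_mul_vecMulVec, Matrix.vecMulVec_smul, hd_eq_dot, dotProduct_comm]

lemma mul_vm (X : Matrix ι ι F) (u w : ι → F) : X * vm q u w = vm q (X *ᵥ u) w :=
  Matrix.mul_vecMulVec ..

lemma vm_mulVec (u w x : ι → F) : vm q u w *ᵥ x = hd q x w • u := by
  rw [vm, Matrix.vecMulVec_mulVec, hd_eq_dot, dotProduct_comm, op_smul_eq_smul]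

lemma vm_add_left (u u' w : ι → F) : vm q (u + u') w = vm q u w + vm q u' w := Matrix.add_vecMulVec ..

lemma vm_smul_left (c : F) (u w : ι → F) : vm q (c • u) w = c • vm q u w := Matrix.smul_vecMulVec ..

lemma hd_add_left (x x' y : ι → F) : hd q (x + x') y = hd q x y + hd q x' y := by
  simp [hd, add_mul, Finset.sum_add_distrib]

lemma hd_smul_left (c : F) (x y : ι → F) : hd q (c • x) y = c * hd q x y := by
  simp [hd, Finset.mul_sum, mul_assoc]

lemma hd_zero_left (y : ι → F) : hd q (0 : ι → F) y = 0 := by simp [hd]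

lemma vm_zero_left (w : ι → F) : vm q (0 : ι → F) w = 0 := Matrix.zero_vecMulVec ..

lemma vm_zero_right (hq : q ≠ 0) (u : ι → F) : vm q u (0 : ι → F) = 0 :=
  Matrix.ext fun a b => by simp [vm_apply, hq]

section conj

variable [Finite F] (hF : Nat.card F = q ^ 2)
include hF

lemma pow_mul_q (a b : F) : (a * b) ^ q = a ^ q * b ^ q := mul_pow a b q

lemma qq (a : F) : (a ^ q) ^ q = a := CfsgLib.Forms.pow_q_q hF a

lemma map_frob (X : Matrix ι ι F) : X.map (· ^ q) = X.map (CfsgLib.Forms.frobQ hF) :=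
  Matrix.ext fun i j => (CfsgLib.Forms.frobQ_apply hF _).symm

lemma cq_cq (x : ι → F) : cq q (cq q x) = x := funext fun i => qq hF (x i)

lemma cq_add (x y : ι → F) : cq q (x + y) = cq q x + cq q y :=
  funext fun i => TensorU.pow_add hF _ _

omit hF in
lemma cq_smul (c : F) (x : ι → F) : cq q (c • x) = c ^ q • cq q x := funext fun i => mul_pow _ _ _

lemma hd_add_right (x y y' : ι → F) : hd q x (y + y') = hd q x y + hd q x y' := by
  rw [hd_eq_dot, cq_add hF, dotProduct_add]; rfl

omit hF in
lemma hd_smul_right (c : F) (x y : ι → F) : hd q x (c • y) = c ^ q * hd q x y := by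
  rw [hd_eq_dot, cq_smul, dotProduct_smul, smul_eq_mul]; rfl

lemma hd_swap (x y : ι → F) : hd q y x = hd q x y ^ q := by
  rw [hd, hd, ← CfsgLib.Forms.frobQ_apply hF (∑ i, _), map_sum]
  refine Finset.sum_congr rfl fun i _ => ?_
  rw [CfsgLib.Forms.frobQ_apply hF, mul_pow, qq hF, mul_comm]

lemma hd_swap0 {x y : ι → F} (h : hd q x y = 0) : hd q y x = 0 := by
  rw [hd_swap hF, h, TensorU.zero_pow' hF]

lemma st_mul (X Y : Matrix ι ι F) : st q (X * Y) = st q Y * st q X := by
  simp only [st, map_frob hF, Matrix.map_mul, Matrix.transpose_mul]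

lemma st_add (X Y : Matrix ι ι F) : st q (X + Y) = st q X + st q Y := by
  simp only [st, map_frob hF, Matrix.map_add _ (map_add _), Matrix.transpose_add]

lemma st_smul (c : F) (X : Matrix ι ι F) : st q (c • X) = c ^ q • st q X :=
  Matrix.ext fun i j => mul_pow _ _ _

lemma st_one : st q (1 : Matrix ι ι F) = 1 := by
  simp [st, map_frob hF]

lemma st_neg (X : Matrix ι ι F) : st q (-X) = -st q X :=
  Matrix.ext fun i j => TensorU.pow_neg hF _

lemma st_sub (X Y : Matrix ι ι F) : st q (X - Y) = st q X - st q Y := by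
  rw [sub_eq_add_neg, st_add hF, st_neg hF, ← sub_eq_add_neg]

lemma st_st (X : Matrix ι ι F) : st q (st q X) = X := Matrix.ext fun i j => qq hF (X i j)

lemma st_vm (u w : ι → F) : st q (vm q u w) = vm q w u := Matrix.ext fun a b => by
  show (u b * w a ^ q) ^ q = w a * u b ^ q
  rw [mul_pow, qq hF, mul_comm]

lemma cq_mulVec (X : Matrix ι ι F) (x : ι → F) : cq q (X *ᵥ x) = X.map (· ^ q) *ᵥ cq q x := by
  funext i
  rw [map_frob hF]
  simp only [cq, Matrix.mulVec, dotProduct, Matrix.map_apply]
  rw [← CfsgLib.Forms.frobQ_apply hF (∑ x_1, _), map_sum]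
  exact Finset.sum_congr rfl fun j _ => by rw [map_mul, CfsgLib.Forms.frobQ_apply hF (x j)]

lemma vm_mul (u w : ι → F) (X : Matrix ι ι F) : vm q u w * X = vm q u (st q X *ᵥ w) := by
  rw [vm, vm, Matrix.vecMulVec_mul, cq_mulVec hF]
  congr 1
  rw [← Matrix.mulVec_transpose]
  congr 1
  exact Matrix.ext fun a b => (qq hF (X b a)).symm

lemma hd_mulVec (X : Matrix ι ι F) (x y : ι → F) : hd q (X *ᵥ x) y = hd q x (st q X *ᵥ y) := by
  rw [hd_eq_dot, hd_eq_dot, cq_mulVec hF, dotProduct_comm, Matrix.dotProduct_mulVec, dotProduct_comm]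
  congr 1
  rw [← Matrix.mulVec_transpose]
  congr 1
  exact Matrix.ext fun a b => (qq hF (X b a)).symm

lemma vm_add_right (u w w' : ι → F) : vm q u (w + w') = vm q u w + vm q u w' := by
  rw [vm, cq_add hF, Matrix.vecMulVec_add]; rfl

omit hF in
lemma vm_smul_right (c : F) (u w : ι → F) : vm q u (c • w) = c ^ q • vm q u w := by
  rw [vm, cq_smul, Matrix.vecMulVec_smul]; rfl

omit hF in
lemma hd_single_right (x : ι → F) (a : ι) [Finite F] (hq : q ≠ 0) : hd q x (Pi.single a 1) = x a := by
  rw [hd, Finset.sum_eq_single a]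
  · simp
  · intro b _ hb; simp [Pi.single_eq_of_ne hb, zero_pow hq]
  · simp

lemma q_ne_zero : q ≠ 0 := by have := CfsgLib.Forms.two_le_q hF; omega

/-- A matrix preserving the form. -/
lemma isU_iff (X : Matrix ι ι F) : st q X * X = 1 ↔ ∀ x y : ι → F, hd q (X *ᵥ x) (X *ᵥ y) = hd q x y := by
  constructor
  · intro h x y
    rw [hd_mulVec hF, Matrix.mulVec_mulVec, h, Matrix.one_mulVec]
  · intro h
    refine Matrix.ext fun a b => ?_
    have h1 := h (Pi.single b 1) (Pi.single a 1)
    rw [hd_single_right _ a (q_ne_zero hF)] at h1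
    have h2 : hd q (X *ᵥ Pi.single b 1) (X *ᵥ Pi.single a 1) = (st q X * X) a b := by
      simp only [hd, Matrix.mul_apply, Matrix.mulVec_single_one, st, Matrix.transpose_apply, Matrix.map_apply,
        Matrix.col_apply]
      exact Finset.sum_congr rfl fun i _ => mul_comm _ _
    rw [← h2, h1, Matrix.one_apply, Pi.single_apply]

omit hF in
lemma st_tens (a : Fin t → Matrix (Fin m) (Fin m) F) :
    st q (tens a : Mt t m F) = tens fun l => st q (a l) := Matrix.ext fun x y => by
  simp only [st, Matrix.transpose_apply, Matrix.map_apply, tens, Matrix.of_apply, Finset.prod_pow]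

lemma st_slot (i : Fin t) (A : Matrix (Fin m) (Fin m) F) : st q (slot i A : Mt t m F) = slot i (st q A) := by
  rw [slot, slot, st_tens]
  congr 1
  funext l
  rcases eq_or_ne l i with rfl | hl
  · simp
  · simp [Function.update_of_ne hl, st_one hF]

omit hF in
lemma tens_vm (u w : Fin t → Fin m → F) : (tens fun l => vm q (u l) (w l)) = vm q (pv u) (pv w) :=
  Matrix.ext fun x y => by simp [tens, vm_apply, pv, Finset.prod_mul_distrib, Finset.prod_pow]

omit hF in
lemma hd_pv (u w : Fin t → Fin m → F) : hd q (pv u) (pv w) = ∏ l, hd q (u l) (w l) := by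
  simp only [hd, pv]
  rw [Fintype.prod_sum]
  exact Finset.sum_congr rfl fun x _ => by rw [← Finset.prod_pow, Finset.prod_mul_distrib]

end conj

/-- Full centre: all transvections with this centre lie in the group. -/
def FullAt (q : ℕ) (M : Subgroup (GL ι F)) (v : ι → F) : Prop :=
  hd q v v = 0 ∧ ∀ c : F, c + c ^ q = 0 → ∃ g ∈ M, (g : Matrix ι ι F) = 1 + c • vm q v v

/-- An overgroup of the special isometries of the factors among the isometries. -/
structure UBase (q : ℕ) (M : Subgroup (GL (Fin t → Fin m) F)) : Prop where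
  iso : ∀ g ∈ M, st q (g : Mt t m F) * (g : Mt t m F) = 1
  slot_mem : ∀ i, ∀ h : GL (Fin m) F, h ∈ suGL m F q → Mem M (slot i (h : Matrix (Fin m) (Fin m) F))

/-- An overgroup without all transvections with pure centres having an isotropic factor, no member of which
outside the wreath product commutes with a factor. -/
structure UBad (q : ℕ) (M : Subgroup (GL (Fin t → Fin m) F)) : Prop extends UBase q M where
  nfull : ¬ ∀ v : Fin t → Fin m → F, (∃ l, hd q (v l) (v l) = 0) → FullAt q M (pv v)
  rec_mem : ∀ g ∈ M, ∀ b, Com b (g : Mt t m F) → g ∈ Cfsg.Geo.tensorWreathStandard m t F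

end CfsgLib.Geo.TensorPow.U
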