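/-
Isometries of one factor, isotropic dyads, and sandwiches of a matrix on the tensor power between dyads of
one factor.
-/
import Cfsg.Agent.Geo.TensorPow.U.Basic
import Cfsg.Agent.Geo.UnitPhase

set_option autoImplicit false
set_option linter.unusedSectionVars false

namespace CfsgLib.Geo.TensorPow.U

open Matrix CfsgLib.Aschbacher CfsgLib.Geo.UTv
open scoped MatrixGroups

variable {F : Type*} [Field F] {q t m : ℕ}

lemma det_one_add_vm {ι : Type} [Fintype ι] [DecidableEq ι] (c : F) (u w : ι → F) :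
    (1 + c • vm q u w).det = 1 + c * hd q u w := by
  rw [vm, ← Matrix.smul_vecMulVec, Matrix.vecMulVec_eq Unit, Matrix.det_one_add_replicateCol_mul_replicateRow,
    dotProduct_smul, smul_eq_mul, dotProduct_comm, hd_eq_dot]

variable [Finite F] (hF : Nat.card F = q ^ 2)
include hF

lemma mem_su {g : GL (Fin m) F} :
    g ∈ suGL m F q ↔ st q (g : Matrix (Fin m) (Fin m) F) * (g : Matrix (Fin m) (Fin m) F) = 1 ∧
      (g : Matrix (Fin m) (Fin m) F).det = 1 := by
  rw [isU_iff hF]
  exact and_congr Iff.rfl mem_specialLinear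

lemma exists_gl_of_u {X : Matrix (Fin m) (Fin m) F} (h : st q X * X = 1) (hd1 : X.det = 1) :
    ∃ g ∈ suGL m F q, (g : Matrix (Fin m) (Fin m) F) = X :=
  ⟨⟨X, st q X, mul_eq_one_comm.1 h, h⟩, (mem_su hF).2 ⟨h, hd1⟩, rfl⟩

lemma su_inv {g : GL (Fin m) F} (hg : g ∈ suGL m F q) :
    ((g⁻¹ : GL (Fin m) F) : Matrix (Fin m) (Fin m) F) = st q (g : Matrix (Fin m) (Fin m) F) :=
  Units.inv_eq_of_mul_eq_one_left ((mem_su hF).1 hg).1

lemma su_conj_vm {g : GL (Fin m) F} (hg : g ∈ suGL m F q) (u w : Fin m → F) :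
    (g : Matrix (Fin m) (Fin m) F) * vm q u w * ((g⁻¹ : GL (Fin m) F) : Matrix (Fin m) (Fin m) F) =
      vm q ((g : Matrix (Fin m) (Fin m) F) *ᵥ u) ((g : Matrix (Fin m) (Fin m) F) *ᵥ w) := by
  rw [su_inv hF hg, mul_vm, vm_mul hF, st_st hF]

lemma vm_ne_zero {u w : Fin m → F} (hu : u ≠ 0) (hw : w ≠ 0) : vm q u w ≠ 0 := by
  intro h
  obtain ⟨a, ha⟩ := Function.ne_iff.1 hu
  obtain ⟨b, hb⟩ := Function.ne_iff.1 hw
  exact mul_ne_zero ha (pow_ne_zero q hb) (congrFun (congrFun h a) b)

/-- A transvection of a factor. -/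
lemma exists_root {u : Fin m → F} (hu : hd q u u = 0) {c : F} (hc : c + c ^ q = 0) :
    ∃ g ∈ suGL m F q, (g : Matrix (Fin m) (Fin m) F) = 1 + c • vm q u u := by
  refine exists_gl_of_u hF ?_ (by rw [det_one_add_vm, hu, mul_zero, add_zero])
  have h0 : vm q u u * vm q u u = 0 := by rw [vm_mul_vm, hu, zero_smul]
  rw [st_add hF, st_one hF, st_smul hF, st_vm hF, add_mul, one_mul, mul_add, mul_one, smul_mul_smul_comm, h0,
    smul_zero, add_zero, add_assoc, ← add_smul, hc, zero_smul, add_zero]

/-- Transitivity of the special isometries on families with room for a determinant. -/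
lemma exists_su_map {k : ℕ} (us ws : Fin k → Fin m → F) (hu : LinearIndependent F us) (hw : LinearIndependent F ws)
    (h : ∀ i j, hd q (us i) (us j) = hd q (ws i) (ws j)) {e : Fin m → F} (he : hd q e e = 1)
    (hew : ∀ i, hd q (ws i) e = 0) :
    ∃ g ∈ suGL m F q, ∀ i, (g : Matrix (Fin m) (Fin m) F) *ᵥ us i = ws i := by
  obtain ⟨g, hg⟩ := CfsgLib.Unitary.exists_GU_family hF us ws hu hw fun i j => h i j
  set G : Matrix (Fin m) (Fin m) F := ((g : GL (Fin m) F) : Matrix (Fin m) (Fin m) F)
  have hgu : st q G * G = 1 := (isU_iff hF G).2 g.2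
  have hnorm : G.det ^ q * G.det = 1 := by
    have h1 := congrArg Matrix.det hgu
    rw [Matrix.det_mul, st, Matrix.det_transpose, map_frob hF, ← RingHom.mapMatrix_apply, ← RingHom.map_det,
      CfsgLib.Forms.frobQ_apply hF, Matrix.det_one] at h1
    exact h1
  have hd0 : G.det ≠ 0 := fun h0 => by rw [h0, mul_zero] at hnorm; exact zero_ne_one hnorm
  set c := G.det⁻¹ - 1 with hc
  obtain ⟨x, hx, hxv⟩ := exists_gl_of_u hF (X := (1 + c • vm q e e) * G) (by
    rw [st_mul hF, mul_assoc, ← mul_assoc (st q (1 + c • vm q e e)), st_add hF, st_one hF, st_smul hF, st_vm hF,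
      add_mul 1 (c ^ q • vm q e e), one_mul, mul_add, mul_one, smul_mul_smul_comm, vm_mul_vm, he, one_smul,
      add_assoc, ← add_smul, ← add_smul, show c + (c ^ q + c ^ q * c) = 0 by
        rw [hc, TensorU.pow_sub hF, one_pow, inv_pow]
        field_simp
        linear_combination -hnorm,
      zero_smul, add_zero, one_mul, hgu]) (by
    rw [Matrix.det_mul, det_one_add_vm, he, mul_one, hc, add_sub_cancel, inv_mul_cancel₀ hd0])
  refine ⟨x, hx, fun i => ?_⟩
  rw [hxv, ← Matrix.mulVec_mulVec, show G *ᵥ us i = ws i from hg i, Matrix.add_mulVec, Matrix.one_mulVec,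
    Matrix.smul_mulVec, vm_mulVec, hew i, zero_smul, smul_zero, add_zero]

lemma exists_hyp' {u : Fin m → F} (hu0 : u ≠ 0) (hu : hd q u u = 0) :
    ∃ v : Fin m → F, hd q u v = 1 ∧ hd q v u = 1 ∧ hd q v v = 0 :=
  TensorU.exists_hyp hF hu0 hu

/-- A unit vector orthogonal to a hyperbolic pair. -/
lemma exists_unit_perp (hm : 3 ≤ m) {u v : Fin m → F} (hu : hd q u u = 0) (huv : hd q u v = 1)
    (hv : hd q v v = 0) : ∃ e : Fin m → F, hd q e e = 1 ∧ hd q u e = 0 ∧ hd q v e = 0 := by
  have hvu : hd q v u = 1 := by rw [hd_swap hF, huv, one_pow]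
  set R : (Fin m → F) → (Fin m → F) := fun x => x - hd q x v • u - hd q x u • v with hR
  have hRu : ∀ x, hd q (R x) u = 0 := fun x => by
    simp only [hR, sub_eq_add_neg, hd_add_left, ← neg_smul, hd_smul_left, hu, hvu]; ring
  have hRv : ∀ x, hd q (R x) v = 0 := fun x => by
    simp only [hR, sub_eq_add_neg, hd_add_left, ← neg_smul, hd_smul_left, huv, hv]; ring
  have key : ∀ z, hd q z z ≠ 0 → hd q u z = 0 → hd q v z = 0 →
      ∃ e : Fin m → F, hd q e e = 1 ∧ hd q u e = 0 ∧ hd q v e = 0 := by
    intro z hz h1 h2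
    obtain ⟨c, hc⟩ := TensorU.norm_exists hF (t := (hd q z z)⁻¹) (by rw [inv_pow, ← hd_swap hF])
    exact ⟨c • z, by rw [hd_smul_left, hd_smul_right, ← mul_assoc, hc, inv_mul_cancel₀ hz],
      by rw [hd_smul_right, h1, mul_zero], by rw [hd_smul_right, h2, mul_zero]⟩
  by_contra hne
  have hall : ∀ x, hd q (R x) (R x) = 0 := fun x => by
    by_contra h
    exact hne (key (R x) h (hd_swap0 hF (hRu x)) (hd_swap0 hF (hRv x)))
  have hcross : ∀ x y, hd q (R x) (R y) = 0 := by
    intro x y
    have hRadd : ∀ x y : Fin m → F, ∀ c : F, R (x + c • y) = R x + c • R y := fun x y c => by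
      simp only [hR, hd_add_left, hd_smul_left]; module
    have hcs : ∀ c : F, c * hd q (R y) (R x) + c ^ q * hd q (R x) (R y) = 0 := fun c => by
      have := hall (x + c • y)
      rw [hRadd, hd_add_left, hd_add_right hF, hd_add_right hF, hd_smul_left, hd_smul_left, hd_smul_right,
        hd_smul_right, hall, hall] at this
      linear_combination this
    obtain ⟨κ, hκ⟩ := TensorU.moved_exists hF
    have h1 := hcs 1
    have h2 := hcs κ
    rw [one_pow, one_mul, one_mul] at h1
    exact (mul_eq_zero.1 (show (κ ^ q - κ) * hd q (R x) (R y) = 0 by linear_combination h2 - κ * h1)).resolve_left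
      (sub_ne_zero.2 hκ)
  have hzero : ∀ x, R x = 0 := fun x => TensorU.eq_zero_of_forall hF fun y => by
    have e : y = R y + hd q y v • u + hd q y u • v := by simp only [hR]; abel
    show hd q (R x) y = 0
    rw [e, hd_add_right hF, hd_add_right hF, hd_smul_right, hd_smul_right, hcross, hRu, hRv]; ring
  have hspan : (⊤ : Submodule F (Fin m → F)) ≤ Submodule.span F ({u, v} : Set (Fin m → F)) := fun x _ => by
    have := hzero x
    simp only [hR, sub_eq_zero] at this
    exact Submodule.mem_span_pair.2 ⟨hd q x v, hd q x u, by rw [← this, add_sub_cancel]⟩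
  have h1 := Submodule.finrank_mono hspan
  rw [finrank_top, Module.finrank_fin_fun] at h1
  have h2 : Module.finrank F (Submodule.span F ({u, v} : Set (Fin m → F))) ≤ 2 := by
    classical
    refine (finrank_span_le_card _).trans ?_
    simp only [Set.toFinset_insert, Set.toFinset_singleton]
    exact Finset.card_le_two
  omega

/-- Transitivity on isotropic vectors. -/
lemma exists_su_iso (hm : 3 ≤ m) {u u' : Fin m → F} (hu0 : u ≠ 0) (hu : hd q u u = 0) (hu'0 : u' ≠ 0)
    (hu' : hd q u' u' = 0) : ∃ g ∈ suGL m F q, (g : Matrix (Fin m) (Fin m) F) *ᵥ u = u' := by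
  obtain ⟨v, huv, -, hv⟩ := exists_hyp' hF hu'0 hu'
  obtain ⟨e, he, hue, -⟩ := exists_unit_perp hF hm hu' huv hv
  obtain ⟨g, hg, hgu⟩ := exists_su_map hF ![u] ![u'] (LinearIndependent.of_subsingleton 0 hu0)
    (LinearIndependent.of_subsingleton 0 hu'0) (fun i j => by fin_cases i; fin_cases j; simp [hu, hu'])
    he (fun i => by fin_cases i; simpa using hue)
  exact ⟨g, hg, hgu 0⟩

/-- Transitivity on hyperbolic pairs. -/
lemma exists_su_pair (hm : 3 ≤ m) {u v : Fin m → F} (hu : hd q u u = 0) (huv : hd q u v = 1) (hv : hd q v v = 0)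
    {u' v' : Fin m → F} (hu' : hd q u' u' = 0) (huv' : hd q u' v' = 1) (hv' : hd q v' v' = 0) :
    ∃ g ∈ suGL m F q, (g : Matrix (Fin m) (Fin m) F) *ᵥ u = u' ∧ (g : Matrix (Fin m) (Fin m) F) *ᵥ v = v' := by
  have hli : ∀ {a b : Fin m → F}, hd q a a = 0 → hd q a b = 1 → hd q b b = 0 → LinearIndependent F ![a, b] := by
    intro a b ha hab hb
    refine LinearIndependent.pair_iff.2 fun s r h => ⟨?_, ?_⟩
    · have := congrArg (fun z => hd q z b) h
      simpa [hd_add_left, hd_smul_left, hab, hb, hd_zero_left] using this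
    · have := congrArg (fun z => hd q z a) h
      simpa [hd_add_left, hd_smul_left, ha, hd_swap hF a b, hab, hd_zero_left] using this
  obtain ⟨e, he, hue, hve⟩ := exists_unit_perp hF hm hu' huv' hv'
  obtain ⟨g, hg, hgu⟩ := exists_su_map hF ![u, v] ![u', v'] (hli hu huv hv) (hli hu' huv' hv')
    (fun i j => by
      fin_cases i <;> fin_cases j <;> simp [hu, hv, huv, hu', hv', huv', hd_swap hF u v, hd_swap hF u' v'])
    he (fun i => by fin_cases i <;> simp [hue, hve])
  exact ⟨g, hg, hgu 0, hgu 1⟩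

/-- Matrices containing the isotropic dyads and closed under sums and products contain all. -/
lemma mat_induction (hm : 3 ≤ m) (p : Matrix (Fin m) (Fin m) F → Prop) (hadd : ∀ A B, p A → p B → p (A + B))
    (hsmul : ∀ (c : F) A, p A → p (c • A)) (hmul : ∀ A B, p A → p B → p (A * B))
    (hroot : ∀ u : Fin m → F, hd q u u = 0 → p (vm q u u)) (Z : Matrix (Fin m) (Fin m) F) : p Z := by
  obtain ⟨u₀, hu₀0, hu₀⟩ := TensorU.exists_iso hF (m := m) (by omega)
  have h0 : p 0 := by simpa using hsmul 0 _ (hroot u₀ hu₀)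
  have hiso : ∀ u w : Fin m → F, hd q u u = 0 → hd q w w = 0 → p (vm q u w) := by
    intro u w hu hw
    have one : ∀ u w : Fin m → F, hd q u u = 0 → hd q w w = 0 → hd q w u ≠ 0 → p (vm q u w) := by
      intro u w hu hw h
      have := hsmul (hd q w u)⁻¹ _ (hmul _ _ (hroot u hu) (hroot w hw))
      rwa [vm_mul_vm, smul_smul, inv_mul_cancel₀ h, one_smul] at this
    rcases eq_or_ne u 0 with rfl | hu0
    · simpa [vm_zero_left] using h0
    rcases eq_or_ne w 0 with rfl | hw0
    · simpa [vm_zero_right (q_ne_zero hF)] using h0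
    by_cases h : hd q w u ≠ 0
    · exact one u w hu hw h
    push Not at h
    obtain ⟨z, hz, hzu, hzw⟩ : ∃ z, hd q z z = 0 ∧ hd q z u ≠ 0 ∧ hd q z w ≠ 0 := by
      by_contra hc
      push Not at hc
      obtain ⟨v, huv, hvu, hv⟩ := exists_hyp' hF hu0 hu
      obtain ⟨v', hwv, hv'w, hv'⟩ := exists_hyp' hF hw0 hw
      have h1 : hd q v w = 0 := hc v hv (by rw [hvu]; exact one_ne_zero)
      have h2 : hd q v' u = 0 := by_contra fun h2 => by
        have := hc v' hv' h2; rw [hv'w] at this; exact one_ne_zero this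
      set a := hd q v' v
      obtain ⟨c, hc0, hcs⟩ : ∃ c : F, c ≠ 0 ∧ c ^ q * a ^ q + c * a = 0 := by
        rcases eq_or_ne a 0 with ha | ha
        · exact ⟨1, one_ne_zero, by rw [ha, TensorU.zero_pow' hF]; ring⟩
        · obtain ⟨k, hk0, hk⟩ := TensorU.skew_exists hF
          refine ⟨k / a, div_ne_zero hk0 ha, ?_⟩
          rw [← mul_pow, div_mul_cancel₀ _ ha]
          linear_combination hk
      have := hc (v + c • v') (by
        rw [hd_add_left, hd_add_right hF, hd_add_right hF, hd_smul_left, hd_smul_left, hd_smul_right,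
          hd_smul_right, hv, hv', hd_swap hF v' v]
        linear_combination hcs) (by rw [hd_add_left, hd_smul_left, hvu, h2, mul_zero, add_zero]; exact one_ne_zero)
      rw [hd_add_left, hd_smul_left, h1, hv'w, zero_add, mul_one] at this
      exact hc0 this
    have hwz : hd q w z ≠ 0 := fun h0 => hzw (hd_swap0 hF h0)
    have := hsmul (hd q w z)⁻¹ _ (hmul _ _ (one u z hu hz hzu) (hroot w hw))
    rwa [vm_mul_vm, smul_smul, inv_mul_cancel₀ hwz, one_smul] at this
  have hright : ∀ (u : Fin m → F), hd q u u = 0 → ∀ w, p (vm q u w) := by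
    intro u hu w
    let S : Submodule F (Fin m → F) :=
      { carrier := {w | p (vm q u w)}
        zero_mem' := by simpa [vm_zero_right (q_ne_zero hF)] using h0
        add_mem' := fun {a b} ha hb => by
          show p _
          rw [vm_add_right hF]; exact hadd _ _ ha hb
        smul_mem' := fun c a ha => by
          show p _
          rw [vm_smul_right]; exact hsmul _ _ ha }
    exact TensorU.mem_of_iso hF (by omega) S (fun z hz => hiso u z hu hz) w
  have hall : ∀ u w : Fin m → F, p (vm q u w) := by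
    intro u w
    let S : Submodule F (Fin m → F) :=
      { carrier := {u | p (vm q u w)}
        zero_mem' := by simpa [vm_zero_left] using h0
        add_mem' := fun {a b} ha hb => by show p _; rw [vm_add_left]; exact hadd _ _ ha hb
        smul_mem' := fun c a ha => by show p _; rw [vm_smul_left]; exact hsmul _ _ ha }
    exact TensorU.mem_of_iso hF (by omega) S (fun z hz => hright z hz w) u
  rw [Matrix.matrix_eq_sum_single Z]
  refine Finset.sum_induction _ p hadd h0 fun a _ => Finset.sum_induction _ p hadd h0 fun b _ => ?_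
  rw [show Matrix.single a b (Z a b) = Z a b • vm q (Pi.single a 1) (Pi.single b 1) from Matrix.ext fun x y => by
    simp [vm_apply, Matrix.single_apply, Pi.single_apply, ite_and, zero_pow (q_ne_zero hF), eq_comm]
    split_ifs <;> simp_all [zero_pow (q_ne_zero hF)]]
  exact hsmul _ _ (hall _ _)

/-- A matrix vanishing on the isotropic vectors is scalar. -/
lemma scalar_of_quad (hm : 2 ≤ m) {Y : Matrix (Fin m) (Fin m) F} (h : ∀ u, hd q u u = 0 → hd q (Y *ᵥ u) u = 0) :
    (∀ a b, a ≠ b → Y a b = 0) ∧ ∀ a b, Y a a = Y b b := by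
  classical
  letI := Fintype.ofFinite F
  obtain ⟨β, hβ⟩ := TensorU.norm_exists hF (t := (-1 : F)) (by rw [TensorU.pow_neg hF, one_pow])
  have hβ0 : β ≠ 0 := fun h0 => by rw [h0, zero_mul] at hβ; simp at hβ
  have key : ∀ a b : Fin m, a ≠ b → ∀ l : F, l * l ^ q = 1 →
      (β * l) * Y a b + (β * l) ^ q * Y b a - (Y b b - Y a a) = 0 := by
    intro a b hab l hl
    have hN : β * l * (β * l) ^ q = -1 := by rw [mul_pow, mul_mul_mul_comm, hβ, hl, mul_one]
    have hu : hd q (Pi.single a 1 + (β * l) • Pi.single b (1 : F)) (Pi.single a 1 + (β * l) • Pi.single b 1) = 0 := by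
      simp only [hd_add_right hF, hd_smul_right, hd_single_right _ _ (q_ne_zero hF), Pi.add_apply, Pi.smul_apply,
        smul_eq_mul, Pi.single_eq_same, Pi.single_eq_of_ne hab, Pi.single_eq_of_ne hab.symm, mul_zero, add_zero,
        zero_add, mul_one]
      linear_combination hN
    have := h _ hu
    simp only [Matrix.mulVec_add, Matrix.mulVec_smul, Matrix.mulVec_single_one, hd_add_right hF, hd_smul_right,
      hd_single_right _ _ (q_ne_zero hF), Pi.add_apply, Pi.smul_apply, smul_eq_mul, Matrix.col_apply] at this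
    linear_combination this - Y b b * hN
  have hoff : ∀ a b : Fin m, a ≠ b → Y a b = 0 ∧ Y a a = Y b b := by
    intro a b hab
    open Polynomial in
      set P : F[X] := C (β * Y a b) * X ^ 2 - C (Y b b - Y a a) * X + C (β ^ q * Y b a) with hP
    have hroots : ∀ l : F, l * l ^ q = 1 → P.IsRoot l := fun l hl => by
      have h1 := key a b hab l hl
      simp only [hP, Polynomial.IsRoot, Polynomial.eval_add, Polynomial.eval_sub, Polynomial.eval_mul,
        Polynomial.eval_C, Polynomial.eval_pow, Polynomial.eval_X]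
      linear_combination l * h1 - β ^ q * Y b a * hl
    have hP0 : P = 0 := by
      refine Polynomial.eq_zero_of_natDegree_lt_card_of_eval_eq_zero' P
        (Finset.univ.filter fun l : F => l * l ^ q = 1) (fun l hl => hroots l (Finset.mem_filter.1 hl).2) ?_
      rw [card_phase hF]
      have : P.natDegree ≤ 2 := by rw [hP]; compute_degree
      have := CfsgLib.Forms.two_le_q hF
      omega
    have c2 := congrArg (fun R => Polynomial.coeff R 2) hP0
    have c1 := congrArg (fun R => Polynomial.coeff R 1) hP0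
    simp only [hP, Polynomial.coeff_add, Polynomial.coeff_sub, Polynomial.coeff_C_mul, Polynomial.coeff_X_pow,
      Polynomial.coeff_X, Polynomial.coeff_C, Polynomial.coeff_zero] at c2 c1
    norm_num at c2 c1
    exact ⟨c2.resolve_left hβ0, by linear_combination c1⟩
  exact ⟨fun a b hab => (hoff a b hab).1, fun a b => by
    rcases eq_or_ne a b with rfl | hab
    · rfl
    · exact (hoff a b hab).2⟩

/-! ### Sandwiches between dyads of one factor -/

omit hF in
/-- The part of a matrix between two vectors of a factor. -/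
def ev (q : ℕ) (i : Fin t) (y z : Fin m → F) (X : Mt t m F) : Mt t m F :=
  ∑ a, ∑ b, (y a ^ q * z b) • cmp i a b X

omit hF in
lemma com_ev (i : Fin t) (y z : Fin m → F) (X : Mt t m F) : Com i (ev q i y z X) :=
  com_sum _ fun _ _ => com_sum _ fun _ _ => (com_cmp i _ _ _).smul _

omit hF in
lemma ev_add (i : Fin t) (y z : Fin m → F) (X Y : Mt t m F) :
    ev q i y z (X + Y) = ev q i y z X + ev q i y z Y := by
  simp only [ev, cmp_add, smul_add, Finset.sum_add_distrib]

omit hF in
lemma ev_smul (i : Fin t) (y z : Fin m → F) (c : F) (X : Mt t m F) : ev q i y z (c • X) = c • ev q i y z X := by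
  simp only [ev, cmp_smul, Finset.smul_sum, smul_comm c]

omit hF in
lemma ev_zero (i : Fin t) (y z : Fin m → F) : ev q i y z (0 : Mt t m F) = 0 := by
  simpa using ev_smul (q := q) i y z (0 : F) (0 : Mt t m F)

omit hF in
lemma ev_com {i : Fin t} {C : Mt t m F} (hC : Com i C) (y z : Fin m → F) : ev q i y z C = hd q z y • C := by
  have h : ∀ a b, cmp i a b C = if a = b then C else 0 := fun a b => by
    rw [cmp, Finset.sum_congr rfl fun r _ => show eu i r a * C * eu i b r = eu i r a * eu i b r * C by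
      rw [mul_assoc, ← hC b r, ← mul_assoc], ← Finset.sum_mul]
    rcases eq_or_ne a b with rfl | hab
    · rw [if_pos rfl, Finset.sum_congr rfl fun r _ => eu_mul i r a r, sum_eu, one_mul]
    · rw [if_neg hab, Finset.sum_eq_zero fun r _ => eu_mul_ne i hab r r, zero_mul]
  simp only [ev, h, smul_ite, smul_zero, Finset.sum_ite_eq, Finset.mem_univ, if_true, hd, Finset.sum_smul, mul_comm]

omit hF in
lemma sandwich (i : Fin t) (x y z w : Fin m → F) (X : Mt t m F) :
    slot i (vm q x y) * X * slot i (vm q z w) = slot i (vm q x w) * ev q i y z X := by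
  have h : ∀ p a b s, (eu i p a : Mt t m F) * X * eu i b s = eu i p s * cmp i a b X := fun p a b s => by
    rw [cmp, Finset.mul_sum, Finset.sum_eq_single s]
    · rw [← mul_assoc, eu_mul']
    · intro r _ hr
      rw [← mul_assoc, eu_mul_ne' i hr.symm, zero_mul]
    · simp
  simp only [ev, slot_eq_sum, vm_apply, Finset.sum_mul, Finset.mul_sum, smul_mul_assoc, mul_smul_comm, Finset.smul_sum,
    smul_smul, h]
  rw [Finset.sum_congr rfl fun b _ => Finset.sum_congr rfl fun s _ => Finset.sum_comm,
    Finset.sum_congr rfl fun b _ => Finset.sum_comm, Finset.sum_comm]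
  refine Finset.sum_congr rfl fun a _ => Finset.sum_congr rfl fun b _ => ?_
  rw [Finset.sum_comm]
  exact Finset.sum_congr rfl fun p _ => Finset.sum_congr rfl fun s _ => congrArg (· • _) (by ring)

omit hF in
lemma slot_mul_com_eq_zero [NeZero m] {i : Fin t} {A : Matrix (Fin m) (Fin m) F} (hA : A ≠ 0) {C : Mt t m F}
    (hC : Com i C) (h : slot i A * C = 0) : C = 0 := by
  obtain ⟨a, b, hab⟩ : ∃ a b, A a b ≠ 0 := by
    by_contra hc; push Not at hc; exact hA (Matrix.ext hc)
  have h1 := congrArg (cmp i a b) h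
  rw [slot_eq_sum, Finset.sum_mul, cmp_sum, Finset.sum_eq_single a, Finset.sum_mul, cmp_sum,
    Finset.sum_eq_single b, smul_mul_assoc, cmp_smul, cmp_eu_mul hC, if_pos ⟨rfl, rfl⟩,
    show cmp i a b (0 : Mt t m F) = 0 by simp [cmp]] at h1
  · exact (smul_eq_zero.1 h1).resolve_left hab
  · intro b' _ hb'
    rw [smul_mul_assoc, cmp_smul, cmp_eu_mul hC, if_neg (fun h => hb' h.2.symm), smul_zero]
  · simp
  · intro a' _ ha'
    rw [Finset.sum_mul, cmp_sum]
    exact Finset.sum_eq_zero fun b' _ => by
      rw [smul_mul_assoc, cmp_smul, cmp_eu_mul hC, if_neg (fun h => ha' h.1.symm), smul_zero]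
  · simp

/-- A matrix with no part between equal isotropic vectors commutes with the factor. -/
lemma com_of_ev (hm : 2 ≤ m) {i : Fin t} {X : Mt t m F}
    (h : ∀ u : Fin m → F, hd q u u = 0 → ev q i u u X = 0) : Com i X := by
  haveI : NeZero m := ⟨by omega⟩
  have key : ∀ x y, (∀ a b, a ≠ b → cmp i a b X x y = 0) ∧ ∀ a b, cmp i a a X x y = cmp i b b X x y := fun x y =>
    scalar_of_quad hF hm (Y := Matrix.of fun a b => cmp i a b X x y) fun u hu => by
      have h1 := congrFun (congrFun (h u hu) x) y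
      simp only [ev, Matrix.sum_apply, Matrix.smul_apply, smul_eq_mul, Matrix.zero_apply] at h1
      rw [← h1]
      simp only [hd, Matrix.mulVec, dotProduct, Matrix.of_apply, Finset.sum_mul]
      exact Finset.sum_congr rfl fun a _ => Finset.sum_congr rfl fun b _ => by ring
  have e : X = cmp i 0 0 X := by
    conv_lhs => rw [← sum_eu_cmp i X]
    have : ∀ a b, cmp i a b X = if a = b then cmp i 0 0 X else 0 := fun a b => Matrix.ext fun x y => by
      rcases eq_or_ne a b with rfl | hab
      · rw [if_pos rfl]; exact (key x y).2 a 0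
      · rw [if_neg hab]; exact (key x y).1 a b hab
    rw [Finset.sum_congr rfl fun p _ => Finset.sum_congr rfl fun q _ => by rw [this p q]]
    simp only [mul_ite, mul_zero, Finset.sum_ite_eq, Finset.mem_univ, if_true]
    rw [← Finset.sum_mul, sum_eu, one_mul]
  rw [e]
  exact com_cmp i _ _ _

end CfsgLib.Geo.TensorPow.U
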