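/-
Pure tensors of vectors: linearity in one factor, products, and the transvections centred at vectors.
-/
import Cfsg.Agent.Geo.TensorPow.U.Space

set_option autoImplicit false
set_option linter.unusedSectionVars false

namespace CfsgLib.Geo.TensorPow.U

open Matrix CfsgLib.Aschbacher CfsgLib.Geo.UTv
open scoped MatrixGroups

variable {F : Type*} [Field F] {q t m : ℕ}

lemma pv_update_apply (v : Fin t → Fin m → F) (i : Fin t) (x : Fin m → F) (a : Fin t → Fin m) :
    pv (Function.update v i x) a = x (a i) * ∏ l ∈ Finset.univ.erase i, v l (a l) := by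
  simp only [pv]
  rw [← Finset.mul_prod_erase _ _ (Finset.mem_univ i), Function.update_self]
  congr 1
  exact Finset.prod_congr rfl fun l hl => by rw [Function.update_of_ne (Finset.ne_of_mem_erase hl)]

/-- A pure tensor as a linear map in one factor. -/
def pvL (v : Fin t → Fin m → F) (i : Fin t) : (Fin m → F) →ₗ[F] ((Fin t → Fin m) → F) where
  toFun x := pv (Function.update v i x)
  map_add' x y := by funext a; simp [pv_update_apply, add_mul]
  map_smul' c x := by funext a; simp [pv_update_apply, mul_assoc]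

lemma pvL_apply (v : Fin t → Fin m → F) (i : Fin t) (x : Fin m → F) : pvL v i x = pv (Function.update v i x) := rfl

lemma pvL_self (v : Fin t → Fin m → F) (i : Fin t) : pvL v i (v i) = pv v := by
  rw [pvL_apply, Function.update_eq_self]

lemma pvL_update (v : Fin t → Fin m → F) (i : Fin t) (y : Fin m → F) :
    pvL (Function.update v i y) i = pvL v i := LinearMap.ext fun x => by
  rw [pvL_apply, pvL_apply, Function.update_idem]

lemma pv_eq_zero {v : Fin t → Fin m → F} {i : Fin t} (h : v i = 0) : pv v = 0 := by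
  rw [← pvL_self v i, h, map_zero]

lemma slot_mulVec_pv (i : Fin t) (A : Matrix (Fin m) (Fin m) F) (v : Fin t → Fin m → F) :
    (slot i A : Mt t m F) *ᵥ pv v = pv (Function.update v i (A *ᵥ v i)) := by
  rw [slot, tens_mulVec_pv]
  congr 1
  funext l
  rcases eq_or_ne l i with rfl | hl
  · simp
  · simp [Function.update_of_ne hl]

lemma pv_ne_zero {v : Fin t → Fin m → F} (h : ∀ l, v l ≠ 0) : pv v ≠ 0 := by
  choose a ha using fun l => Function.ne_iff.1 (h l)
  exact fun h0 => Finset.prod_ne_zero_iff.2 (fun l _ => ha l) (congrFun h0 a)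

lemma tv_mulVec {ι : Type} [Fintype ι] [DecidableEq ι] (c : F) (v x : ι → F) :
    (1 + c • vm q v v) *ᵥ x = x + (c * hd q x v) • v := by
  rw [Matrix.add_mulVec, Matrix.one_mulVec, Matrix.smul_mulVec, vm_mulVec, smul_smul]

variable [Finite F] (hF : Nat.card F = q ^ 2)
include hF

omit hF in
lemma hd_pvL (v w : Fin t → Fin m → F) (i : Fin t) (x y : Fin m → F) :
    hd q (pvL v i x) (pvL w i y) = hd q x y * ∏ l ∈ Finset.univ.erase i, hd q (v l) (w l) := by
  rw [pvL_apply, pvL_apply, hd_pv, ← Finset.mul_prod_erase _ _ (Finset.mem_univ i), Function.update_self,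
    Function.update_self]
  congr 1
  exact Finset.prod_congr rfl fun l hl => by
    rw [Function.update_of_ne (Finset.ne_of_mem_erase hl), Function.update_of_ne (Finset.ne_of_mem_erase hl)]

omit hF in
lemma hd_pv_eq_zero {v w : Fin t → Fin m → F} {i : Fin t} (h : hd q (v i) (w i) = 0) : hd q (pv v) (pv w) = 0 := by
  rw [hd_pv]; exact Finset.prod_eq_zero (Finset.mem_univ i) h

lemma vm_pv_ne_zero {v w : Fin t → Fin m → F} (hv : ∀ l, v l ≠ 0) (hw : ∀ l, w l ≠ 0) :
    vm q (pv v) (pv w) ≠ 0 := by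
  intro h
  obtain ⟨a, ha⟩ := Function.ne_iff.1 (pv_ne_zero hv)
  obtain ⟨b, hb⟩ := Function.ne_iff.1 (pv_ne_zero hw)
  exact mul_ne_zero ha (pow_ne_zero q hb) (congrFun (congrFun h a) b)

/-- A fixed element of the field other than zero and one. -/
lemma exists_fixed (hq : 3 ≤ q) : ∃ s : F, s ^ q = s ∧ s ≠ 0 ∧ s ≠ 1 := by
  classical
  haveI := Fintype.ofFinite F
  by_contra hcon
  push Not at hcon
  have hsub : (Finset.univ.erase (0 : F)) ⊆ Finset.univ.filter fun t : F => t * t ^ q = 1 := fun t ht =>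
    Finset.mem_filter.2 ⟨Finset.mem_univ _, hcon _ (norm_fix hF t)
      (mul_ne_zero (Finset.mem_erase.1 ht).1 (pow_ne_zero _ (Finset.mem_erase.1 ht).1))⟩
  have := Finset.card_le_card hsub
  rw [Finset.card_erase_of_mem (Finset.mem_univ _), Finset.card_univ, card_phase hF, ← Nat.card_eq_fintype_card,
    hF] at this
  have : 3 * q ≤ q ^ 2 := by rw [sq]; exact Nat.mul_le_mul_right q hq
  omega

/-- The field with four elements. -/
lemma exists_omega (hq : q = 2) : (2 : F) = 0 ∧ ∃ w : F, w * w = w + 1 ∧ w ^ q = w + 1 ∧ w ≠ 0 := by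
  subst hq
  haveI := Fintype.ofFinite F
  have h2 : (2 : F) = 0 := by
    have h := FiniteField.cast_card_eq_zero F
    rw [← Nat.card_eq_fintype_card, hF, show ((2 ^ 2 : ℕ) : F) = 2 * 2 by norm_num] at h
    exact mul_self_eq_zero.1 h
  obtain ⟨w, hw⟩ := TensorU.moved_exists hF
  have h0 : w ≠ 0 := fun h => hw (by rw [h]; simp)
  have h1 : w - 1 ≠ 0 := fun h => hw (by rw [sub_eq_zero.1 h]; simp)
  have h4 := qq hF w
  have : w * (w - 1) * (w * w + w + 1) = 0 := by linear_combination h4
  have hsq : w * w = w + 1 := by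
    linear_combination (mul_eq_zero.1 this).resolve_left (mul_ne_zero h0 h1) - (w + 1) * h2
  exact ⟨h2, w, hsq, by rw [pow_two, hsq], h0⟩

variable {M : Subgroup (GL (Fin t → Fin m) F)}

lemma fullAt_conj (hM : UBase q M) {G : Mt t m F} (hG : Mem M G) {v : (Fin t → Fin m) → F} (h : FullAt q M v) :
    FullAt q M (G *ᵥ v) := by
  obtain ⟨g, hg, rfl⟩ := hG
  have hu := hM.iso g hg
  refine ⟨by rw [(isU_iff hF _).1 hu]; exact h.1, fun c hc => ?_⟩
  obtain ⟨x, hx, hxv⟩ := h.2 c hc
  refine ⟨g * x * g⁻¹, M.mul_mem (M.mul_mem hg hx) (M.inv_mem hg), ?_⟩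
  rw [Units.val_mul, Units.val_mul, hxv, show ((g⁻¹ : GL (Fin t → Fin m) F) : Mt t m F) = st q (g : Mt t m F) from
    Units.inv_eq_of_mul_eq_one_left hu, mul_add, mul_one, add_mul, mul_eq_one_comm.1 hu, mul_smul_comm,
    smul_mul_assoc, mul_vm, vm_mul hF, st_st hF]

lemma fullAt_zero : FullAt q M (0 : (Fin t → Fin m) → F) :=
  ⟨hd_zero_left _, fun c _ => ⟨1, M.one_mem, by rw [vm_zero_left, smul_zero, add_zero]; rfl⟩⟩

lemma fullAt_smul {v : (Fin t → Fin m) → F} (h : FullAt q M v) (a : F) : FullAt q M (a • v) := by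
  refine ⟨by rw [hd_smul_left, hd_smul_right, h.1, mul_zero, mul_zero], fun c hc => ?_⟩
  obtain ⟨x, hx, hxv⟩ := h.2 (c * (a * a ^ q)) (by
    rw [mul_pow, mul_pow, qq hF]; linear_combination (a * a ^ q) * hc)
  exact ⟨x, hx, by rw [hxv, vm_smul_left, vm_smul_right, smul_smul, smul_smul, mul_assoc]⟩

lemma fullAt_tv (hM : UBase q M) {v w : (Fin t → Fin m) → F} (hv : FullAt q M v) (hw : FullAt q M w) {c : F}
    (hc : c + c ^ q = 0) : FullAt q M (w + (c * hd q w v) • v) := by
  have := fullAt_conj hF hM (hv.2 c hc) hw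
  rwa [tv_mulVec] at this

lemma fullAt_slot (hM : UBase q M) {v : Fin t → Fin m → F} (h : FullAt q M (pv v)) (i : Fin t)
    {g : GL (Fin m) F} (hg : g ∈ suGL m F q) :
    FullAt q M (pvL v i ((g : Matrix (Fin m) (Fin m) F) *ᵥ v i)) := by
  have := fullAt_conj hF hM (hM.slot_mem i g hg) h
  rwa [slot_mulVec_pv] at this

end CfsgLib.Geo.TensorPow.U
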