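/-
All transvections with pure centres having an isotropic factor, from those with one all-isotropic centre.
-/
import Cfsg.Agent.Geo.TensorPow.U.Vec

set_option autoImplicit false
set_option linter.unusedSectionVars false

namespace CfsgLib.Geo.TensorPow.U

open Matrix CfsgLib.Aschbacher CfsgLib.Geo.UTv
open scoped MatrixGroups

variable {F : Type*} [Field F] {q t m : ℕ} [Finite F] (hF : Nat.card F = q ^ 2)
variable {M : Subgroup (GL (Fin t → Fin m) F)}
include hF

/-- Transvections of a hyperbolic pair scale the first vector. -/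
lemma exists_pair_torus (hM : UBase q M) {A B : (Fin t → Fin m) → F} (hA : FullAt q M A) (hB : FullAt q M B)
    (hAB : hd q A B = 1) {s : F} (hs : s ^ q = s) (hs0 : s ≠ 0) :
    ∀ z, hd q z A = 0 → FullAt q M z → FullAt q M (z + ((s - 1) * hd q z B) • A) := by
  intro z hzA hz
  obtain ⟨κ, hκ0, hκ⟩ := TensorU.skew_exists hF
  have hBA : hd q B A = 1 := by rw [hd_swap hF, hAB, one_pow]
  -- move along `B`, then `A`, then back
  set c := κ with hc
  set d := (s - 1) / κ with hd'
  set e := -c / (1 + c * d) with he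
  have hκq : κ ^ q = -κ := eq_neg_of_add_eq_zero_right hκ
  have hd1 : d + d ^ q = 0 := by
    rw [hd', div_pow, TensorU.pow_sub hF, hs, one_pow, hκq, div_neg, add_neg_cancel]
  have hcd : 1 + c * d = s := by rw [hd', hc, mul_div_cancel₀ _ hκ0, add_sub_cancel]
  have he1 : e + e ^ q = 0 := by
    rw [he, hcd, div_pow, TensorU.pow_neg hF, hs, hκq, neg_neg, neg_div, neg_add_cancel]
  set D := hd q z B with hD
  have h1 := fullAt_tv hF hM hB hz hκ
  have h2 := fullAt_tv hF hM hA h1 hd1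
  have h3 := fullAt_tv hF hM hB h2 he1
  convert h3 using 1
  simp only [hd_add_left, hd_smul_left, hzA, hBA, hB.1, hAB]
  rw [← hD]
  have e1 : (s - 1) * D = d * (κ * D) := by rw [hd', ← mul_assoc, div_mul_cancel₀ _ hκ0]
  have e2 : c * D + e * (D + d * (c * D)) = 0 := by
    rw [he, show D + d * (c * D) = D * (1 + c * d) by ring, hcd]; field_simp; ring
  rw [← sub_eq_zero]
  have key : ∀ a b a' : F, a = a' → b = 0 → z + a' • A - (z + a • A + b • B) = 0 := fun a b a' h h' => by
    rw [h, h']; module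
  convert key (d * (κ * D)) (c * D + e * (D + d * (c * D))) _ e1.symm e2 using 1
  simp only [mul_zero, zero_add, add_zero, mul_one, hc]
  module

/-- Anisotropic vectors are moved to each other up to scalars. -/
lemma exists_su_scale {x y f : Fin m → F} (hx : hd q x x ≠ 0) (hy : hd q y y ≠ 0) (hf : hd q f f = 1)
    (hyf : hd q y f = 0) : ∃ g ∈ suGL m F q, ∃ l : F, (g : Matrix (Fin m) (Fin m) F) *ᵥ y = l • x := by
  obtain ⟨l, hl⟩ := TensorU.norm_exists hF (t := hd q y y / hd q x x) (by rw [div_pow, ← hd_swap hF, ← hd_swap hF])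
  have hl0 : l ≠ 0 := fun h => by rw [h, zero_mul] at hl; exact div_ne_zero hy hx hl.symm
  have hn : hd q (l • x) (l • x) = hd q y y := by
    rw [hd_smul_left, hd_smul_right, ← mul_assoc, hl, div_mul_cancel₀ _ hx]
  obtain ⟨g, hg, hgu⟩ := exists_su_map hF ![l • x] ![y]
    (LinearIndependent.of_subsingleton 0 (smul_ne_zero hl0 fun h => hx (by rw [h, hd_zero_left])))
    (LinearIndependent.of_subsingleton 0 fun h => hy (by simp only [Matrix.cons_val_fin_one] at h; rw [h, hd_zero_left]))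
    (fun i j => by fin_cases i; fin_cases j; simpa using hn) hf (fun i => by fin_cases i; simpa using hyf)
  refine ⟨g⁻¹, inv_mem hg, l, ?_⟩
  have := hgu 0
  simp only [Matrix.cons_val_fin_one] at this
  rw [← this, inv_mulVec_mulVec]

/-- A factor becomes anisotropic next to an isotropic one. -/
lemma fullAt_step (hM : UBase q M) (hm : 3 ≤ m) (hex : ¬ (q = 2 ∧ m = 3)) {i j : Fin t} (hij : i ≠ j)
    {v : Fin t → Fin m → F} (hui : hd q (v i) (v i) = 0) (hxj : hd q (v j) (v j) ≠ 0)
    (hIH : ∀ w : Fin t → Fin m → F, hd q (w i) (w i) = 0 → hd q (w j) (w j) = 0 →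
      (∀ l, l ≠ i → l ≠ j → (hd q (w l) (w l) = 0 ↔ hd q (v l) (v l) = 0)) → FullAt q M (pv w)) :
    FullAt q M (pv v) := by
  classical
  by_cases hv0 : ∃ l, v l = 0
  · obtain ⟨l, hl⟩ := hv0; rw [pv_eq_zero hl]; exact fullAt_zero hF
  push Not at hv0
  obtain ⟨u', hu', hu'u, hu'0⟩ := exists_hyp' hF (hv0 i) hui
  -- a partner of the other factors
  have hr : ∀ l, ∃ r : Fin m → F, hd q (v l) r = 1 ∧ (hd q r r = 0 ↔ hd q (v l) (v l) = 0) := fun l => by
    by_cases h : hd q (v l) (v l) = 0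
    · obtain ⟨r, h1, -, h2⟩ := exists_hyp' hF (hv0 l) h
      exact ⟨r, h1, by simp [h, h2]⟩
    · refine ⟨(hd q (v l) (v l))⁻¹ • v l, ?_, ?_⟩
      · rw [hd_smul_right, inv_pow, ← hd_swap hF, inv_mul_cancel₀ h]
      · rw [hd_smul_left, hd_smul_right, inv_pow, ← hd_swap hF, inv_mul_cancel₀ h, mul_one]
        simp [h]
  choose r hr1 hr2 using hr
  set r' := Function.update r i u' with hr'
  have hrv : ∀ l, hd q (v l) (r' l) = 1 := fun l => by
    rcases eq_or_ne l i with rfl | hl
    · rw [hr', Function.update_self]; exact hu'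
    · rw [hr', Function.update_of_ne hl]; exact hr1 l
  have hprod : ∏ l ∈ Finset.univ.erase j, hd q (v l) (r' l) = 1 := Finset.prod_eq_one fun l _ => hrv l
  have hprod' : ∏ l ∈ Finset.univ.erase j, hd q (r' l) (v l) = 1 :=
    Finset.prod_eq_one fun l _ => by rw [hd_swap hF, hrv, one_pow]
  have hFv : ∀ x, hd q x x = 0 → FullAt q M (pvL v j x) := fun x hx => by
    rw [pvL_apply]
    refine hIH _ (by rwa [Function.update_of_ne hij]) (by rwa [Function.update_self]) fun l _ hlj => ?_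
    rw [Function.update_of_ne hlj]
  have hFr : ∀ x, hd q x x = 0 → FullAt q M (pvL r' j x) := fun x hx => by
    rw [pvL_apply]
    refine hIH _ ?_ (by rwa [Function.update_self]) fun l hli hlj => ?_
    · rw [Function.update_of_ne hij, hr', Function.update_self]; exact hu'0
    · rw [Function.update_of_ne hlj, hr', Function.update_of_ne hli]; exact hr2 l
  have hvv : ∀ x y, hd q (pvL v j x) (pvL v j y) = 0 := fun x y => by
    rw [hd_pvL, Finset.prod_eq_zero (Finset.mem_erase.2 ⟨hij, Finset.mem_univ i⟩) hui, mul_zero]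
  have hvr : ∀ x y, hd q (pvL v j x) (pvL r' j y) = hd q x y := fun x y => by rw [hd_pvL, hprod, mul_one]
  have hrv' : ∀ x y, hd q (pvL r' j x) (pvL v j y) = hd q x y := fun x y => by rw [hd_pvL, hprod', mul_one]
  -- one anisotropic vector
  suffices h : ∃ y f : Fin m → F, hd q y y ≠ 0 ∧ hd q f f = 1 ∧ hd q y f = 0 ∧ FullAt q M (pvL v j y) by
    obtain ⟨y, f, hy, hf, hyf, hfull⟩ := h
    obtain ⟨g, hg, l, hgl⟩ := exists_su_scale hF hxj hy hf hyf
    have h1 := fullAt_slot hF hM (v := Function.update v j y) (by rwa [← pvL_apply]) j hg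
    rw [pvL_update, Function.update_self, hgl, map_smul, pvL_self] at h1
    have hl : l ≠ 0 := fun h0 => hy (by
      rw [← inv_mulVec_mulVec g y, hgl, h0, zero_smul, Matrix.mulVec_zero, hd_zero_left])
    have := fullAt_smul hF h1 l⁻¹
    rwa [smul_smul, inv_mul_cancel₀ hl, one_smul] at this
  by_cases hq : 3 ≤ q
  · obtain ⟨s, hs, hs0, hs1⟩ := exists_fixed hF hq
    obtain ⟨p, hp0, hp⟩ := TensorU.exists_iso hF (m := m) (by omega)
    obtain ⟨p', hpp', hp'p, hp'⟩ := exists_hyp' hF hp0 hp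
    change hd q p p = 0 at hp
    obtain ⟨e, he, hpe, hp'e⟩ := exists_unit_perp hF hm hp hpp' hp'
    obtain ⟨β, hβ⟩ := TensorU.trace_exists hF (t := (-1 : F)) (by rw [TensorU.pow_neg hF, one_pow])
    set y0 := p + β • p' + e with hy0
    have hy0' : hd q y0 y0 = 0 := by
      simp only [hy0, hd_add_left, hd_add_right hF, hd_smul_left, hd_smul_right, hp, hp', hpp', hp'p, he, hpe, hp'e,
        hd_swap0 hF hpe, hd_swap0 hF hp'e]
      linear_combination hβ
    have hy0p' : hd q y0 p' = 1 := by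
      simp only [hy0, hd_add_left, hd_smul_left, hp', hpp', hd_swap0 hF hp'e]; ring
    have h1 := exists_pair_torus hF hM (hFv p hp) (hFr p' hp') (by rw [hvr, hpp']) hs hs0 _ (hvv y0 p) (hFv y0 hy0')
    rw [hvr, hy0p', mul_one, ← map_smul, ← map_add] at h1
    set y := y0 + (s - 1) • p with hy
    have hny : hd q y y = 1 - s := by
      simp only [hy, hy0, hd_add_left, hd_add_right hF, hd_smul_left, hd_smul_right, hp, hp', hpp', hp'p, he, hpe,
        hp'e, hd_swap0 hF hpe, hd_swap0 hF hp'e, TensorU.pow_sub hF, hs, one_pow]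
      linear_combination s * hβ
    obtain ⟨γ, hγ⟩ : ∃ γ : F, γ = -(β ^ q) := ⟨_, rfl⟩
    set w := s • p + γ • p' with hw
    have hs2 : s + (1 - s) = 1 := by ring
    have hwy : hd q y w = 0 := by
      simp only [hy, hy0, hw, hd_add_left, hd_add_right hF, hd_smul_left, hd_smul_right, hp, hp', hpp', hp'p,
        hd_swap0 hF hpe, hd_swap0 hF hp'e, hs, hγ, TensorU.pow_neg hF, mul_pow, qq hF]
      ring
    have hnw : hd q w w = s := by
      simp only [hw, hd_add_left, hd_add_right hF, hd_smul_left, hd_smul_right, hp, hp', hpp', hp'p, hs, hγ,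
        TensorU.pow_neg hF, qq hF]
      linear_combination -s * hβ
    obtain ⟨c, hc⟩ := TensorU.norm_exists hF (t := s⁻¹) (by rw [inv_pow, hs])
    refine ⟨y, c • w, by rw [hny]; exact sub_ne_zero.2 (Ne.symm hs1), ?_, ?_, h1⟩
    · rw [hd_smul_left, hd_smul_right, hnw, ← mul_assoc, hc, inv_mul_cancel₀ hs0]
    · rw [hd_smul_right, hwy, mul_zero]
  · obtain rfl : q = 2 := by have := CfsgLib.Forms.two_le_q hF; omega
    have hm4 : 4 ≤ m := by have : m ≠ 3 := fun h => hex ⟨rfl, h⟩; omega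
    obtain ⟨h2, ω, hω, hωq, hω0⟩ := exists_omega hF rfl
    set E : Fin 4 → Fin m → F := fun a => Pi.single (Fin.castLE hm4 a) 1 with hE
    have hEE : ∀ a b, hd 2 (E a) (E b) = if a = b then 1 else 0 := fun a b => by
      simp only [hE]
      rw [hd_single_right _ _ two_ne_zero, Pi.single_apply]
      simp [(Fin.castLE_injective hm4).eq_iff, eq_comm]
    -- two orthogonal hyperbolic pairs
    set p := E 0 + E 1 with hpdef
    set p' := ω • E 0 + (ω + 1) • E 1 with hp'def
    set r₂ := E 2 + E 3 with hr₂def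
    set r₂' := ω • E 2 + (ω + 1) • E 3 with hr₂'def
    obtain ⟨hp, hp', hpp', hp'p, hr, hr', hrr', hr'r⟩ : hd 2 p p = 0 ∧ hd 2 p' p' = 0 ∧ hd 2 p p' = 1 ∧
        hd 2 p' p = 1 ∧ hd 2 r₂ r₂ = 0 ∧ hd 2 r₂' r₂' = 0 ∧ hd 2 r₂ r₂' = 1 ∧ hd 2 r₂' r₂ = 1 := by
      refine ⟨?_, ?_, ?_, ?_, ?_, ?_, ?_, ?_⟩ <;>
        simp [hpdef, hp'def, hr₂def, hr₂'def, hd_add_left, hd_add_right hF, hd_smul_left, hd_smul_right, hEE,
          TensorU.pow_add hF] <;> grind
    obtain ⟨hpr, hpr', hp'r, hp'r', hrp, hr'p, hrp', hr'p'⟩ : hd 2 p r₂ = 0 ∧ hd 2 p r₂' = 0 ∧ hd 2 p' r₂ = 0 ∧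
        hd 2 p' r₂' = 0 ∧ hd 2 r₂ p = 0 ∧ hd 2 r₂' p = 0 ∧ hd 2 r₂ p' = 0 ∧ hd 2 r₂' p' = 0 := by
      refine ⟨?_, ?_, ?_, ?_, ?_, ?_, ?_, ?_⟩ <;>
        simp [hpdef, hp'def, hr₂def, hr₂'def, hd_add_left, hd_add_right hF, hd_smul_left, hd_smul_right, hEE]
    have h11 : (1 : F) + 1 ^ 2 = 0 := by linear_combination h2
    have ha : hd 2 (ω • p + r₂') (ω • p + r₂') = 0 := by
      simp [hd_add_left, hd_add_right hF, hd_smul_left, hd_smul_right, hp, hr', hpr', hr'p]
    -- a full vector off the pure ones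
    have hZ := fullAt_tv hF hM (hFv r₂' hr') (fullAt_tv hF hM (hFv _ ha) (hFr r₂ hr) h11) h11
    rw [hrv', hd_add_right hF, hd_smul_right, hrp, hrr', mul_zero, zero_add, one_mul, one_smul, hd_add_left, hrv',
      hrr', hvv, add_zero, one_mul, one_smul, add_assoc, ← map_add,
      show ω • p + r₂' + r₂' = ω • p by rw [add_assoc, ← two_smul F, h2, zero_smul, add_zero]] at hZ
    set y0 := p' + r₂' with hy0def
    have hy0 : hd 2 y0 y0 = 0 := by simp [hy0def, hd_add_left, hd_add_right hF, hp', hr', hp'r', hr'p']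
    have h1 := fullAt_tv hF hM (hFr r₂ hr) (fullAt_tv hF hM hZ (hFv y0 hy0) h11) h11
    have c1 : hd 2 (pvL v j y0) (pvL r' j r₂ + pvL v j (ω • p)) = 1 := by
      rw [hd_add_right hF, hvv, hvr, add_zero, hy0def, hd_add_left, hp'r, hr'r, zero_add]
    rw [c1] at h1
    simp only [one_mul, one_smul, hd_add_left, hd_smul_left, hvr, (hFr r₂ hr).1, hy0def, hpr, hp'r, hr'r, mul_zero,
      add_zero, zero_add] at h1
    rw [show pvL v j (p' + r₂') + (pvL r' j r₂ + pvL v j (ω • p)) + pvL r' j r₂ =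
      pvL v j (p' + r₂' + ω • p) by
        rw [map_add (pvL v j) (p' + r₂')]
        calc _ = pvL v j (p' + r₂') + pvL v j (ω • p) + (2 : F) • pvL r' j r₂ := by module
          _ = _ := by rw [h2, zero_smul, add_zero]] at h1
    set y := p' + r₂' + ω • p with hy
    have hny : hd 2 y y = 1 := by
      simp [hy, hd_add_left, hd_add_right hF, hd_smul_left, hd_smul_right, hp, hp', hr', hp'r', hr'p', hpr', hr'p,
        hp'p, hpp']
      grind
    obtain ⟨f', hf', hyf'⟩ : ∃ f', hd 2 f' f' = 1 ∧ hd 2 y f' = 0 := by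
      refine ⟨r₂ + ω • p + p', ?_, ?_⟩ <;>
        simp [hy, hd_add_left, hd_add_right hF, hd_smul_left, hd_smul_right, hp, hp', hr, hp'r, hrp', hpr, hrp,
          hr'p', hr'p, hp'p, hpp', hr'r] <;> grind
    exact ⟨y, f', by rw [hny]; exact one_ne_zero, hf', hyf', h1⟩

/-- Full centres at all pure vectors with an isotropic factor from one all-isotropic one. -/
theorem fullAt_all (hM : UBase q M) (hm : 3 ≤ m) (hex : ¬ (q = 2 ∧ m = 3)) {u : Fin m → F} (hu0 : u ≠ 0)
    (hu : hd q u u = 0) (h0 : FullAt q M (pv fun _ : Fin t => u)) :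
    ∀ v : Fin t → Fin m → F, (∃ l, hd q (v l) (v l) = 0) → FullAt q M (pv v) := by
  classical
  have hiso : ∀ v : Fin t → Fin m → F, (∀ l, hd q (v l) (v l) = 0) → FullAt q M (pv v) := by
    intro v hv
    suffices hs : ∀ S : Finset (Fin t), FullAt q M (pv (S.piecewise v fun _ => u)) by simpa using hs Finset.univ
    intro S
    induction S using Finset.induction_on with
    | empty => simpa using h0
    | insert l S hl ih =>
      rw [Finset.piecewise_insert]
      rcases eq_or_ne (v l) 0 with h | h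
      · rw [pv_eq_zero (i := l) (by rw [Function.update_self, h])]; exact fullAt_zero hF
      · obtain ⟨g, hg, hgu⟩ := exists_su_iso hF hm hu0 hu h (hv l)
        have := fullAt_slot hF hM ih l hg
        rwa [Finset.piecewise_eq_of_notMem _ _ _ hl, hgu, pvL_apply] at this
  intro v
  induction hn : (Finset.univ.filter fun l => hd q (v l) (v l) ≠ 0).card using Nat.strong_induction_on generalizing v with
  | _ n ih =>
    rintro ⟨i, hi⟩
    by_cases hall : ∀ l, hd q (v l) (v l) = 0
    · exact hiso v hall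
    push Not at hall
    obtain ⟨j, hj⟩ := hall
    refine fullAt_step hF hM hm hex (i := i) (j := j) (fun e => hj (e ▸ hi)) hi hj fun w hwi hwj hw => ?_
    refine ih _ ?_ w rfl ⟨i, hwi⟩
    rw [← hn]
    refine Finset.card_lt_card ((Finset.ssubset_iff_of_subset fun l hl => ?_).2 ⟨j, by simp [hj], by simp [hwj]⟩)
    simp only [Finset.mem_filter, Finset.mem_univ, true_and] at hl ⊢
    rcases eq_or_ne l i with rfl | hli
    · exact absurd hwi hl
    rcases eq_or_ne l j with rfl | hlj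
    · exact hj
    · exact fun h => hl ((hw l hli hlj).2 h)

/-- A single transvection with a pure isotropic centre gives all of them. -/
lemma fullAt_of_one (hM : UBase q M) (hm : 3 ≤ m) (ht : 0 < t) {u : Fin m → F} (hu0 : u ≠ 0) (hu : hd q u u = 0)
    {c : F} (hc : c ≠ 0) (h : Mem M (1 + c • vm q (pv fun _ : Fin t => u) (pv fun _ : Fin t => u))) :
    FullAt q M (pv fun _ : Fin t => u) := by
  classical
  set i : Fin t := ⟨0, ht⟩
  set w := pv fun _ : Fin t => u with hwdef
  have hw0 : hd q w w = 0 := hd_pv_eq_zero (i := i) hu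
  have hV : vm q w w ≠ 0 := vm_pv_ne_zero hF (fun _ => hu0) fun _ => hu0
  obtain ⟨g, hg, hgv⟩ := h
  have hskew : c + c ^ q = 0 := by
    have h1 := hM.iso g hg
    rw [hgv, st_add hF, st_one hF, st_smul hF, st_vm hF, add_mul, one_mul, mul_add, mul_one, smul_mul_smul_comm,
      vm_mul_vm, hw0, zero_smul, smul_zero, add_zero, add_assoc, add_eq_left, ← add_smul] at h1
    exact (smul_eq_zero.1 h1).resolve_right hV
  refine ⟨hw0, fun c' hc' => ?_⟩
  rcases eq_or_ne c' 0 with rfl | hc'0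
  · exact ⟨1, M.one_mem, by rw [zero_smul, add_zero]; rfl⟩
  obtain ⟨a, ha⟩ := TensorU.norm_exists hF (t := c' / c) (by
    rw [div_pow, eq_neg_of_add_eq_zero_right hskew, eq_neg_of_add_eq_zero_right hc', neg_div_neg_eq])
  have ha0 : a ≠ 0 := fun h0 => by rw [h0, zero_mul] at ha; exact div_ne_zero hc'0 hc ha.symm
  obtain ⟨x, hx, hxu⟩ := exists_su_iso hF hm hu0 hu (smul_ne_zero ha0 hu0)
    (by rw [hd_smul_left, hd_smul_right, hu, mul_zero, mul_zero])
  obtain ⟨y, hy, hyv⟩ := hM.slot_mem i x hx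
  refine ⟨y * g * y⁻¹, M.mul_mem (M.mul_mem hy hg) (M.inv_mem hy), ?_⟩
  have hw : (y : Mt t m F) *ᵥ w = a • w := by
    rw [hyv, hwdef, slot_mulVec_pv, hxu, ← pvL_apply, map_smul, show u = (fun _ : Fin t => u) i from rfl, pvL_self]
  rw [Units.val_mul, Units.val_mul, hgv, show ((y⁻¹ : GL (Fin t → Fin m) F) : Mt t m F) = st q (y : Mt t m F) from
    Units.inv_eq_of_mul_eq_one_left (hM.iso y hy), mul_add, mul_one, add_mul, mul_eq_one_comm.1 (hM.iso y hy),
    mul_smul_comm, smul_mul_assoc, mul_vm, vm_mul hF, st_st hF, hw, vm_smul_left, vm_smul_right, smul_smul, smul_smul,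
    show c * a * a ^ q = c' by rw [mul_assoc, ha, mul_div_cancel₀ _ hc]]

end CfsgLib.Geo.TensorPow.U
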