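/-
A member with a root element on one factor has a scalar part on the other factors.
-/
import Cfsg.Agent.Geo.TensorPow.U.Close

set_option autoImplicit false
set_option linter.unusedSectionVars false

namespace CfsgLib.Geo.TensorPow.U

open Matrix CfsgLib.Aschbacher CfsgLib.Geo.UTv
open scoped MatrixGroups

variable {F : Type*} [Field F] {q t m : ℕ}

lemma ev_add_right (i : Fin t) (y z z' : Fin m → F) (X : Mt t m F) :
    ev q i y (z + z') X = ev q i y z X + ev q i y z' X := by
  simp only [ev, Pi.add_apply, mul_add, add_smul, Finset.sum_add_distrib]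

lemma com_ev_of {i k : Fin t} (h : k ≠ i) {X : Mt t m F} (hX : Com k X) (y z : Fin m → F) :
    Com k (ev q i y z X) :=
  com_sum _ fun _ _ => com_sum _ fun _ _ => (hX.cmp h _ _).smul _

/-- The product of the dyads at one vector in the factors of a set. -/
def UL (q : ℕ) (u : Fin m → F) (L : Finset (Fin t)) : Mt t m F := tens (L.piecewise (fun _ => vm q u u) fun _ => 1)

lemma com_UL (u : Fin m → F) {L : Finset (Fin t)} {l : Fin t} (h : l ∉ L) : Com l (UL q u L) :=
  com_tens (Finset.piecewise_eq_of_notMem _ _ _ h)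

lemma UL_insert (u : Fin m → F) {L : Finset (Fin t)} {l : Fin t} (h : l ∉ L) :
    (UL q u (insert l L) : Mt t m F) = slot l (vm q u u) * UL q u L := by
  rw [UL, Finset.piecewise_insert, tens_split l, Function.update_self, Function.update_idem,
    Function.update_eq_self_iff.2 (Finset.piecewise_eq_of_notMem _ _ _ h).symm]
  rfl

lemma UL_comm (u : Fin m → F) {L : Finset (Fin t)} {C : Mt t m F} (hC : ∀ l ∈ L, Com l C) :
    UL q u L * C = C * UL q u L :=
  tens_comm fun l hl => hC l (by_contra fun h => hl (Finset.piecewise_eq_of_notMem _ _ _ h))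

lemma UL_empty (u : Fin m → F) : (UL q u ∅ : Mt t m F) = 1 := by rw [UL, Finset.piecewise_empty, tens_one]

lemma UL_singleton (u : Fin m → F) (i : Fin t) : (UL q u {i} : Mt t m F) = slot i (vm q u u) := by
  rw [← insert_empty_eq i, UL_insert u (Finset.notMem_empty i), UL_empty, mul_one]

lemma UL_sq {u : Fin m → F} (hu : hd q u u = 0) {L : Finset (Fin t)} (hL : L.Nonempty) :
    (UL q u L : Mt t m F) * UL q u L = 0 := by
  obtain ⟨l, hl⟩ := hL
  rw [← Finset.insert_erase hl, UL_insert u (Finset.notMem_erase l L)]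
  have hc := com_UL (q := q) u (Finset.notMem_erase l L)
  calc _ = slot l (vm q u u) * (UL q u (L.erase l) * slot l (vm q u u)) * UL q u (L.erase l) := by
        simp only [mul_assoc]
    _ = slot l (vm q u u) * (slot l (vm q u u) * UL q u (L.erase l)) * UL q u (L.erase l) := by rw [hc.slot_comm]
    _ = 0 := by rw [← mul_assoc (slot l (vm q u u)), slot_mul, vm_mul_vm, hu, zero_smul, slot_zero, zero_mul, zero_mul]

/-- A member with dyads at a fixed vector in the factors of a set. -/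
def Xi (q : ℕ) (M : Subgroup (GL (Fin t → Fin m) F)) (u : Fin m → F) (L : Finset (Fin t)) (C : Mt t m F) : Prop :=
  (∀ l ∈ L, Com l C) ∧ Mem M (1 + UL q u L * C)

variable {M : Subgroup (GL (Fin t → Fin m) F)} {u : Fin m → F} {L : Finset (Fin t)}

lemma Xi.mul_zero' (hu : hd q u u = 0) (hL : L.Nonempty) {C C' : Mt t m F} (h : Xi q M u L C) :
    UL q u L * C * (UL q u L * C') = 0 := by
  rw [mul_assoc, ← mul_assoc C, ← UL_comm u h.1, mul_assoc, ← mul_assoc, UL_sq hu hL, zero_mul]

lemma Xi.add (hu : hd q u u = 0) (hL : L.Nonempty) {C C' : Mt t m F} (h : Xi q M u L C) (h' : Xi q M u L C') :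
    Xi q M u L (C + C') := by
  refine ⟨fun l hl => (h.1 l hl).add (h'.1 l hl), ?_⟩
  have := h.2.mul h'.2
  rwa [add_mul, one_mul, mul_add (UL q u L * C), mul_one, h.mul_zero' hu hL, add_zero, add_assoc,
    add_comm (UL q u L * C') (UL q u L * C), ← mul_add] at this

lemma Xi.sub (hu : hd q u u = 0) (hL : L.Nonempty) {C C' : Mt t m F} (h : Xi q M u L C) (h' : Xi q M u L C') :
    Xi q M u L (C - C') := by
  rw [sub_eq_add_neg]
  refine h.add hu hL ⟨fun l hl => by simpa using (h'.1 l hl).smul (-1 : F), ?_⟩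
  have := h'.2.one_sub (h'.mul_zero' hu hL)
  rwa [mul_neg, ← sub_eq_add_neg]

variable [Finite F] (hF : Nat.card F = q ^ 2)
include hF

lemma Xi.conj (hM : UBase q M) {C : Mt t m F} (h : Xi q M u L C) {l : Fin t} (hl : l ∉ L) {g : GL (Fin m) F}
    (hg : g ∈ suGL m F q) :
    Xi q M u L (slot l (g : Matrix (Fin m) (Fin m) F) * C * slot l ((g⁻¹ : GL (Fin m) F) : Matrix (Fin m) (Fin m) F)) := by
  refine ⟨fun k hk => ?_, ?_⟩
  · have hkl : k ≠ l := fun e => hl (e ▸ hk)
    exact ((com_slot hkl _).mul (h.1 k hk)).mul (com_slot hkl _)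
  have := ((hM.slot_mem l g hg).mul h.2).mul (hM.slot_mem l _ (inv_mem hg))
  rwa [mul_add, mul_one, add_mul, slot_mul, Units.mul_inv, slot_one, ← mul_assoc, (com_UL u hl).slot_comm,
    mul_assoc (UL q u L), mul_assoc (UL q u L)] at this

/-- Conjugation in one of the chosen factors. -/
lemma mem_conj_dyad (hM : UBase q M) {l : Fin t} {X C : Mt t m F} (hX : Com l X) (hC : Com l C)
    {w : Fin m → F} {g : GL (Fin m) F} (hg : g ∈ suGL m F q) (h : Mem M (1 + slot l (vm q w w) * X * C)) :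
    Mem M (1 + slot l (vm q ((g : Matrix (Fin m) (Fin m) F) *ᵥ w) ((g : Matrix (Fin m) (Fin m) F) *ᵥ w)) * X * C) := by
  have := ((hM.slot_mem l g hg).mul h).mul (hM.slot_mem l _ (inv_mem hg))
  rwa [mul_add, mul_one, add_mul, slot_mul, Units.mul_inv, slot_one,
    show slot l (g : Matrix (Fin m) (Fin m) F) * (slot l (vm q w w) * X * C) *
        slot l ((g⁻¹ : GL (Fin m) F) : Matrix (Fin m) (Fin m) F) =
      slot l (g : Matrix (Fin m) (Fin m) F) * slot l (vm q w w) *
        (slot l ((g⁻¹ : GL (Fin m) F) : Matrix (Fin m) (Fin m) F) * (X * C)) by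
      rw [(hX.mul hC).slot_comm]; simp only [mul_assoc],
    ← mul_assoc (slot l (g : Matrix (Fin m) (Fin m) F) * slot l (vm q w w)), slot_mul, slot_mul, su_conj_vm hF hg,
    ← mul_assoc] at this

lemma Xi.scale (hM : UBase q M) (hm : 3 ≤ m) (hu0 : u ≠ 0) (hu : hd q u u = 0) (hL : L.Nonempty) {C : Mt t m F}
    (h : Xi q M u L C) {s : F} (hs : s ^ q = s) (hs0 : s ≠ 0) : Xi q M u L (s • C) := by
  refine ⟨fun l hl => (h.1 l hl).smul s, ?_⟩
  obtain ⟨l, hl⟩ := hL
  obtain ⟨a, ha⟩ := TensorU.norm_exists hF hs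
  have ha0 : a ≠ 0 := fun h0 => hs0 (by rw [← ha, h0, zero_mul])
  obtain ⟨g, hg, hgu⟩ := exists_su_iso hF hm hu0 hu (smul_ne_zero ha0 hu0)
    (by rw [hd_smul_left, hd_smul_right, hu, mul_zero, mul_zero])
  have e : (UL q u L : Mt t m F) = slot l (vm q u u) * UL q u (L.erase l) := by
    rw [← UL_insert u (Finset.notMem_erase l L), Finset.insert_erase hl]
  have := mem_conj_dyad hF hM (com_UL u (Finset.notMem_erase l L)) (h.1 l hl) hg (w := u) (e ▸ h.2)
  rwa [hgu, vm_smul_left, vm_smul_right, smul_smul, ha, slot_smul, smul_mul_assoc, smul_mul_assoc, ← e,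
    ← mul_smul_comm] at this

/-- A new factor. -/
lemma Xi.grow (hM : UBase q M) (hm : 3 ≤ m) (hu0 : u ≠ 0) (hu : hd q u u = 0) {C : Mt t m F} {l : Fin t}
    (hl : l ∉ L) {w : Fin m → F} (hw0 : w ≠ 0) (hw : hd q w w = 0) (hC : Com l C)
    (h : Xi q M u L (slot l (vm q w w) * C)) (hCL : ∀ k ∈ L, Com k C) : Xi q M u (insert l L) C := by
  refine ⟨fun k hk => ?_, ?_⟩
  · rcases Finset.mem_insert.1 hk with rfl | hk
    · exact hC
    · exact hCL k hk
  obtain ⟨g, hg, hgw⟩ := exists_su_iso hF hm hw0 hw hu0 hu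
  have hc : Com l (UL q u L : Mt t m F) := com_UL u hl
  have := mem_conj_dyad hF hM hc hC hg (w := w) (by
    have h2 := h.2
    rwa [← mul_assoc, ← hc.slot_comm] at h2)
  rwa [hgw, ← UL_insert u hl] at this

/-- One more factor away from the centraliser of a factor. -/
lemma Xi.step (hM : UBase q M) (hm : 3 ≤ m) (hex : ¬ (q = 2 ∧ m = 3)) (hu0 : u ≠ 0) (hu : hd q u u = 0)
    (hL : L.Nonempty) {C : Mt t m F} (h : Xi q M u L C) {l : Fin t} (hl : l ∉ L) (hC : ¬ Com l C) :
    ∃ C', C' ≠ 0 ∧ Xi q M u (insert l L) C' := by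
  classical
  obtain ⟨w, hw, hev⟩ : ∃ w, hd q w w = 0 ∧ ev q l w w C ≠ 0 := by
    by_contra hc
    push Not at hc
    exact hC (com_of_ev hF (by omega) hc)
  have hw0 : w ≠ 0 := fun e => hev (by simp [ev, e, zero_pow (q_ne_zero hF)])
  have hcom : ∀ y z k, k ∈ L → Com k (ev q l y z C) := fun y z k hk =>
    com_ev_of (fun e => hl (by subst e; exact hk)) (h.1 k hk) y z
  have hroot : ∀ {x : Fin m → F}, hd q x x = 0 → ∀ {c : F}, c + c ^ q = 0 →
      ∃ g ∈ suGL m F q, (g : Matrix (Fin m) (Fin m) F) = 1 + c • vm q x x ∧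
        ((g⁻¹ : GL (Fin m) F) : Matrix (Fin m) (Fin m) F) = 1 - c • vm q x x := fun {x} hx {c} hc => by
    obtain ⟨g, hg, hgv⟩ := exists_root hF hx hc
    refine ⟨g, hg, hgv, ?_⟩
    rw [su_inv hF hg, hgv, st_add hF, st_one hF, st_smul hF, st_vm hF, eq_neg_of_add_eq_zero_right hc, neg_smul,
      sub_eq_add_neg]
  by_cases hq : 3 ≤ q
  · obtain ⟨s, hs, hs0, hs1⟩ := exists_fixed hF hq
    obtain ⟨κ, hκ0, hκ⟩ := TensorU.skew_exists hF
    obtain ⟨g₁, hg₁, hv₁, hi₁⟩ := hroot hw hκ
    obtain ⟨g₂, hg₂, hv₂, hi₂⟩ := hroot hw (c := s * κ) (by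
      rw [mul_pow, hs]; linear_combination s * hκ)
    have h1 := (((h.conj hF hM hl hg₁).sub hu hL h).scale hF hM hm hu0 hu hL hs hs0)
    have h2 := ((h.conj hF hM hl hg₂).sub hu hL h).sub hu hL h1
    set r := (s - s * s) * (κ * κ) with hr
    have e : slot l (g₂ : Matrix (Fin m) (Fin m) F) * C * slot l ((g₂⁻¹ : GL (Fin m) F) : Matrix (Fin m) (Fin m) F) - C -
        s • (slot l (g₁ : Matrix (Fin m) (Fin m) F) * C * slot l ((g₁⁻¹ : GL (Fin m) F) : Matrix (Fin m) (Fin m) F) - C) =
        r • (slot l (vm q w w) * C * slot l (vm q w w)) := by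
      rw [hv₁, hi₁, hv₂, hi₂]
      simp only [slot_add, slot_sub, slot_one, slot_smul, mul_add, add_mul, mul_sub, sub_mul, one_mul, mul_one,
        smul_mul_assoc, mul_smul_comm, smul_smul]
      rw [hr]
      module
    rw [e] at h2
    have hκ' : (κ * κ) ^ q = κ * κ := by
      rw [mul_pow, eq_neg_of_add_eq_zero_right hκ, neg_mul_neg]
    have hrf : r ^ q = r := by rw [hr, mul_pow, hκ', TensorU.pow_sub hF, mul_pow, hs]
    have hr0 : r ≠ 0 := mul_ne_zero (by
      rw [show s - s * s = s * (1 - s) by ring]; exact mul_ne_zero hs0 (sub_ne_zero.2 (Ne.symm hs1)))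
      (mul_ne_zero hκ0 hκ0)
    have h3 := h2.scale hF hM hm hu0 hu hL (s := r⁻¹) (by rw [inv_pow, hrf]) (inv_ne_zero hr0)
    rw [smul_smul, inv_mul_cancel₀ hr0, one_smul, sandwich] at h3
    exact ⟨_, hev, h3.grow hF hM hm hu0 hu hl hw0 hw (com_ev _ _ _ _) (hcom _ _)⟩
  · obtain rfl : q = 2 := by have := CfsgLib.Forms.two_le_q hF; omega
    have hm4 : 4 ≤ m := by have : m ≠ 3 := fun h => hex ⟨rfl, h⟩; omega
    obtain ⟨h2, ω, hω, hωq, hω0⟩ := exists_omega hF rfl
    set E : Fin 4 → Fin m → F := fun a => Pi.single (Fin.castLE hm4 a) 1 with hE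
    have hEE : ∀ a b, hd 2 (E a) (E b) = if a = b then 1 else 0 := fun a b => by
      simp only [hE]
      rw [hd_single_right _ _ two_ne_zero, Pi.single_apply]
      simp [(Fin.castLE_injective hm4).eq_iff, eq_comm]
    set p := E 0 + E 1 with hp
    have hp0 : p ≠ 0 := fun e => by
      have := congrFun e (Fin.castLE hm4 0)
      simp [hp, hE, (Fin.castLE_injective hm4).eq_iff, Pi.single_apply] at this
    obtain ⟨g, hg, hgp⟩ := exists_su_iso hF hm hp0
      (by simp [hp, hd_add_left, hd_add_right hF, hEE]; linear_combination h2) hw0 hw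
    have hgd : ∀ x y, hd 2 ((g : Matrix (Fin m) (Fin m) F) *ᵥ x) ((g : Matrix (Fin m) (Fin m) F) *ᵥ y) = hd 2 x y :=
      (isU_iff hF _).1 ((mem_su hF).1 hg).1
    set v := (g : Matrix (Fin m) (Fin m) F) *ᵥ (E 2 + E 3) with hv
    set z := (g : Matrix (Fin m) (Fin m) F) *ᵥ (ω • E 2 + (ω + 1) • E 3) with hz
    obtain ⟨hvv, hzz, hwv, hwz, hvz⟩ :
        hd 2 v v = 0 ∧ hd 2 z z = 0 ∧ hd 2 w v = 0 ∧ hd 2 w z = 0 ∧ hd 2 v z = 1 := by
      rw [← hgp, hv, hz, hgd, hgd, hgd, hgd, hgd]
      refine ⟨?_, ?_, ?_, ?_, ?_⟩ <;>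
        simp [hp, hd_add_left, hd_add_right hF, hd_smul_left, hd_smul_right, hEE, TensorU.pow_add hF] <;> grind
    -- a partner with a part between the two
    obtain ⟨v', hv'v', hwv', hv'z, hc⟩ : ∃ v', hd 2 v' v' = 0 ∧ hd 2 w v' = 0 ∧ hd 2 v' z = 1 ∧ ev 2 l w v' C ≠ 0 := by
      by_cases hc : ev 2 l w v C = 0
      · refine ⟨v + w, ?_, ?_, ?_, ?_⟩
        · simp [hd_add_left, hd_add_right hF, hvv, hw, hwv, hd_swap0 hF hwv]
        · simp [hd_add_right hF, hwv, hw]
        · simp [hd_add_left, hvz, hwz]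
        · rw [ev_add_right, hc, zero_add]; exact hev
      · exact ⟨v, hvv, hwv, hvz, hc⟩
    have h11 : (1 : F) + 1 ^ 2 = 0 := by linear_combination h2
    obtain ⟨ga, hga, hav, hai⟩ := hroot hw h11
    obtain ⟨gb, hgb, hbv, hbi⟩ := hroot hv'v' h11
    have hB := (((h.conj hF hM hl (mul_mem hga hgb)).sub hu hL h).sub hu hL ((h.conj hF hM hl hga).sub hu hL h)).sub hu hL
      ((h.conj hF hM hl hgb).sub hu hL h)
    set B := slot l (vm 2 w v') * ev 2 l w v' C + slot l (vm 2 v' w) * ev 2 l v' w C with hBdef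
    have hm1 : ∀ X : Matrix (Fin m) (Fin m) F, -X = X := fun X => by
      rw [← neg_one_smul F X, show (-1 : F) = 1 by linear_combination -h2, one_smul]
    have e : slot l ((ga * gb : GL (Fin m) F) : Matrix (Fin m) (Fin m) F) * C *
        slot l (((ga * gb)⁻¹ : GL (Fin m) F) : Matrix (Fin m) (Fin m) F) - C -
        (slot l (ga : Matrix (Fin m) (Fin m) F) * C * slot l ((ga⁻¹ : GL (Fin m) F) : Matrix (Fin m) (Fin m) F) - C) -
        (slot l (gb : Matrix (Fin m) (Fin m) F) * C * slot l ((gb⁻¹ : GL (Fin m) F) : Matrix (Fin m) (Fin m) F) - C) = B := by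
      rw [_root_.mul_inv_rev, Units.val_mul, Units.val_mul, hav, hai, hbv, hbi]
      simp only [one_smul, sub_eq_add_neg (a := (1 : Matrix (Fin m) (Fin m) F)), hm1]
      rw [hBdef, ← sandwich, ← sandwich, show (1 + vm 2 w w) * (1 + vm 2 v' v') = 1 + vm 2 w w + vm 2 v' v' by
          rw [add_mul, one_mul, mul_add, mul_one, vm_mul_vm, hd_swap0 hF hwv', zero_smul, add_zero]; abel,
        show (1 + vm 2 v' v') * (1 + vm 2 w w) = 1 + vm 2 w w + vm 2 v' v' by
          rw [add_mul, one_mul, mul_add, mul_one, vm_mul_vm, hwv', zero_smul, add_zero]]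
      simp only [slot_add, slot_one]
      noncomm_ring
    rw [e] at hB
    have hnz : ∀ x : Fin m → F, hd 2 x x = 0 → ∃ g ∈ suGL m F 2,
        ∀ y, (g : Matrix (Fin m) (Fin m) F) *ᵥ y = y + hd 2 y x • x := fun x hx => by
      obtain ⟨g, hg, hgv, -⟩ := hroot hx h11
      exact ⟨g, hg, fun y => by rw [hgv, tv_mulVec, one_mul]⟩
    -- shears
    have hshear : ∀ a : F, Xi 2 M u L (slot l (vm 2 w w) * (a ^ 2 • ev 2 l w v' C + a • ev 2 l v' w C)) := by
      intro a
      have hza : hd 2 (z + a • w) (z + a • w) = 0 := by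
        simp [hd_add_left, hd_add_right hF, hd_smul_left, hd_smul_right, hzz, hw, hwz, hd_swap0 hF hwz]
      obtain ⟨g1, hg1, hg1v⟩ := hnz z hzz
      obtain ⟨g2, hg2, hg2v⟩ := hnz _ hza
      have hgw : ((g1 * g2 : GL (Fin m) F) : Matrix (Fin m) (Fin m) F) *ᵥ w = w := by
        rw [CfsgLib.Geo.mul_mulVec, hg2v, hd_add_right hF, hd_smul_right, hwz, hw, mul_zero, add_zero, zero_smul,
          add_zero, hg1v, hwz, zero_smul, add_zero]
      have hgv' : ((g1 * g2 : GL (Fin m) F) : Matrix (Fin m) (Fin m) F) *ᵥ v' = v' + a • w := by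
        rw [CfsgLib.Geo.mul_mulVec, hg2v, hd_add_right hF, hd_smul_right, hv'z, hd_swap0 hF hwv', mul_zero, add_zero,
          one_smul, hg1v, hd_add_left, hd_add_left, hd_smul_left, hv'z, hzz, hwz, mul_zero, add_zero, add_zero,
          one_smul]
        rw [show v' + (z + a • w) + z = v' + a • w + (2 : F) • z by module, h2, zero_smul, add_zero]
      have hk := (hB.conj hF hM hl (mul_mem hg1 hg2)).sub hu hL hB
      convert hk using 1
      have hsl : ∀ x y, slot l ((g1 * g2 : GL (Fin m) F) : Matrix (Fin m) (Fin m) F) *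
          (slot l (vm 2 x y) * ev 2 l x y C) *
            slot l (((g1 * g2)⁻¹ : GL (Fin m) F) : Matrix (Fin m) (Fin m) F) =
          slot l (vm 2 (((g1 * g2 : GL (Fin m) F) : Matrix (Fin m) (Fin m) F) *ᵥ x)
            (((g1 * g2 : GL (Fin m) F) : Matrix (Fin m) (Fin m) F) *ᵥ y)) * ev 2 l x y C := fun x y => by
        rw [mul_assoc, mul_assoc (slot l (vm 2 x y)), ← (com_ev l x y C).slot_comm, ← mul_assoc (slot l (vm 2 x y)),
          ← mul_assoc, slot_mul, slot_mul, ← mul_assoc, su_conj_vm hF (mul_mem hg1 hg2)]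
      simp only [hBdef, mul_add, add_mul, hsl, hgw, hgv', vm_add_right hF, vm_add_left, vm_smul_left,
        vm_smul_right, slot_add, slot_smul, mul_smul_comm, smul_mul_assoc]
      abel
    obtain ⟨a, ha⟩ : ∃ a : F, a ^ 2 • ev 2 l w v' C + a • ev 2 l v' w C ≠ 0 := by
      by_contra hcon
      push Not at hcon
      have e1 := hcon 1
      have e2 := hcon ω
      rw [one_pow, one_smul, one_smul] at e1
      refine hc ?_
      have : (ω ^ 2 - ω) • ev 2 l w v' C = 0 := by
        rw [eq_neg_of_add_eq_zero_right e1, smul_neg] at e2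
        rw [sub_smul, sub_eq_add_neg]; exact e2
      rw [hωq, add_sub_cancel_left, one_smul] at this
      exact this
    exact ⟨_, ha, (hshear a).grow hF hM hm hu0 hu hl hw0 hw (((com_ev _ _ _ _).smul _).add ((com_ev _ _ _ _).smul _))
      fun k hk => ((hcom _ _ k hk).smul _).add ((hcom _ _ k hk).smul _)⟩

/-- A member with a root element on one factor has a scalar part on the others. -/
theorem key (hM : UBad q M) (hm : 3 ≤ m) (hex : ¬ (q = 2 ∧ m = 3)) {i : Fin t} (hu0 : u ≠ 0) (hu : hd q u u = 0)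
    {C : Mt t m F} (hC : Com i C) (h : Mem M (1 + slot i (vm q u u) * C)) : ∃ c : F, C = c • 1 := by
  classical
  letI := Fintype.ofFinite F
  haveI : NeZero m := ⟨by omega⟩
  by_contra hns
  obtain ⟨l, hl⟩ : ∃ l, ¬ Com l C := by
    by_contra hc
    push Not at hc
    exact hns (scalar_of_com hc)
  have hli : l ∉ ({i} : Finset (Fin t)) := by simp only [Finset.mem_singleton]; rintro rfl; exact hl hC
  obtain ⟨C₁, hC₁, h₁⟩ := Xi.step hF hM.toUBase hm hex hu0 hu (Finset.singleton_nonempty i)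
    (C := C) ⟨fun k hk => by rw [Finset.mem_singleton.1 hk]; exact hC, by rwa [UL_singleton]⟩ hli hl
  suffices H : ∀ n, ∀ L : Finset (Fin t), Lᶜ.card = n → 2 ≤ L.card → ∀ C, C ≠ 0 → Xi q M u L C → False from
    H _ _ rfl (by rw [Finset.card_insert_of_notMem hli, Finset.card_singleton]) _ hC₁ h₁
  intro n
  induction n using Nat.strong_induction_on with
  | _ n ih =>
    intro L hn hL C hC0 hX
    have hLne : L.Nonempty := Finset.card_pos.1 (by omega)
    by_cases hex' : ∃ l, l ∉ L ∧ ¬ Com l C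
    · obtain ⟨l, hlL, hlC⟩ := hex'
      obtain ⟨C', hC', hX'⟩ := hX.step hF hM.toUBase hm hex hu0 hu hLne hlL hlC
      refine ih _ ?_ (insert l L) rfl (by rw [Finset.card_insert_of_notMem hlL]; omega) C' hC' hX'
      rw [← hn]
      exact Finset.card_lt_card ((Finset.ssubset_iff_of_subset
        (Finset.compl_subset_compl.2 (Finset.subset_insert l L))).2 ⟨l, by simpa using hlL, by simp⟩)
    push Not at hex'
    obtain ⟨c, rfl⟩ := scalar_of_com (X := C) fun k => if hk : k ∈ L then hX.1 k hk else hex' k hk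
    have hc0 : c ≠ 0 := fun e => hC0 (by rw [e, zero_smul])
    have hmem := hX.2
    rw [mul_smul_comm, mul_one] at hmem
    by_cases hall : L = Finset.univ
    · subst hall
      refine hM.nfull (fullAt_all hF hM.toUBase hm hex hu0 hu (fullAt_of_one hF hM.toUBase hm ?_ hu0 hu hc0 ?_))
      · exact lt_of_lt_of_le (by omega) (Finset.card_le_univ (Finset.univ : Finset (Fin t))) |>.trans_eq
          (Fintype.card_fin t)
      · rwa [UL, Finset.piecewise_univ, tens_vm] at hmem
    obtain ⟨b, hb⟩ : ∃ b, b ∉ L := by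
      by_contra hcon; push Not at hcon; exact hall (Finset.eq_univ_of_forall hcon)
    obtain ⟨g, hg, hgv⟩ := hmem
    obtain ⟨a, σ, hga⟩ := exists_tens_perm (hM.rec_mem g hg b (by
      rw [hgv]; exact (com_one b).add ((com_UL u hb).smul c)))
    obtain ⟨v₀, huv, hvu, hv₀⟩ := exists_hyp' hF hu0 hu
    obtain ⟨j, hj, k, hk, hjk⟩ := Finset.one_lt_card.1 (show 1 < L.card by omega)
    set v' : Fin t → Fin m → F := fun l => if l ∈ L then u else v₀ with hv'
    have e1 : (g : Mt t m F) *ᵥ pv (fun _ => v₀) = pv (fun _ => v₀) + c • pv v' := by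
      rw [hgv, Matrix.add_mulVec, Matrix.one_mulVec, Matrix.smul_mulVec, UL, tens_mulVec_pv]
      congr 2
      refine congrArg pv (funext fun l => ?_)
      simp only [hv']
      by_cases hlL : l ∈ L
      · rw [Finset.piecewise_eq_of_mem _ _ _ hlL, if_pos hlL, vm_mulVec, hvu, one_smul]
      · rw [Finset.piecewise_eq_of_notMem _ _ _ hlL, if_neg hlL, Matrix.one_mulVec]
    obtain ⟨W, hW⟩ : ∃ W, (g : Mt t m F) *ᵥ pv (fun _ => v₀) = pv W :=
      ⟨_, by rw [hga, ← Matrix.mulVec_mulVec, permMat_mulVec_pv, tens_mulVec_pv]⟩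
    have hP : ∀ x y : Fin m → F, hd q v₀ x * hd q v₀ y + c * (hd q u x * hd q u y) =
        hd q (W j) x * hd q (W k) y *
          ∏ l ∈ (Finset.univ.erase j).erase k, hd q (W l) (if l ∈ L then u + v₀ else u) := by
      intro x y
      set f : Fin t → Fin m → F := fun l => if l = j then x else if l = k then y else if l ∈ L then u + v₀ else u
      have hsplit : ∀ w : Fin t → Fin m → F, hd q (pv w) (pv f) = hd q (w j) x * hd q (w k) y *
          ∏ l ∈ (Finset.univ.erase j).erase k, hd q (w l) (if l ∈ L then u + v₀ else u) := fun w => by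
        rw [hd_pv, ← Finset.mul_prod_erase _ _ (Finset.mem_univ j),
          ← Finset.mul_prod_erase _ _ (Finset.mem_erase.2 ⟨hjk.symm, Finset.mem_univ k⟩), ← mul_assoc]
        congr 1
        · simp [f, hjk.symm]
        · refine Finset.prod_congr rfl fun l hl => ?_
          simp only [Finset.mem_erase] at hl
          simp [f, hl.1, hl.2.1]
      rw [← hsplit W, ← hW, e1, hd_add_left, hd_smul_left, hsplit, hsplit]
      simp only [hv', if_pos hj, if_pos hk]
      rw [Finset.prod_eq_one, Finset.prod_eq_one, mul_one, mul_one]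
      · intro l _
        split_ifs <;> simp [hd_add_right hF, hu, hvu, huv]
      · intro l _
        split_ifs <;> simp [hd_add_right hF, hv₀, hvu]
    have p1 := hP u u
    have p2 := hP u v₀
    have p3 := hP v₀ v₀
    simp only [hvu, hu, hv₀, huv, mul_zero, zero_mul, add_zero, zero_add, mul_one] at p1 p2 p3
    set R := ∏ l ∈ (Finset.univ.erase j).erase k, hd q (W l) (if l ∈ L then u + v₀ else u)
    have hz : hd q (W k) v₀ = 0 := by
      have hne : hd q (W j) u * R ≠ 0 := fun e => one_ne_zero (α := F) (by linear_combination p1 + hd q (W k) u * e)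
      exact (mul_eq_zero.1 (show hd q (W j) u * R * hd q (W k) v₀ = 0 by linear_combination -p2)).resolve_left hne
    exact hc0 (by rw [p3, hz, mul_zero, zero_mul])

end CfsgLib.Geo.TensorPow.U
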