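/-
A member sending one root group of a factor to one of a factor sends the whole factor there.
-/
import Cfsg.Agent.Geo.TensorPow.U.Key
import Cfsg.Agent.Geo.TensorPow.Semi

set_option autoImplicit false
set_option linter.unusedSectionVars false

namespace CfsgLib.Geo.TensorPow.U

open Matrix CfsgLib.Aschbacher CfsgLib.Geo.UTv
open scoped MatrixGroups

variable {F : Type*} [Field F] {q t m : ℕ}

/-- The skew matrix of a vector against another. -/
def nm (q : ℕ) (u a : Fin m → F) : Matrix (Fin m) (Fin m) F := vm q a u - vm q u a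

lemma slot_com_assoc {i : Fin t} {Y : Mt t m F} (hY : Com i Y) (A B : Matrix (Fin m) (Fin m) F) :
    slot i A * Y * slot i B = slot i (A * B) * Y := by
  rw [mul_assoc, ← hY.slot_comm, ← mul_assoc, slot_mul]

lemma inSlot_of_com [NeZero m] {j : Fin t} {X : Mt t m F} (h : ∀ l, l ≠ j → Com l X) : InSlot j X :=
  eq_slot_of_cmp fun p q => scalar_of_com fun l => by
    rcases eq_or_ne l j with rfl | hl
    · exact com_cmp l p q X
    · exact (h l hl).cmp hl p q

/-- Right multiplication by a dyad, from a decomposition of the identity. -/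
lemma vm_split {u v : Fin m → F} : (1 : Matrix (Fin m) (Fin m) F) =
    vm q u v + vm q v u + (1 - vm q u v - vm q v u) := by abel

variable [Finite F] (hF : Nat.card F = q ^ 2)
include hF

lemma nm_mul_u {u a : Fin m → F} (hu : hd q u u = 0) (ha : hd q a u = 0) :
    nm q u a * vm q u u = 0 ∧ vm q u u * nm q u a = 0 ∧ nm q u a * nm q u a = -hd q a a • vm q u u := by
  refine ⟨?_, ?_, ?_⟩ <;>
    simp [nm, sub_mul, mul_sub, vm_mul_vm, hu, ha, hd_swap0 hF ha]

lemma st_nm (u a : Fin m → F) : st q (nm q u a) = -nm q u a := by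
  rw [nm, st_sub hF, st_vm hF, st_vm hF, neg_sub]

/-- A root element of a factor with a given vector. -/
lemma exists_eichler {u a : Fin m → F} (hu : hd q u u = 0) (ha : hd q a u = 0) :
    ∃ s : F, ∃ g ∈ suGL m F q, (g : Matrix (Fin m) (Fin m) F) = 1 + nm q u a + s • vm q u u := by
  obtain ⟨hN1, hN2, hNN⟩ := nm_mul_u hF hu ha
  obtain ⟨s, hs⟩ := TensorU.trace_exists hF (t := -hd q a a) (by rw [TensorU.pow_neg hF, ← hd_swap hF])
  have h00 : vm q u u * vm q u u = 0 := by rw [vm_mul_vm, hu, zero_smul]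
  refine ⟨s, exists_gl_of_u hF ?_ ?_⟩
  · simp only [st_add hF, st_one hF, st_nm hF, st_smul hF, st_vm hF, add_mul, mul_add, one_mul, mul_one, neg_mul,
      hNN, smul_mul_assoc, mul_smul_comm, h00, hN1, hN2, smul_zero, neg_zero, neg_smul, neg_neg, add_zero, zero_add]
    rw [show (hd q a a) = -(s + s ^ q) by linear_combination hs]
    module
  · have e : 1 + nm q u a + s • vm q u u =
        (1 + (1 : F) • vm q a u) * (1 + (-1 : F) • vm q u a) * (1 + s • vm q u u) := by
      simp [nm, add_mul, mul_add, sub_mul, vm_mul_vm, hu, hd_swap0 hF ha, ha]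
      abel
    rw [e, Matrix.det_mul, Matrix.det_mul, det_one_add_vm, det_one_add_vm, det_one_add_vm, hu, ha,
      hd_swap0 hF ha]
    ring

variable {M : Subgroup (GL (Fin t → Fin m) F)}

/-- The images of the skew matrices against the fixed vector. -/
lemma inSlot_nm (hM : UBad q M) (hm : 3 ≤ m) (hex : ¬ (q = 2 ∧ m = 3)) {g : GL (Fin t → Fin m) F} (hg : g ∈ M)
    {i j : Fin t} {u v : Fin m → F} (hu0 : u ≠ 0) (hu : hd q u u = 0) (huv : hd q u v = 1) (hvu : hd q v u = 1) (hv : hd q v v = 0)
    (hfix : cj g (slot i (vm q u u)) = slot j (vm q u u)) {a : Fin m → F} (ha : hd q a u = 0) :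
    InSlot j (cj g (slot i (nm q u a))) := by
  classical
  haveI : NeZero m := ⟨by omega⟩
  set Z : Mt t m F := slot j (vm q u u) with hZ
  have hgi : ((g⁻¹ : GL (Fin t → Fin m) F) : Mt t m F) = st q (g : Mt t m F) :=
    Units.inv_eq_of_mul_eq_one_left (hM.iso g hg)
  have hZ0 : Z * Z = 0 := by
    rw [hZ, slot_mul, vm_mul_vm, hu, zero_smul, slot_zero]
  -- images and their products with the fixed root
  have hP : ∀ a, hd q a u = 0 → cj g (slot i (nm q u a)) * Z = 0 ∧ Z * cj g (slot i (nm q u a)) = 0 ∧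
      cj g (slot i (nm q u a)) * cj g (slot i (nm q u a)) = -hd q a a • Z := fun a ha => by
    obtain ⟨h1, h2, h3⟩ := nm_mul_u hF hu ha
    refine ⟨?_, ?_, ?_⟩
    · rw [← hfix, ← cj_mul, slot_mul, h1, slot_zero, cj_zero]
    · rw [← hfix, ← cj_mul, slot_mul, h2, slot_zero, cj_zero]
    · rw [hZ, ← cj_mul, slot_mul, h3, slot_smul, cj_smul, hfix]
  have hX : ∀ a, hd q a u = 0 → ∃ s, Mem M (1 + (cj g (slot i (nm q u a)) + s • Z)) := fun a ha => by
    obtain ⟨s, h, hh, hv⟩ := exists_eichler hF hu ha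
    refine ⟨s, ?_⟩
    have h1 := hM.slot_mem i h hh
    rw [hv, add_assoc, slot_add, slot_one] at h1
    have := Mem.cj h1 hg
    rwa [slot_add, slot_smul, cj_add, cj_smul, hfix] at this
  have hE : ∀ a, hd q a u = 0 → ∃ s, Mem M (1 + (slot j (nm q u a) + s • Z)) := fun a ha => by
    obtain ⟨s, h, hh, hv⟩ := exists_eichler hF hu ha
    refine ⟨s, ?_⟩
    have h1 := hM.slot_mem j h hh
    rwa [hv, add_assoc, slot_add, slot_one, slot_add, slot_smul] at h1
  set P := cj g (slot i (nm q u a)) with hPdef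
  have hPZ : P * Z = 0 := (hP a ha).1
  have hZP : Z * P = 0 := (hP a ha).2.1
  have hPP : P * P = -hd q a a • Z := (hP a ha).2.2
  -- right products of the image
  have hγ : ∀ b, hd q b u = 0 → ∃ r : F, P * slot j (vm q b u) = r • Z := by
    set T := cj g (slot i (vm q a v)) with hT
    set T' := cj g (slot i (vm q v a)) with hT'
    have hPT : P = T * Z - Z * T' := by
      rw [hPdef, ← hfix, hT, hT', ← cj_mul, ← cj_mul, ← cj_sub, slot_mul, slot_mul, ← slot_sub, vm_mul_vm,
        vm_mul_vm, huv, hvu, one_smul, one_smul, nm]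
    have hD : ∀ b, hd q b u = 0 → ∃ r : F, P * slot j (vm q b u) + slot j (vm q u b) * P = r • Z := by
      intro b hb
      obtain ⟨hN1, hN2, hN3⟩ := nm_mul_u hF hu hb
      set N : Mt t m F := slot j (nm q u b) with hNdef
      have hub : (slot j (vm q u b) : Mt t m F) = Z * slot j (vm q v b) := by
        rw [hZ, slot_mul, vm_mul_vm, hvu, one_smul]
      have hbu : (slot j (vm q b u) : Mt t m F) = slot j (vm q b v) * Z := by
        rw [hZ, slot_mul, vm_mul_vm, huv, one_smul]
      have hz1 : Z * slot j (vm q b u) = 0 := by rw [hZ, slot_mul, vm_mul_vm, hb, zero_smul, slot_zero]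
      have hz2 : slot j (vm q u b) * Z = 0 := by rw [hZ, slot_mul, vm_mul_vm, hd_swap0 hF hb, zero_smul, slot_zero]
      set C1 := ev q j u u (T' * slot j (vm q b v)) with hC1
      set C2 := ev q j u u (slot j (vm q v b) * T) with hC2
      have e1 : P * slot j (vm q b u) = -(Z * C1) := by
        rw [hPT, sub_mul, mul_assoc T, hz1, mul_zero, zero_sub, hC1, hZ, ← sandwich, ← hZ, hbu]
        simp only [mul_assoc]
      have e2 : slot j (vm q u b) * P = Z * C2 := by
        rw [hPT, mul_sub, ← mul_assoc _ Z T', hz2, zero_mul, sub_zero, hC2, hZ, ← sandwich, ← hZ, hub]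
        simp only [mul_assoc]
      have hPu : P * slot j (vm q u b) = 0 := by rw [hub, ← mul_assoc, hPZ, zero_mul]
      have huP : slot j (vm q b u) * P = 0 := by rw [hbu, mul_assoc, hZP, mul_zero]
      obtain ⟨s, hs⟩ := hX a ha
      obtain ⟨s', hs'⟩ := hE b hb
      rw [← hPdef] at hs
      set A := P + s • Z with hA
      set B := N + s' • Z with hB
      set C := -(C1 + C2) with hC
      have hCcom : Com j C := by
        have := ((com_ev (q := q) j u u (T' * slot j (vm q b v))).add
          (com_ev (q := q) j u u (slot j (vm q v b) * T))).smul (-1 : F)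
        rwa [neg_one_smul] at this
      have hNZ : N * Z = 0 ∧ Z * N = 0 ∧ N * N = -hd q b b • Z := by
        rw [hNdef, hZ, slot_mul, slot_mul, slot_mul, hN1, hN2, hN3, slot_zero, slot_smul]
        exact ⟨rfl, rfl, rfl⟩
      have hAB : A * B = -(Z * C1) := by
        rw [hA, hB, add_mul, mul_add, mul_add, mul_smul_comm, smul_mul_assoc, smul_mul_assoc, mul_smul_comm, hPZ,
          hNZ.2.1, hZ0, hNdef, nm, slot_sub, mul_sub, e1, hPu]
        simp
      have hBA : B * A = -(Z * C2) := by
        rw [hA, hB, add_mul, mul_add, mul_add, mul_smul_comm, smul_mul_assoc, smul_mul_assoc, mul_smul_comm, hNZ.1,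
          hZP, hZ0, hNdef, nm, slot_sub, sub_mul, e2, huP]
        simp
      have hAA : A * A = -hd q a a • Z := by
        rw [hA, add_mul, mul_add, mul_add, mul_smul_comm, smul_mul_assoc, smul_mul_assoc, mul_smul_comm, hPZ, hZP,
          hZ0, hPP]
        simp
      have hBB : B * B = -hd q b b • Z := by
        rw [hB, add_mul, mul_add, mul_add, mul_smul_comm, smul_mul_assoc, smul_mul_assoc, mul_smul_comm, hNZ.1,
          hNZ.2.1, hNZ.2.2, hZ0]
        simp
      have hAZ : A * Z = 0 ∧ Z * A = 0 := by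
        simp [hA, add_mul, mul_add, hPZ, hZP, hZ0]
      have hBZ : B * Z = 0 ∧ Z * B = 0 := by
        simp [hB, add_mul, mul_add, hNZ.1, hNZ.2.1, hZ0]
      have hCZ : ∀ X, Com j X → Z * X = X * Z := fun X h => h.slot_comm _
      have hABA : A * B * A = 0 := by rw [mul_assoc, hBA, mul_neg, ← mul_assoc, hAZ.1, zero_mul, neg_zero]
      have hBAB : B * A * B = 0 := by rw [mul_assoc, hAB, mul_neg, ← mul_assoc, hBZ.1, zero_mul, neg_zero]
      have hBAA : B * A * A = 0 := by rw [mul_assoc, hAA, mul_smul_comm, hBZ.1, smul_zero]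
      have hABB : A * B * B = 0 := by rw [mul_assoc, hBB, mul_smul_comm, hAZ.1, smul_zero]
      set D := A * B - B * A with hDdef
      have hDA : D * A = 0 := by rw [hDdef, sub_mul, hABA, hBAA, sub_zero]
      have hDB : D * B = 0 := by rw [hDdef, sub_mul, hABB, hBAB, sub_zero]
      have hcomm : (1 + A) * (1 + B) = (1 + D) * ((1 + B) * (1 + A)) := by
        have : D * B * A = 0 := by rw [hDB, zero_mul]
        calc (1 + A) * (1 + B) = 1 + A + B + B * A + (A * B - B * A) := by noncomm_ring
          _ = 1 + A + B + B * A + D + D * A + D * B + D * B * A := by rw [hDA, hDB, zero_mul, ← hDdef]; simp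
          _ = _ := by noncomm_ring
      obtain ⟨gA, hgA, hgAv⟩ := hs
      obtain ⟨gB, hgB, hgBv⟩ := hs'
      have hmem : Mem M (1 + Z * -(C1 - C2)) := by
        refine ⟨gA * gB * (gB * gA)⁻¹, M.mul_mem (M.mul_mem hgA hgB) (M.inv_mem (M.mul_mem hgB hgA)), ?_⟩
        rw [Units.val_mul, Units.val_mul, hgAv, hgBv, hcomm, ← hgAv, ← hgBv, ← Units.val_mul, mul_assoc, Units.mul_inv,
          mul_one, hDdef, hAB, hBA]
        noncomm_ring
      obtain ⟨r, hr⟩ := key hF hM hm hex hu0 hu (by
        have := ((com_ev (q := q) j u u (T' * slot j (vm q b v))).sub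
          (com_ev (q := q) j u u (slot j (vm q v b) * T))).smul (-1 : F)
        rwa [neg_one_smul] at this) hmem
      refine ⟨r, ?_⟩
      rw [e1, e2]
      calc -(Z * C1) + Z * C2 = Z * -(C1 - C2) := by noncomm_ring
        _ = _ := by rw [hr, mul_smul_comm, mul_one]
    intro b hb
    obtain ⟨ζ, hζ⟩ := TensorU.moved_exists hF
    obtain ⟨r1, h1⟩ := hD b hb
    obtain ⟨r2, h2⟩ := hD (ζ • b) (by rw [hd_smul_left, hb, mul_zero])
    rw [vm_smul_left, vm_smul_right, slot_smul, slot_smul, mul_smul_comm, smul_mul_assoc] at h2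
    have hne : ζ ^ q - ζ ≠ 0 := sub_ne_zero.2 hζ
    refine ⟨(ζ ^ q - ζ)⁻¹ * (ζ ^ q * r1 - r2), ?_⟩
    have : (ζ ^ q - ζ) • (P * slot j (vm q b u)) = (ζ ^ q * r1 - r2) • Z := by
      rw [sub_smul (ζ ^ q * r1), ← smul_smul, ← h1, ← h2]; module
    rw [← smul_smul, ← this, smul_smul, inv_mul_cancel₀ hne, one_smul]
  -- the image lies in the factor up to a part at the fixed root
  set Pr : Matrix (Fin m) (Fin m) F := 1 - vm q u v - vm q v u with hPr
  have hPru : ∀ x, hd q (Pr *ᵥ x) u = 0 := fun x => by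
    simp only [hPr, Matrix.sub_mulVec, Matrix.one_mulVec, vm_mulVec]
    simp only [sub_eq_add_neg, hd_add_left, ← neg_smul, hd_smul_left, hu, hvu]
    ring
  have hPrst : st q Pr = Pr := by rw [hPr, st_sub hF, st_sub hF, st_one hF, st_vm hF, st_vm hF, sub_right_comm]
  choose! r hr using hγ
  set c₀ : Fin m → F := fun k => r (Pr *ᵥ Pi.single k 1) ^ q with hc₀
  have hPrsum : Pr = ∑ k, vm q (Pr *ᵥ Pi.single k 1) (Pi.single k 1) := Matrix.ext fun x y => by
    simp [Matrix.sum_apply, vm_apply, Pi.single_apply, zero_pow (q_ne_zero hF)]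
  have hR : P * slot j Pr = slot j (vm q u c₀) := by
    conv_lhs => rw [hPrsum, slot_sum, Finset.mul_sum]
    have hk : ∀ k : Fin m, P * slot j (vm q (Pr *ᵥ Pi.single k 1) (Pi.single k 1)) =
        slot j (r (Pr *ᵥ Pi.single k 1) • vm q u (Pi.single k 1)) := fun k => by
      rw [show vm q (Pr *ᵥ Pi.single k 1) (Pi.single k 1) = vm q (Pr *ᵥ Pi.single k 1) u * vm q v (Pi.single k 1) by
        rw [vm_mul_vm, hvu, one_smul], ← slot_mul, ← mul_assoc, hr _ (hPru _), smul_mul_assoc, hZ, slot_mul, vm_mul_vm,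
        hvu, one_smul, slot_smul]
    rw [Finset.sum_congr rfl fun k _ => hk k, ← slot_sum]
    congr 1
    refine Matrix.ext fun x y => ?_
    simp [Matrix.sum_apply, vm_apply, Pi.single_apply, hc₀, qq hF, zero_pow (q_ne_zero hF), mul_comm]
  have hPrPr : Pr * Pr = Pr := by
    simp [hPr, sub_mul, mul_sub, vm_mul_vm, hu, huv, hvu, hv]
  set c := Pr *ᵥ c₀ with hc
  have hR' : P * slot j Pr = slot j (vm q u c) := by
    conv_lhs => rw [← hPrPr, ← slot_mul, ← mul_assoc, hR, slot_mul]
    rw [vm_mul hF, hPrst]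
  have hPst : st q P = -P := by
    rw [hPdef, cj, hgi, st_mul hF, st_mul hF, st_st hF, st_slot hF, st_nm hF, ← neg_one_smul F (nm q u a),
      slot_smul, neg_one_smul, neg_mul, mul_neg, mul_assoc]
  have hL : slot j Pr * P = -slot j (vm q c u) := by
    have := congrArg (st q) hR'
    rw [st_mul hF, st_slot hF, st_slot hF, hPrst, hPst, st_vm hF, mul_neg, neg_eq_iff_eq_neg] at this
    exact this
  set C := ev q j v v P with hCdef
  have hPeq : P = slot j (nm q u (-c)) + Z * C := by
    have e1 : P * slot j (vm q u v) = 0 := by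
      rw [show vm q u v = vm q u u * vm q v v by rw [vm_mul_vm, hvu, one_smul], ← slot_mul, ← mul_assoc, ← hZ, hPZ,
        zero_mul]
    have e2 : slot j (vm q v u) * P = 0 := by
      rw [show vm q v u = vm q v v * vm q u u by rw [vm_mul_vm, huv, one_smul], ← slot_mul, mul_assoc, ← hZ, hZP,
        mul_zero]
    have e3 : P * slot j (vm q v u) = -slot j (vm q c u) + Z * C := by
      calc P * slot j (vm q v u)
          = (slot j (vm q u v) + slot j (vm q v u) + slot j Pr) * P * slot j (vm q v u) := by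
            rw [← slot_add, ← slot_add, hPr, ← vm_split, slot_one, one_mul]
        _ = slot j (vm q u v) * P * slot j (vm q v u) + -slot j (vm q c u * vm q v u) := by
            simp only [add_mul, e2, hL, neg_mul, zero_mul, add_zero, slot_mul]
        _ = _ := by
            rw [sandwich, vm_mul_vm, ← hZ, hvu, one_smul, add_comm]
    calc P = P * (slot j (vm q u v) + slot j (vm q v u) + slot j Pr) := by
          rw [← slot_add, ← slot_add, hPr, ← vm_split, slot_one, mul_one]
      _ = _ := by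
          rw [mul_add, mul_add, e1, e3, hR', nm, ← neg_one_smul F c, vm_smul_left, vm_smul_right, slot_sub, slot_smul,
            slot_smul, TensorU.pow_neg hF, one_pow, neg_one_smul, neg_one_smul, hCdef]
          abel
  -- its scalar part
  have hcu : hd q (-c) u = 0 := by rw [← neg_one_smul F c, hd_smul_left, hPru, mul_zero]
  obtain ⟨hN1, hN2, hN3⟩ := nm_mul_u hF hu hcu
  obtain ⟨s, g₁, hg₁, hgv₁⟩ := hX a ha
  obtain ⟨s', g₂, hg₂, hgv₂⟩ := hE (-c) hcu
  set N : Mt t m F := slot j (nm q u (-c)) with hN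
  have hNZ : N * Z = 0 ∧ Z * N = 0 := by
    rw [hN, hZ, slot_mul, slot_mul, hN1, hN2, slot_zero]; exact ⟨rfl, rfl⟩
  have hCc : Com j C := com_ev j v v P
  have hCN : C * N = N * C := (hCc.slot_comm _).symm
  have hCZ : C * Z = Z * C := (hCc.slot_comm _).symm
  have hq : (1 + (C + (s - s') • 1) * Z) * (1 + (N + s' • Z)) = 1 + (P + s • Z) := by
    rw [hPeq]
    simp only [add_mul, mul_add, one_mul, mul_one, smul_mul_assoc, mul_smul_comm, mul_assoc, hNZ.2, hZ0,
      mul_zero, smul_zero, add_zero]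
    rw [hCZ]
    module
  have hmem : Mem M (1 + Z * (C + (s - s') • 1)) := by
    refine ⟨g₁ * g₂⁻¹, M.mul_mem hg₁ (M.inv_mem hg₂), ?_⟩
    rw [Units.val_mul, hgv₁, ← hPdef, ← hq, ← hgv₂, mul_assoc, Units.mul_inv, mul_one,
      (hCc.add ((com_one j).smul _)).slot_comm]
  obtain ⟨κ, hκ⟩ := key hF hM hm hex hu0 hu (hCc.add ((com_one j).smul _)) hmem
  refine ⟨nm q u (-c) + (κ - (s - s')) • vm q u u, ?_⟩
  have hC' : C = (κ - (s - s')) • (1 : Mt t m F) := by rw [sub_smul]; exact eq_sub_of_add_eq hκ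
  rw [hPeq, hC', mul_smul_comm, mul_one, slot_add, slot_smul]

/-- A matrix commuting with the dyads against the fixed vector is a sum of two parts commuting with the
factor, one at the fixed root. -/
lemma split_of_commute {i : Fin t} {u v : Fin m → F} (hu : hd q u u = 0) (huv : hd q u v = 1) (hvu : hd q v u = 1)
    (hv : hd q v v = 0) {Y : Mt t m F} (h1 : ∀ a, hd q a u = 0 → slot i (vm q a u) * Y = Y * slot i (vm q a u))
    (h2 : ∀ a, hd q a u = 0 → slot i (vm q u a) * Y = Y * slot i (vm q u a)) :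
    Y = ev q i u v Y + slot i (vm q u u) * ev q i v v Y := by
  set Pr : Matrix (Fin m) (Fin m) F := 1 - vm q u v - vm q v u with hPr
  have hP : ∀ x, hd q (Pr *ᵥ x) u = 0 ∧ hd q (Pr *ᵥ x) v = 0 := fun x => by
    simp only [hPr, Matrix.sub_mulVec, Matrix.one_mulVec, vm_mulVec]
    simp only [sub_eq_add_neg, hd_add_left, ← neg_smul, hd_smul_left, hu, huv, hvu, hv]
    exact ⟨by ring, by ring⟩
  have hcol : ∀ a w, hd q a u = 0 → Y * slot i (vm q a w) = slot i (vm q a w) * ev q i u v Y := fun a w ha => by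
    rw [← sandwich, h1 a ha, mul_assoc, slot_mul, vm_mul_vm, hvu, one_smul]
  have hrow : ∀ y b, hd q b u = 0 → hd q v b = 0 → slot i (vm q y b) * Y * slot i (vm q v u) = 0 := fun y b hb hvb => by
    rw [show vm q y b = vm q y v * vm q u b by rw [vm_mul_vm, huv, one_smul], ← slot_mul, mul_assoc (slot i (vm q y v)),
      h2 b hb, mul_assoc, mul_assoc Y, slot_mul, vm_mul_vm, hvb, zero_smul, slot_zero, mul_zero, mul_zero]
  have hPr1 : Pr = ∑ k, vm q (Pr *ᵥ Pi.single k 1) (Pi.single k 1) := Matrix.ext fun x y => by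
    simp [Matrix.sum_apply, vm_apply, Pi.single_apply, zero_pow (q_ne_zero hF)]
  have hPr2 : Pr = ∑ k, vm q (Pi.single k 1) (Pr *ᵥ Pi.single k 1) := by
    have hst : st q Pr = Pr := by rw [hPr, st_sub hF, st_sub hF, st_one hF, st_vm hF, st_vm hF, sub_right_comm]
    refine Matrix.ext fun x y => ?_
    conv_lhs => rw [← hst]
    simp [Matrix.sum_apply, vm_apply, Pi.single_apply, st]
  have e1 : Y * slot i Pr = slot i Pr * ev q i u v Y := by
    rw [hPr1, slot_sum, Finset.mul_sum, Finset.sum_mul]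
    exact Finset.sum_congr rfl fun k _ => hcol _ _ (hP _).1
  have e2 : slot i Pr * Y * slot i (vm q v u) = 0 := by
    rw [hPr2, slot_sum, Finset.sum_mul, Finset.sum_mul]
    exact Finset.sum_eq_zero fun k _ => hrow _ _ (hP _).1 (hd_swap0 hF (hP _).2)
  have e3 : Y * slot i (vm q v u) = slot i (vm q u u) * ev q i v v Y + slot i (vm q v u) * ev q i u v Y := by
    calc Y * slot i (vm q v u) = slot i (vm q u v + vm q v u + Pr) * Y * slot i (vm q v u) := by
          rw [hPr, ← vm_split, slot_one, one_mul]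
      _ = _ := by rw [slot_add, slot_add, add_mul, add_mul, add_mul, add_mul, e2, add_zero, sandwich, sandwich]
  calc Y = Y * slot i (vm q u v + vm q v u + Pr) := by rw [hPr, ← vm_split, slot_one, mul_one]
    _ = slot i (vm q u v + vm q v u + Pr) * ev q i u v Y + slot i (vm q u u) * ev q i v v Y := by
        rw [slot_add, slot_add, mul_add, mul_add, hcol u v hu, e1, e3, add_mul, add_mul]; abel
    _ = _ := by rw [hPr, ← vm_split, slot_one, one_mul]

/-- A member sending a root group of a factor to one of a factor sends the factor there. -/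
theorem pres_of_fix (hM : UBad q M) (hm : 3 ≤ m) (hex : ¬ (q = 2 ∧ m = 3)) {g : GL (Fin t → Fin m) F} (hg : g ∈ M)
    {i j : Fin t} {u : Fin m → F} (hu0 : u ≠ 0) (hu : hd q u u = 0)
    (hfix : cj g (slot i (vm q u u)) = slot j (vm q u u)) : Pres g i j := by
  classical
  haveI : NeZero m := ⟨by omega⟩
  obtain ⟨v, huv, hvu, hv⟩ := exists_hyp' hF hu0 hu
  set Z : Mt t m F := slot i (vm q u u) with hZ
  have hZZ : Z * Z = 0 := by rw [hZ, slot_mul, vm_mul_vm, hu, zero_smul, slot_zero]
  -- images of the dyads against the fixed vector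
  have himg : ∀ a, hd q a u = 0 → InSlot j (cj g (slot i (vm q a u))) ∧ InSlot j (cj g (slot i (vm q u a))) := by
    intro a ha
    obtain ⟨ζ, hζ⟩ := TensorU.moved_exists hF
    have h1 := inSlot_nm hF hM hm hex hg hu0 hu huv hvu hv hfix ha
    have h2 := inSlot_nm hF hM hm hex hg hu0 hu huv hvu hv hfix (a := ζ • a) (by rw [hd_smul_left, ha, mul_zero])
    have hne : ζ ^ q - ζ ≠ 0 := sub_ne_zero.2 hζ
    have e : vm q a u = (ζ ^ q - ζ)⁻¹ • (ζ ^ q • nm q u a + (-1 : F) • nm q u (ζ • a)) := by
      rw [eq_inv_smul_iff₀ hne, nm, nm, vm_smul_left, vm_smul_right]; module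
    have e' : vm q u a = vm q a u + (-1 : F) • nm q u a := by rw [nm]; module
    have hA : InSlot j (cj g (slot i (vm q a u))) := by
      rw [e, slot_smul, slot_add, slot_smul, slot_smul, cj_smul, cj_add, cj_smul, cj_smul]
      exact ((h1.smul _).add (h2.smul _)).smul _
    refine ⟨hA, ?_⟩
    rw [e', slot_add, slot_smul, cj_add, cj_smul]
    exact hA.add (h1.smul _)
  intro p r
  refine inSlot_of_com fun l hl p' r' => ?_
  suffices hall : ∀ β : Matrix (Fin m) (Fin m) F, Com i (cj g⁻¹ (slot l β)) by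
    have h : (eu i p r : Mt t m F) * cj g⁻¹ (eu l p' r') = cj g⁻¹ (eu l p' r') * eu i p r := hall _ p r
    have := congrArg (cj g) h
    rw [cj_mul, cj_mul, cj_cj_inv] at this
    exact this.symm
  -- the two parts
  set A : Matrix (Fin m) (Fin m) F → Mt t m F := fun β => ev q i u v (cj g⁻¹ (slot l β)) with hAdef
  set C : Matrix (Fin m) (Fin m) F → Mt t m F := fun β => ev q i v v (cj g⁻¹ (slot l β)) with hCdef
  have hAc : ∀ β, Com i (A β) := fun β => com_ev _ _ _ _
  have hCc : ∀ β, Com i (C β) := fun β => com_ev _ _ _ _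
  have hlin : ∀ (c : F) β β', A (c • β + β') = c • A β + A β' ∧ C (c • β + β') = c • C β + C β' := fun c β β' => by
    simp only [hAdef, hCdef, slot_add, slot_smul, cj_add, cj_smul, ev_add, ev_smul, and_self]
  have hsplit : ∀ β, cj g⁻¹ (slot l β) = A β + Z * C β := fun β => by
    refine split_of_commute hF hu huv hvu hv (fun a ha => ?_) fun a ha => ?_ <;>
      refine cj_injective g ?_ <;> rw [cj_mul, cj_mul, cj_cj_inv]
    · obtain ⟨X, hX⟩ := (himg a ha).1
      rw [hX, slot_mul_comm hl.symm]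
    · obtain ⟨X, hX⟩ := (himg a ha).2
      rw [hX, slot_mul_comm hl.symm]
  have hinj : ∀ β (c : F), A β = c • 1 → β = c • 1 := fun β c h => by
    have h1 : Z * (cj g⁻¹ (slot l β) - c • 1) = 0 := by
      rw [hsplit, h, add_sub_cancel_left, ← mul_assoc, hZZ, zero_mul]
    have h2 := congrArg (cj g) h1
    rw [cj_mul, cj_sub, cj_cj_inv, cj_smul, cj_one, hfix, cj_zero, ← slot_one l, ← slot_smul, ← slot_sub] at h2
    by_contra hne
    exact slot_mul_ne_zero hl.symm (vm_ne_zero hF hu0 hu0) (sub_ne_zero.2 hne) h2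
  have hsq : ∀ β, β * β = 0 → A β * A β = 0 ∧ A β * C β + C β * A β = 0 := fun β h => by
    have hY : cj g⁻¹ (slot l β) * cj g⁻¹ (slot l β) = 0 := by rw [← cj_mul, slot_mul, h, slot_zero, cj_zero]
    rw [hsplit] at hY
    have ha : A β * Z = Z * A β := ((hAc β).slot_comm _).symm
    have hc : C β * Z = Z * C β := ((hCc β).slot_comm _).symm
    have hexp : A β * A β + Z * (A β * C β + C β * A β) = 0 := by
      rw [← hY]
      simp only [add_mul, mul_add, mul_assoc]
      simp only [← mul_assoc (C β) Z, hc, mul_assoc, ← mul_assoc Z Z, hZZ, zero_mul, add_zero,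
        ← mul_assoc (A β) Z, ha]
      abel
    have h1 : Z * (A β * A β) = 0 := by
      have := congrArg (Z * ·) hexp
      simpa [mul_add, ← mul_assoc Z Z, hZZ] using this
    have h2 := slot_mul_com_eq_zero (vm_ne_zero hF hu0 hu0) ((hAc β).mul (hAc β)) h1
    rw [h2, zero_add] at hexp
    exact ⟨h2, slot_mul_com_eq_zero (vm_ne_zero hF hu0 hu0)
      (((hAc β).mul (hCc β)).add ((hCc β).mul (hAc β))) hexp⟩
  have hmem : ∀ x, hd q x x = 0 → ∀ c : F, c + c ^ q = 0 →
      Mem M (1 + (A (c • vm q x x) + Z * C (c • vm q x x))) := fun x hx c hc => by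
    obtain ⟨h, hh, hhv⟩ := exists_root hF hx hc
    have h1 := hM.slot_mem l h hh
    rw [hhv, slot_add, slot_one] at h1
    rw [← hsplit]
    exact Mem.cj h1 (M.inv_mem hg)
  have hsmul : ∀ (c : F) β, A (c • β) = c • A β ∧ C (c • β) = c • C β := fun c β => by
    simp only [hAdef, hCdef, slot_smul, cj_smul, ev_smul, and_self]
  have hxx : ∀ x, hd q x x = 0 → ∀ c : F, (c • vm q x x) * (c • vm q x x) = (0 : Matrix (Fin m) (Fin m) F) := fun x hx c => by
    rw [smul_mul_smul_comm, vm_mul_vm, hx, zero_smul, smul_zero]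
  -- moving the fixed root by the factor
  have hmove : ∀ {β} {w : Fin m → F}, w ≠ 0 → hd q w w = 0 → Mem M (1 + (A β + Z * C β)) →
      Mem M (1 + (A β + slot i (vm q w w) * C β)) := fun {β w} hw0 hw h => by
    obtain ⟨x, hx, hxu⟩ := exists_su_iso hF hm hu0 hu hw0 hw
    have := ((hM.slot_mem i x hx).mul h).mul (hM.slot_mem i _ (inv_mem hx))
    rwa [mul_add, mul_one, add_mul, slot_mul, Units.mul_inv, slot_one, mul_add, add_mul, slot_com_assoc (hAc β),
      Units.mul_inv, slot_one, one_mul, ← mul_assoc, hZ, slot_mul, slot_com_assoc (hCc β), su_conj_vm hF hx, hxu]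
      at this
  suffices hroot : ∀ x, hd q x x = 0 → ∃ c : F, c ≠ 0 ∧ C (c • vm q x x) = 0 by
    refine mat_induction hF hm (fun β => Com i (cj g⁻¹ (slot l β))) (fun X Y hX hY => ?_) (fun c X hX => ?_)
      (fun X Y hX hY => ?_) fun x hx => ?_
    · rw [slot_add, cj_add]; exact hX.add hY
    · rw [slot_smul, cj_smul]; exact hX.smul c
    · rw [← slot_mul, cj_mul]; exact hX.mul hY
    · obtain ⟨c, hc, hC0⟩ := hroot x hx
      rw [(hsmul c _).2, smul_eq_zero, or_iff_right hc] at hC0
      rw [hsplit, hC0, mul_zero, add_zero]; exact hAc _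
  intro x hx
  rcases eq_or_ne x 0 with rfl | hx0
  · exact ⟨1, one_ne_zero, by simp [hCdef, vm_zero_left, slot_zero, cj_zero, ev_zero]⟩
  by_cases hq : 3 ≤ q
  · obtain ⟨s, hs, hs0, hs1⟩ := exists_fixed hF hq
    obtain ⟨κ, hκ0, hκ⟩ := TensorU.skew_exists hF
    obtain ⟨a, ha⟩ := TensorU.norm_exists hF hs
    have ha0 : a ≠ 0 := fun h0 => hs0 (by rw [← ha, h0, zero_mul])
    have h1s : (1 : F) - s ≠ 0 := sub_ne_zero.2 (Ne.symm hs1)
    have hk : ∀ c : F, c + c ^ q = 0 → ∃ k : F, C (c • vm q x x) = k • (1 - A (c • vm q x x)) := by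
      intro c hc
      set β := c • vm q x x with hβ
      obtain ⟨hA2, hAC⟩ := hsq β (hxx x hx c)
      have hm1 := hmem x hx c hc
      have hm2 := hmove (w := a • u) (smul_ne_zero ha0 hu0) (by rw [hd_smul_left, hd_smul_right, hu, mul_zero, mul_zero]) hm1
      rw [vm_smul_left, vm_smul_right, smul_smul, ha, slot_smul, smul_mul_assoc, ← hZ] at hm2
      have hax : A β * Z = Z * A β := ((hAc β).slot_comm _).symm
      have hcx : C β * Z = Z * C β := ((hCc β).slot_comm _).symm
      have hsq' : (A β + s • (Z * C β)) * (A β + s • (Z * C β)) = 0 := by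
        calc _ = A β * A β + s • (Z * (A β * C β + C β * A β)) + (s * s) • (Z * (C β * Z) * C β) := by
              simp only [add_mul, mul_add, smul_mul_assoc, mul_smul_comm, smul_smul, mul_assoc,
                ← mul_assoc (A β) Z, hax]
              module
          _ = 0 := by rw [hA2, hAC, hcx, ← mul_assoc, hZZ]; simp
      have hm3 := hm1.mul (hm2.one_sub hsq')
      have e : (1 + (A β + Z * C β)) * (1 - (A β + s • (Z * C β))) =
          1 + Z * ((1 - s) • (C β + A β * C β)) := by
        have hCA : Z * (C β * A β) = -(Z * (A β * C β)) := by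
          rw [eq_neg_of_add_eq_zero_right hAC, mul_neg]
        simp only [add_mul, mul_add, mul_sub, one_mul, mul_one, smul_mul_assoc, mul_smul_comm, mul_assoc,
          ← mul_assoc (A β) Z, hax, ← mul_assoc (C β) Z, hcx]
        simp only [mul_assoc, ← mul_assoc Z Z, hZZ, zero_mul, smul_zero, hA2, hCA, add_zero]
        module
      rw [e] at hm3
      obtain ⟨k, hk⟩ := key hF hM hm hex hu0 hu (((hCc β).add ((hAc β).mul (hCc β))).smul _) hm3
      refine ⟨k / (1 - s), ?_⟩
      have h : C β + A β * C β = (k / (1 - s)) • (1 : Mt t m F) := by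
        rw [div_eq_inv_mul, ← smul_smul, ← hk, smul_smul, inv_mul_cancel₀ h1s, one_smul]
      calc C β = C β + A β * C β - A β * (C β + A β * C β) := by
            rw [mul_add, ← mul_assoc, hA2, zero_mul, add_zero, add_sub_cancel_right]
        _ = _ := by rw [h, mul_smul_comm, mul_one, smul_sub]
    obtain ⟨k, hk1⟩ := hk κ hκ
    obtain ⟨k', hk2⟩ := hk (s * κ) (by rw [mul_pow, hs]; linear_combination s * hκ)
    rw [← smul_smul, (hsmul s _).2, (hsmul s _).1, hk1] at hk2
    refine ⟨κ, hκ0, ?_⟩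
    set β := κ • vm q x x with hβ
    obtain ⟨hA2, -⟩ := hsq β (hxx x hx κ)
    have heq : (s * k - k') • (1 : Mt t m F) = (s * k - k' * s) • A β := by
      simp only [smul_sub, smul_smul] at hk2
      linear_combination (norm := module) hk2
    have h0 : s * k - k' = 0 := by
      have := congrArg (fun Y => Y * Y) heq
      simp only [smul_mul_smul_comm, one_mul, hA2, smul_zero] at this
      exact mul_self_eq_zero.1 ((smul_eq_zero.1 this).resolve_right one_ne_zero)
    rw [h0, zero_smul, eq_comm, smul_eq_zero] at heq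
    rcases heq with h | h
    · have : s * k * (1 - s) = 0 := by linear_combination h - s * h0
      rw [hk1, show k = 0 from (mul_eq_zero.1 ((mul_eq_zero.1 this).resolve_right h1s)).resolve_left hs0, zero_smul]
    · have := hinj β 0 (by rw [h, zero_smul])
      rw [zero_smul, hβ, smul_eq_zero] at this
      exact absurd (this.resolve_left hκ0) (vm_ne_zero hF hx0 hx0)
  · obtain rfl : q = 2 := by have := CfsgLib.Forms.two_le_q hF; omega
    have hm4 : 4 ≤ m := by have : m ≠ 3 := fun h => hex ⟨rfl, h⟩; omega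
    obtain ⟨h2, ω, hω, hωq, hω0⟩ := exists_omega hF rfl
    refine ⟨1, one_ne_zero, ?_⟩
    rw [one_smul]
    set E : Fin 4 → Fin m → F := fun a => Pi.single (Fin.castLE hm4 a) 1 with hE
    have hEE : ∀ a b, hd 2 (E a) (E b) = if a = b then 1 else 0 := fun a b => by
      simp only [hE]
      rw [hd_single_right _ _ two_ne_zero, Pi.single_apply]
      simp [(Fin.castLE_injective hm4).eq_iff, eq_comm]
    -- a totally isotropic plane at an isotropic vector, with its partners
    have hplane : ∀ x : Fin m → F, x ≠ 0 → hd 2 x x = 0 → ∃ y x' y' : Fin m → F, hd 2 y y = 0 ∧ hd 2 x y = 0 ∧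
        hd 2 x' x = 1 ∧ hd 2 x' y = 0 ∧ hd 2 y' x = 0 ∧ hd 2 y' y = 1 ∧ hd 2 x x' = 1 ∧ hd 2 y y' = 1 ∧
        hd 2 y x' = 0 ∧ hd 2 x y' = 0 := by
      intro x hx0 hx
      have hp0 : E 0 + E 1 ≠ 0 := fun e => by
        have := congrFun e (Fin.castLE hm4 0)
        simp [hE, (Fin.castLE_injective hm4).eq_iff] at this
      obtain ⟨g, hg, hgp⟩ := exists_su_iso hF hm hp0
        (by simp [hd_add_left, hd_add_right hF, hEE]; linear_combination h2) hx0 hx
      have hgd : ∀ x y, hd 2 ((g : Matrix (Fin m) (Fin m) F) *ᵥ x) ((g : Matrix (Fin m) (Fin m) F) *ᵥ y) = hd 2 x y :=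
        (isU_iff hF _).1 ((mem_su hF).1 hg).1
      refine ⟨(g : Matrix (Fin m) (Fin m) F) *ᵥ (E 2 + E 3),
        (g : Matrix (Fin m) (Fin m) F) *ᵥ (ω • E 0 + (ω + 1) • E 1),
        (g : Matrix (Fin m) (Fin m) F) *ᵥ (ω • E 2 + (ω + 1) • E 3), ?_⟩
      simp only [← hgp, hgd]
      refine ⟨?_, ?_, ?_, ?_, ?_, ?_, ?_, ?_, ?_, ?_⟩ <;>
        simp [hd_add_left, hd_add_right hF, hd_smul_left, hd_smul_right, hEE, TensorU.pow_add hF] <;> grind
    set pl : (Fin m → F) → (Fin m → F) → F → Matrix (Fin m) (Fin m) F := fun x y μ => vm 2 (x + μ • y) (x + μ • y)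
      with hpl
    have hsum : ∀ x y : Fin m → F, vm 2 x x + vm 2 y y + (pl x y 1 + pl x y ω + pl x y (ω + 1)) = 0 := fun x y => by
      simp only [hpl, vm_add_left, vm_add_right hF, vm_smul_left, vm_smul_right, smul_smul, smul_add, hωq,
        TensorU.pow_add hF, one_pow]
      rw [show ω + 1 + 1 = ω by linear_combination h2, show (ω + 1) * ω = 1 by linear_combination hω + ω * h2,
        show ω * (ω + 1) = 1 by linear_combination hω + ω * h2]
      calc _ = (2 : F) • ((2 : F) • vm 2 x x + (2 : F) • vm 2 y y + (ω + 1) • vm 2 x y + (ω + 1) • vm 2 y x) := by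
            module
        _ = 0 := by rw [h2, zero_smul]
    have hiso : ∀ {x y : Fin m → F}, hd 2 x x = 0 → hd 2 y y = 0 → hd 2 x y = 0 → ∀ μ : F,
        hd 2 (x + μ • y) (x + μ • y) = 0 := fun {x y} hx hy hxy μ => by
      simp [hd_add_left, hd_add_right hF, hd_smul_left, hd_smul_right, hx, hy, hxy, hd_swap0 hF hxy]
    have h11 : (1 : F) + 1 ^ 2 = 0 := by linear_combination h2
    have hneg : ∀ X : Mt t m F, -X = X := fun X => by
      rw [← neg_one_smul F X, show (-1 : F) = 1 by linear_combination -h2, one_smul]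
    have hk : ∀ x, hd 2 x x = 0 → ∃ k : F, C (vm 2 x x) = k • (1 + A (vm 2 x x)) := by
      intro x hx
      set β := vm 2 x x with hβ
      obtain ⟨hA2, hAC⟩ := hsq β (by simpa using hxx x hx 1)
      have hCA : C β * A β = A β * C β := by rw [eq_neg_of_add_eq_zero_right hAC, hneg]
      have hA1 : (1 + A β) * (1 + A β) = 1 := by
        calc _ = 1 + (2 : F) • A β + A β * A β := by rw [mul_add, mul_one, add_mul, one_mul]; module
          _ = 1 := by rw [hA2, h2, zero_smul, add_zero, add_zero]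
      have hm1 : Mem M (1 + (A β + Z * C β)) := by
        have := hmem x hx 1 h11
        rwa [one_smul] at this
      obtain ⟨u₂, u', u'', hu₂, huu₂, hu'u, hu'u₂, -, -, -, hu₂u'', -, -⟩ := hplane u hu0 hu
      have hne : ∀ μ : F, u + μ • u₂ ≠ 0 := fun μ e => by
        have := congrArg (fun z => hd 2 u' z) e
        simp only [hd_add_right hF, hd_smul_right, hu'u, hu'u₂, mul_zero, add_zero] at this
        rw [hd_swap hF, hd_zero_left, zero_pow two_ne_zero] at this
        exact one_ne_zero this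
      have hu₂0 : u₂ ≠ 0 := fun e => one_ne_zero (by rw [← hu₂u'', e, hd_zero_left])
      have hp2 : ∀ {w w' : Fin m → F}, hd 2 w' w = 0 →
          Mem M (1 + (A β + slot i (vm 2 w w) * C β)) → Mem M (1 + (A β + slot i (vm 2 w' w') * C β)) →
          Mem M (1 + (slot i (vm 2 w w) + slot i (vm 2 w' w')) * ((1 + A β) * C β)) := fun {w w'} hww h h' => by
        have := h.mul h'
        convert this using 1
        have c1 : A β * slot i (vm 2 w' w') = slot i (vm 2 w' w') * A β := ((hAc β).slot_comm _).symm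
        have c2 : C β * slot i (vm 2 w' w') = slot i (vm 2 w' w') * C β := ((hCc β).slot_comm _).symm
        have z1 : slot i (vm 2 w w) * slot i (vm 2 w' w') = (0 : Mt t m F) := by
          rw [slot_mul, vm_mul_vm, hww, zero_smul, slot_zero]
        simp only [add_mul, mul_add, one_mul, mul_one, mul_assoc, ← mul_assoc (A β) (slot i _), c1,
          ← mul_assoc (C β) (slot i _), c2, ← mul_assoc (slot i (vm 2 w w)) (slot i (vm 2 w' w')), z1, zero_mul,
          hA2, hCA, add_zero]
        have e2 : (2 : F) • A β = 0 := by rw [h2, zero_smul]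
        linear_combination (norm := module) -(1 : F) • e2
      have hmv := fun μ => hmove (hne μ) (hiso hu hu₂ huu₂ μ) hm1
      have hm5 := hmove hu₂0 hu₂ hm1
      have hq1 := hp2 (w := u) (w' := u₂) (hd_swap0 hF huu₂) hm1 hm5
      have hq2 := hp2 (w := u + (1 : F) • u₂) (w' := u + ω • u₂)
        (by simp [hd_add_left, hd_add_right hF, hd_smul_left, hd_smul_right, hu, hu₂, huu₂, hd_swap0 hF huu₂])
        (hmv 1) (hmv ω)
      set S1 : Mt t m F := slot i (vm 2 u u) + slot i (vm 2 u₂ u₂)
      set S2 : Mt t m F := slot i (pl u u₂ 1) + slot i (pl u u₂ ω)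
      set S3 : Mt t m F := slot i (pl u u₂ (ω + 1))
      have hS : S1 + S2 + S3 = 0 := by
        simp only [S1, S2, S3, ← slot_add]
        rw [show vm 2 u u + vm 2 u₂ u₂ + (pl u u₂ 1 + pl u u₂ ω) + pl u u₂ (ω + 1) = 0 by
          rw [← hsum u u₂]; abel, slot_zero]
      have hzero : ∀ {a b : Fin m → F}, hd 2 b a = 0 → slot i (vm 2 a a) * slot i (vm 2 b b) = (0 : Mt t m F) :=
        fun {a b} h => by rw [slot_mul, vm_mul_vm, h, zero_smul, slot_zero]
      have hmA : Mem M (1 + A β) := by
        have := ((hq1.mul hq2).mul (hmv (ω + 1)))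
        convert this using 1
        have hSS : S1 * S2 = 0 ∧ S1 * S3 = 0 ∧ S2 * S3 = 0 := by
          simp only [S1, S2, S3, hpl, add_mul, mul_add]
          refine ⟨?_, ?_, ?_⟩ <;>
            simp [hzero, hd_add_left, hd_add_right hF, hd_smul_left, hd_smul_right, hu, hu₂, huu₂, hd_swap0 hF huu₂]
        have c1 : ∀ X, Com i X → X * S2 = S2 * X := fun X h => by
          simp only [S2, ← slot_add]; exact (h.slot_comm _).symm
        have c3 : ∀ X, Com i X → X * S3 = S3 * X := fun X h => (h.slot_comm _).symm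
        set D := (1 + A β) * C β
        have hD : Com i D := ((com_one i).add (hAc β)).mul (hCc β)
        have hD' : D * (1 + A β) = C β := by
          simp only [D]
          rw [mul_assoc, mul_add (C β), mul_one, hCA]
          rw [show C β + A β * C β = (1 + A β) * C β by rw [add_mul, one_mul], ← mul_assoc, hA1, one_mul]
        show 1 + A β = (1 + S1 * D) * (1 + S2 * D) * (1 + (A β + S3 * C β))
        calc 1 + A β = 1 + A β + (S1 + S2 + S3) * C β := by rw [hS, zero_mul, add_zero]
          _ = (1 + (S1 + S2) * D) * ((1 + A β) + S3 * C β) := by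
              have z : (S1 + S2) * D * (S3 * C β) = 0 := by
                rw [mul_assoc, ← mul_assoc D, c3 _ hD, mul_assoc S3, ← mul_assoc, add_mul S1, hSS.2.1, hSS.2.2,
                  add_zero, zero_mul]
              rw [add_mul 1, one_mul, mul_add ((S1 + S2) * D), z, add_zero, mul_assoc, hD', add_mul (S1 + S2)]
              abel
          _ = _ := by
              have z : S1 * D * (S2 * D) = 0 := by
                rw [mul_assoc, ← mul_assoc D, c1 _ hD, mul_assoc S2, ← mul_assoc, hSS.1, zero_mul]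
              rw [add_mul 1 (S1 * D), one_mul, mul_add (S1 * D), mul_one, z, add_zero, add_mul S1 S2, add_assoc 1 (A β)]
              abel_nf
      have hm7 := hm1.mul hmA
      rw [show (1 + (A β + Z * C β)) * (1 + A β) = 1 + Z * (C β * (1 + A β)) by
        rw [← add_assoc, add_mul, hA1, mul_assoc]] at hm7
      obtain ⟨k, hk⟩ := key hF hM hm hex hu0 hu ((hCc β).mul ((com_one i).add (hAc β))) hm7
      refine ⟨k, ?_⟩
      calc C β = C β * (1 + A β) * (1 + A β) := by rw [mul_assoc, hA1, mul_one]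
        _ = _ := by rw [hk, smul_mul_assoc, one_mul]
    obtain ⟨y, x', y', hy, hxy, hx'x, hx'y, hy'x, hy'y, hxx', hyy', hyx', hxy'⟩ := hplane x hx0 hx
    have hy0 : y ≠ 0 := fun e => one_ne_zero (by rw [← hyy', e, hd_zero_left])
    obtain ⟨k1, hk1⟩ := hk x hx
    obtain ⟨k2, hk2⟩ := hk y hy
    obtain ⟨k3, hk3⟩ := hk _ (hiso hx hy hxy 1)
    obtain ⟨k4, hk4⟩ := hk _ (hiso hx hy hxy ω)
    obtain ⟨k5, hk5⟩ := hk _ (hiso hx hy hxy (ω + 1))
    have hadd : ∀ β β', A (β + β') = A β + A β' ∧ C (β + β') = C β + C β' := fun β β' => by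
      simpa using hlin 1 β β'
    set B := k1 • vm 2 x x + k2 • vm 2 y y + (k3 • pl x y 1 + k4 • pl x y ω + k5 • pl x y (ω + 1)) with hB
    have hAB : A B = (k1 + k2 + (k3 + k4 + k5)) • (1 : Mt t m F) := by
      have h0 : C (vm 2 x x + vm 2 y y + (pl x y 1 + pl x y ω + pl x y (ω + 1))) = 0 := by
        rw [hsum]; simp [hCdef, slot_zero, cj_zero, ev_zero]
      simp only [(hadd _ _).2] at h0
      rw [hk1, hk2] at h0
      simp only [hpl] at h0
      rw [hk3, hk4, hk5] at h0
      simp only [hB, hpl, (hadd _ _).1, (hsmul _ _).1]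
      rw [← hneg (k1 • A (vm 2 x x) + _ + _)]
      linear_combination (norm := module) (-1 : F) • h0
    have hB' := hinj B _ hAB
    have e1 := congrArg (fun X => hd 2 (X *ᵥ x') x') hB'
    have e2 := congrArg (fun X => hd 2 (X *ᵥ y') y') hB'
    have e3 := congrArg (fun X => hd 2 (X *ᵥ x) x') hB'
    simp only [hB, hpl, Matrix.add_mulVec, Matrix.smul_mulVec, vm_mulVec, Matrix.one_mulVec, hd_add_left, hd_add_right hF,
      hd_smul_left, hd_smul_right, hx, hy, hxy, hd_swap0 hF hxy, hx'x, hx'y, hy'x, hy'y, hxx', hyy', hyx', hxy',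
      one_pow, hωq, mul_zero, mul_one, add_zero, zero_add, TensorU.pow_add hF] at e1 e2 e3
    have hk0 : k1 = 0 := by grind
    rw [hk1, hk0, zero_smul]

end CfsgLib.Geo.TensorPow.U
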