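/-
A member sending the root groups at one vector of a factor into the wreath group lies in the wreath group.
-/
import Cfsg.Agent.Geo.TensorPow.U.Fix
import Cfsg.Agent.Geo.TensorPow.Avg

set_option autoImplicit false
set_option linter.unusedSectionVars false

namespace CfsgLib.Geo.TensorPow.U

open Matrix Cfsg.Geo CfsgLib.Geo CfsgLib.Aschbacher CfsgLib.Geo.UTv
open scoped MatrixGroups

variable {F : Type*} [Field F] {q t m : ℕ}

lemma cj_slotU (i : Fin t) (h : GL (Fin m) F) (A : Matrix (Fin m) (Fin m) F) :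
    cj (slotU i h) (slot i A) =
      slot i ((h : Matrix (Fin m) (Fin m) F) * A * ((h⁻¹ : GL (Fin m) F) : Matrix (Fin m) (Fin m) F)) := by
  rw [cj, ← map_inv, slotU_val, slotU_val, slot_mul, slot_mul]

/-- An exchange of two factors scaled off one is not in the wreath group. -/
lemma not_swap [Finite F] (hm : 2 ≤ m) {j k : Fin t} (hjk : j ≠ k) {s : F} (hs0 : s ≠ 0) (hs1 : s ≠ 1)
    {y : GL (Fin t → Fin m) F} (hy : y ∈ tensorWreathStandard m t F)
    (hyv : (y : Mt t m F) = 1 + s • ((permMat m (Equiv.swap j k) : Mt t m F) - 1)) : False := by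
  classical
  letI := Fintype.ofFinite F
  obtain ⟨a, σ, hga⟩ := exists_tens_perm hy
  set e₀ : Fin m → F := Pi.single ⟨0, by omega⟩ 1
  set e₁ : Fin m → F := Pi.single ⟨1, by omega⟩ 1
  set v : Fin t → Fin m → F := fun l => if l = k then e₁ else e₀ with hv
  obtain ⟨w, hw⟩ : ∃ w, (y : Mt t m F) *ᵥ pv v = pv w :=
    ⟨_, by rw [hga, ← Matrix.mulVec_mulVec, permMat_mulVec_pv, tens_mulVec_pv]⟩
  rw [hyv, Matrix.add_mulVec, Matrix.one_mulVec, Matrix.smul_mulVec, Matrix.sub_mulVec, Matrix.one_mulVec,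
    permMat_mulVec_pv] at hw
  set c : Fin m → Fin m → Fin t → Fin m := fun p r l => if l = j then p else if l = k then r else ⟨0, by omega⟩
  have hsplit : ∀ (x : Fin t → Fin m → F) p r, pv x (c p r) =
      x j p * x k r * ∏ l ∈ (Finset.univ.erase j).erase k, x l ⟨0, by omega⟩ := fun x p r => by
    simp only [pv]
    rw [← Finset.mul_prod_erase _ _ (Finset.mem_univ j),
      ← Finset.mul_prod_erase _ _ (Finset.mem_erase.2 ⟨hjk.symm, Finset.mem_univ k⟩), ← mul_assoc]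
    congr 1
    · simp [c, hjk.symm]
    · refine Finset.prod_congr rfl fun l hl => ?_
      simp only [Finset.mem_erase] at hl
      simp [c, hl.1, hl.2.1]
  have hrest : ∀ x : Fin t → Fin m → F, (∀ l, l ≠ j → l ≠ k → x l = e₀) →
      ∏ l ∈ (Finset.univ.erase j).erase k, x l ⟨0, by omega⟩ = 1 := fun x hx => Finset.prod_eq_one fun l hl => by
    simp only [Finset.mem_erase] at hl
    rw [hx l hl.2.1 hl.1]; simp [e₀]
  have hval : ∀ p r, pv w (c p r) = (1 - s) * (e₀ p * e₁ r) + s * (e₁ p * e₀ r) := fun p r => by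
    have h := congrFun hw (c p r)
    simp only [Pi.add_apply, Pi.smul_apply, Pi.sub_apply, smul_eq_mul] at h
    rw [← h, hsplit, hsplit, hrest, hrest]
    · simp [v, hjk, hjk.symm, Equiv.swap_apply_left, Equiv.swap_apply_right]; ring
    · intro l h1 h2; simp [v, h2, Equiv.swap_apply_of_ne_of_ne h1 h2]
    · intro l h1 h2; simp [v, h2, Equiv.swap_apply_of_ne_of_ne h1 h2]
  have h00 := hval ⟨0, by omega⟩ ⟨0, by omega⟩
  have h01 := hval ⟨0, by omega⟩ ⟨1, by omega⟩
  have h10 := hval ⟨1, by omega⟩ ⟨0, by omega⟩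
  have h11 := hval ⟨1, by omega⟩ ⟨1, by omega⟩
  rw [hsplit] at h00 h01 h10 h11
  simp [e₀, e₁, Fin.ext_iff] at h00 h01 h10 h11
  have : (1 - s) * s = 0 := by
    rw [← h01, ← h10]
    rcases h00 with (h | h) | h <;> simp [h]
  rcases mul_eq_zero.1 this with h | h
  · exact hs1 (sub_eq_zero.1 h).symm
  · exact hs0 h

variable [Finite F] (hF : Nat.card F = q ^ 2)
include hF

/-- A hermitian rank one matrix is a multiple of a dyad at one vector. -/
lemma exists_dyad {p r : Fin m → F} (hp : p ≠ 0) (hr : r ≠ 0) (h : st q (vm q p r) = vm q p r) :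
    ∃ w : Fin m → F, w ≠ 0 ∧ vm q p r = vm q w w := by
  rw [st_vm hF] at h
  obtain ⟨z, hz⟩ : ∃ z, hd q z p = 1 := by
    obtain ⟨a, ha⟩ := Function.ne_iff.1 hp
    refine ⟨Pi.single a ((p a ^ q)⁻¹), ?_⟩
    rw [hd, Finset.sum_eq_single a (fun b _ hb => by simp [Pi.single_eq_of_ne hb]) (by simp), Pi.single_eq_same,
      inv_mul_cancel₀ (pow_ne_zero q ha)]
  obtain ⟨μ, hμ⟩ : ∃ μ : F, r = μ • p := by
    refine ⟨hd q z r, ?_⟩
    have := congrArg (fun X => X *ᵥ z) h
    simpa [vm_mulVec, hz] using this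
  subst hμ
  have hμ0 : μ ≠ 0 := fun h0 => hr (by rw [h0, zero_smul])
  rw [vm_smul_left, vm_smul_right] at h
  have hfix : μ ^ q = μ := (smul_left_injective F (vm_ne_zero hF hp hp) h).symm
  obtain ⟨a, ha⟩ := TensorU.norm_exists hF hfix
  have ha0 : a ≠ 0 := fun h0 => hμ0 (by rw [← ha, h0, zero_mul])
  exact ⟨a • p, smul_ne_zero ha0 hp, by rw [vm_smul_right, vm_smul_left, vm_smul_right, smul_smul, ha, hfix]⟩

variable {M : Subgroup (GL (Fin t → Fin m) F)}

/-- A member sending the root groups at a vector into the wreath group maps the factor to a factor. -/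
theorem exists_pres (hM : UBad q M) (hm : 3 ≤ m) (hex : ¬ (q = 2 ∧ m = 3)) {g : GL (Fin t → Fin m) F} (hg : g ∈ M)
    {i : Fin t} {u : Fin m → F} (hu0 : u ≠ 0) (hu : hd q u u = 0) {κ : F} (hκ0 : κ ≠ 0)
    (hN : ∀ s : F, s ^ q = s → ∃ y ∈ tensorWreathStandard m t F,
      (y : Mt t m F) = 1 + (s * κ) • cj g (slot i (vm q u u))) : ∃ j, Pres g i j := by
  classical
  haveI : NeZero m := ⟨by omega⟩
  set X := cj g (slot i (vm q u u)) with hX
  have hXX : X * X = 0 := by rw [hX, ← cj_mul, slot_mul, vm_mul_vm, hu, zero_smul, slot_zero, cj_zero]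
  obtain ⟨x, hx, hxv⟩ := hN 1 (one_pow q)
  rw [one_mul] at hxv
  have hab : (⟨0, by omega⟩ : Fin m) ≠ ⟨1, by omega⟩ := by simp
  obtain ⟨h₀, -, hh₀⟩ := exists_conj_single hm hu0 (f := κ • cq q u) (fun e => by
    obtain ⟨a, ha⟩ := Function.ne_iff.1 hu0
    exact mul_ne_zero hκ0 (pow_ne_zero q ha) (congrFun e a))
    (by rw [smul_dotProduct, dotProduct_comm, ← hd_eq_dot, hu, smul_zero]) hab
  have hrk : (κ • X).rank = (eu i ⟨0, by omega⟩ ⟨1, by omega⟩ : Mt t m F).rank := by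
    rw [hX, ← cj_smul, rank_cj, ← rank_cj (slotU i h₀), ← slot_smul, cj_slotU, eu, ← hh₀, Matrix.vecMulVec_smul]
    rfl
  rcases classify_wreath hm hx (by rw [hxv, add_sub_cancel_left, smul_mul_smul_comm, hXX, smul_zero]) (i := i)
      (by rw [hxv, add_sub_cancel_left]; exact hrk) with ⟨j, A, hA, hA0, hAA⟩ | ⟨hm3, h2, j, k, a₀, hjk, hsw⟩
  swap
  · exfalso
    have hq3 : 3 ≤ q := by
      have := CfsgLib.Forms.two_le_q hF
      have : q ≠ 2 := fun h => hex ⟨h, hm3⟩
      omega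
    obtain ⟨s, hs, hs0, hs1⟩ := exists_fixed hF hq3
    obtain ⟨y, hy, hyv⟩ := hN s hs
    set b := slotU k a₀
    refine not_swap (by omega) hjk hs0 hs1 (y := b⁻¹ * y * b) ?_ ?_
    · exact mul_mem (mul_mem (inv_mem (slotU_mem_wreath k a₀)) hy) (slotU_mem_wreath k a₀)
    · have e : κ • X = cj b ((permMat m (Equiv.swap j k) : Mt t m F) - 1) := by
        rw [cj_sub, cj_one, ← hsw, hxv, add_sub_cancel_left]
      rw [Units.val_mul, Units.val_mul, hyv, ← smul_smul, e, ← cj_smul,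
        show ∀ Z : Mt t m F, 1 + cj b Z = cj b (1 + Z) from fun Z => by rw [cj_add, cj_one]]
      show _ * _ * _ = _
      calc _ = cj b⁻¹ (cj b (1 + s • ((permMat m (Equiv.swap j k) : Mt t m F) - 1))) := by
            rw [show ∀ Y, cj b⁻¹ Y = ((b⁻¹ : GL (Fin t → Fin m) F) : Mt t m F) * Y * (b : Mt t m F) from
              fun Y => by rw [cj, inv_inv]]
        _ = _ := cj_inv_cj _ _
  rw [hxv, add_sub_cancel_left] at hA
  -- the image is a dyad of the factor
  obtain ⟨h, -, hcj⟩ := exists_std hm hA0 hAA (i := i) (a' := ⟨0, by omega⟩) (b' := ⟨1, by omega⟩)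
    (by rw [← hA, hrk]) hab
  have hA' : A = ((h⁻¹ : GL (Fin m) F) : Matrix (Fin m) (Fin m) F) * Matrix.single ⟨0, by omega⟩ ⟨1, by omega⟩ 1 *
      (h : Matrix (Fin m) (Fin m) F) := by
    rw [cj_slotU, eu] at hcj
    rw [← slot_injective j hcj]
    simp [mul_assoc]
  rw [← vecMulVec_single_single, Matrix.mul_vecMulVec, Matrix.vecMulVec_mul] at hA'
  set p := ((h⁻¹ : GL (Fin m) F) : Matrix (Fin m) (Fin m) F) *ᵥ Pi.single ⟨0, by omega⟩ 1
  set r := cq q ((κ⁻¹) • ((Pi.single ⟨1, by omega⟩ 1 : Fin m → F) ᵥ* (h : Matrix (Fin m) (Fin m) F))) with hr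
  have hAv : κ⁻¹ • A = vm q p r := by
    rw [hA', vm, hr, cq_cq hF, Matrix.vecMulVec_smul]
  have hX' : X = slot j (vm q p r) := by
    rw [← hAv, slot_smul, ← hA, smul_smul, inv_mul_cancel₀ hκ0, one_smul]
  have hv0 : vm q p r ≠ 0 := by rw [← hAv]; exact smul_ne_zero (inv_ne_zero hκ0) hA0
  have hp0 : p ≠ 0 := fun e => hv0 (by rw [e, vm_zero_left])
  have hr0 : r ≠ 0 := fun e => hv0 (by rw [e, vm_zero_right (q_ne_zero hF)])
  obtain ⟨w, hw0, hw⟩ := exists_dyad hF hp0 hr0 (slot_injective j (by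
    rw [← st_slot hF, ← hX', hX, cj, show ((g⁻¹ : GL (Fin t → Fin m) F) : Mt t m F) = st q (g : Mt t m F) from
      Units.inv_eq_of_mul_eq_one_left (hM.iso g hg), st_mul hF, st_mul hF, st_st hF, st_slot hF, st_vm hF, mul_assoc]))
  rw [hw] at hX'
  have hwi : hd q w w = 0 := by
    have h1 : vm q w w * vm q w w = (0 : Matrix (Fin m) (Fin m) F) :=
      slot_injective j (by rw [← slot_mul, ← hX', hXX, slot_zero])
    rw [vm_mul_vm] at h1
    exact (smul_eq_zero.1 h1).resolve_right (vm_ne_zero hF hw0 hw0)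
  obtain ⟨k, hk, hkw⟩ := exists_su_iso hF hm hw0 hwi hu0 hu
  have hkM : slotU j k ∈ M := by
    obtain ⟨z, hz, hzv⟩ := hM.slot_mem j k hk
    rwa [show slotU j k = z from Units.ext (by rw [slotU_val, hzv])]
  have hP := pres_of_fix hF hM hm hex (M.mul_mem hkM hg) (i := i) (j := j) hu0 hu
    (by rw [cj_comp, ← hX, hX', cj_slotU, su_conj_vm hF hk, hkw])
  refine ⟨j, ?_⟩
  have := hP.mul (pres_slotU j k⁻¹)
  rwa [map_inv, inv_mul_cancel_left] at this

/-- A member sending the root groups at a vector into the wreath group lies there. -/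
theorem mem_of_root (hM : UBad q M) (hm : 3 ≤ m) (hex : ¬ (q = 2 ∧ m = 3)) {g : GL (Fin t → Fin m) F} (hg : g ∈ M)
    {i : Fin t} {u : Fin m → F} (hu0 : u ≠ 0) (hu : hd q u u = 0) {κ : F} (hκ0 : κ ≠ 0) (hκ : κ + κ ^ q = 0)
    (hN : ∀ s : F, s ^ q = s → ∃ y ∈ tensorWreathStandard m t F,
      (y : Mt t m F) = 1 + (s * κ) • cj g (slot i (vm q u u))) : g ∈ tensorWreathStandard m t F := by
  classical
  haveI : NeZero m := ⟨by omega⟩
  obtain ⟨j, hij⟩ := exists_pres hF hM hm hex hg hu0 hu hκ0 hN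
  refine mem_wreath_of_pres (by omega) (by have := i.2; omega) fun l => ?_
  rcases eq_or_ne l i with rfl | hli
  · exact ⟨j, hij⟩
  refine exists_pres hF hM hm hex hg hu0 hu hκ0 fun s hs => ?_
  obtain ⟨x, hx, hxv⟩ := exists_root hF hu (c := s * κ) (by rw [mul_pow, hs]; linear_combination s * hκ)
  have h1 := hM.slot_mem l x hx
  rw [hxv, slot_add, slot_one, slot_smul] at h1
  obtain ⟨y, hy, hyv⟩ := Mem.cj h1 hg
  rw [cj_smul] at hyv
  refine ⟨y, hM.rec_mem y hy j ?_, hyv⟩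
  rw [hyv]
  exact (com_one j).add ((hij.com (com_slot hli.symm _)).smul _)

end CfsgLib.Geo.TensorPow.U
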