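/-
The members lie in the wreath group: sums over the cosets and the Casimir element.
-/
import Cfsg.Agent.Geo.TensorPow.U.Semi

set_option autoImplicit false
set_option linter.unusedSectionVars false

namespace CfsgLib.Geo.TensorPow.U

open Matrix Cfsg.Geo CfsgLib.Geo CfsgLib.Aschbacher CfsgLib.Geo.UTv
open scoped MatrixGroups

variable {F : Type*} [Field F] {q t m : ℕ}

/-- A sum along the orbits of a group acting without fixed points, of a function affine along them. -/
lemma sum_affine_orbits {U : AddSubgroup F} [Fintype U] {X : Type*} [DecidableEq X] (op : U → X → X)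
    (h0 : ∀ x, op 0 x = x) (hadd : ∀ u u' x, op (u + u') x = op u (op u' x)) (ψ c : X → F)
    (haff : ∀ (u : U) x, ψ (op u x) = ψ x + (u : F) * c x) (hsum : ∀ x, (∑ u : U, (u : F)) * c x = 0)
    (hdvd : ∀ d : ℕ, d ∣ Fintype.card U → d ≠ 1 → (d : F) = 0) (T : Finset X)
    (hcl : ∀ u, ∀ x ∈ T, op u x ∈ T) (hmv : ∀ x ∈ T, ∃ u, op u x ≠ x) : ∑ x ∈ T, ψ x = 0 := by
  classical
  induction T using Finset.strongInduction with
  | _ T ih =>
    rcases T.eq_empty_or_nonempty with rfl | ⟨x₀, hx₀⟩
    · simp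
    set O := Finset.univ.image (fun u => op u x₀) with hO
    have hOT : O ⊆ T := fun x hx => by
      obtain ⟨u, -, rfl⟩ := Finset.mem_image.1 hx
      exact hcl u _ hx₀
    have hx₀O : x₀ ∈ O := Finset.mem_image.2 ⟨0, Finset.mem_univ _, h0 _⟩
    have h1 := ih (T \ O) (Finset.sdiff_ssubset hOT ⟨x₀, hx₀O⟩)
      (fun u x hx => by
        obtain ⟨hxT, hxO⟩ := Finset.mem_sdiff.1 hx
        refine Finset.mem_sdiff.2 ⟨hcl u x hxT, fun h => hxO ?_⟩
        obtain ⟨u', -, hu'⟩ := Finset.mem_image.1 h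
        exact Finset.mem_image.2 ⟨-u + u', Finset.mem_univ _, by rw [hadd, hu', ← hadd, neg_add_cancel, h0]⟩)
      (fun x hx => hmv x (Finset.mem_sdiff.1 hx).1)
    rw [← Finset.sum_sdiff hOT, h1, zero_add]
    obtain ⟨u₁, hu₁⟩ := hmv x₀ hx₀
    set K := Finset.univ.filter fun u => op u x₀ = x₀ with hK
    have hcard : Fintype.card U = O.card * K.card := by
      rw [← Finset.card_univ, Finset.card_eq_sum_card_image (fun u => op u x₀),
        Finset.sum_const_nat (m := K.card) fun o ho => ?_]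
      obtain ⟨a, -, rfl⟩ := Finset.mem_image.1 ho
      refine Finset.card_equiv (Equiv.addLeft (-a)) fun u => ?_
      simp only [hK, Finset.mem_filter, Finset.mem_univ, true_and, Equiv.coe_addLeft]
      constructor
      · intro e; rw [hadd, e, ← hadd, neg_add_cancel, h0]
      · intro e
        conv_rhs => rw [← e, ← hadd, add_neg_cancel_left]
    by_cases hK1 : ∃ u ∈ K, u ≠ 0
    · obtain ⟨u, hu, hu0⟩ := hK1
      have hc : c x₀ = 0 := by
        have h := haff u x₀
        rw [(Finset.mem_filter.1 hu).2, left_eq_add, mul_eq_zero] at h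
        exact h.resolve_left fun e => hu0 (Subtype.ext e)
      rw [Finset.sum_congr rfl (g := fun _ => ψ x₀) fun x hx => by
        obtain ⟨v, -, rfl⟩ := Finset.mem_image.1 hx
        rw [haff, hc, mul_zero, add_zero], Finset.sum_const, nsmul_eq_mul]
      rw [hdvd O.card ⟨_, hcard⟩ ?_, zero_mul]
      intro hO1
      obtain ⟨y, hy⟩ := Finset.card_eq_one.1 hO1
      have e1 : op u₁ x₀ ∈ O := Finset.mem_image_of_mem _ (Finset.mem_univ _)
      rw [hy, Finset.mem_singleton] at e1
      have e2 := hx₀O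
      rw [hy, Finset.mem_singleton] at e2
      exact hu₁ (e1.trans e2.symm)
    · push Not at hK1
      rw [hO, Finset.sum_image fun u _ u' _ e => ?_, Finset.sum_congr rfl fun u _ => haff u x₀,
        Finset.sum_add_distrib, Finset.sum_const, Finset.card_univ, ← Finset.sum_mul, hsum, add_zero, nsmul_eq_mul,
        hdvd _ dvd_rfl ?_, zero_mul]
      · intro h1'
        haveI := Fintype.card_le_one_iff_subsingleton.1 h1'.le
        exact hu₁ (by rw [Subsingleton.elim u₁ 0, h0])
      · have e' : op u x₀ = op u' x₀ := e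
        exact (neg_add_eq_zero.1 (hK1 (-u' + u) (Finset.mem_filter.2
          ⟨Finset.mem_univ _, by rw [hadd, e', ← hadd, neg_add_cancel, h0]⟩))).symm

variable {d : ℕ}

/-- A coefficient with one argument of the factor `i` replaced by a vector. -/
def phi (i : Fin t) (a : Fin d → Fin t → Fin m) (k : Fin d) (z : Fin m → F) :
    ((Fin d → Fin t → Fin m) → F) →+ F :=
  AddMonoidHom.mk' (fun X => ∑ p, z p * X (Function.update a k (Function.update (a k) i p))) fun X Y => by
    simp [mul_add, Finset.sum_add_distrib]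

lemma phi_apply (i : Fin t) (a : Fin d → Fin t → Fin m) (k : Fin d) (z : Fin m → F)
    (X : (Fin d → Fin t → Fin m) → F) :
    phi i a k z X = ∑ p, z p * X (Function.update a k (Function.update (a k) i p)) := rfl

lemma phi_single (i : Fin t) (a : Fin d → Fin t → Fin m) (k : Fin d) (X : (Fin d → Fin t → Fin m) → F) :
    phi i a k (Pi.single (a k i) 1) X = X a := by
  rw [phi_apply, Finset.sum_eq_single (a k i)]
  · simp
  · intro p _ hp; simp [Pi.single_eq_of_ne hp]
  · simp

variable [Finite F] (hF : Nat.card F = q ^ 2)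
include hF

/-- The fixed field. -/
def fixF : AddSubgroup F where
  carrier := {s | s ^ q = s}
  add_mem' {a b} ha hb := by
    simp only [Set.mem_setOf_eq] at *
    rw [TensorU.pow_add hF, ha, hb]
  zero_mem' := TensorU.zero_pow' hF
  neg_mem' {a} ha := by
    simp only [Set.mem_setOf_eq] at *
    rw [TensorU.pow_neg hF, ha]

lemma cast_dvd_fixF [Fintype (fixF hF)] (e : ℕ) (he : e ∣ Fintype.card (fixF hF)) (he1 : e ≠ 1) : (e : F) = 0 := by
  haveI := Fintype.ofFinite F
  obtain ⟨p, hchar⟩ := CharP.exists F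
  obtain ⟨n, hp, hn⟩ := FiniteField.card F p
  have h1 : e ∣ p ^ (n : ℕ) := by
    rw [← hn, ← Nat.card_eq_fintype_card (α := F)]
    refine he.trans ?_
    rw [← Nat.card_eq_fintype_card]
    exact AddSubgroup.card_addSubgroup_dvd_card _
  obtain ⟨k, -, rfl⟩ := (Nat.dvd_prime_pow hp).1 h1
  have hk : k ≠ 0 := fun h => he1 (by rw [h, pow_zero])
  rw [Nat.cast_pow, CharP.cast_eq_zero, zero_pow hk]

lemma sum_fixF [Fintype (fixF hF)] (hq : 3 ≤ q) : ∑ s : fixF hF, (s : F) = 0 := by
  obtain ⟨r, hr, hr0, hr1⟩ := exists_fixed hF hq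
  have hr' : r⁻¹ ^ q = r⁻¹ := by rw [inv_pow, hr]
  let e : fixF hF ≃ fixF hF :=
    { toFun := fun s => ⟨r * s, show (r * (s : F)) ^ q = r * s by rw [mul_pow, hr, s.2]⟩
      invFun := fun s => ⟨r⁻¹ * s, show (r⁻¹ * (s : F)) ^ q = r⁻¹ * s by rw [mul_pow, hr', s.2]⟩
      left_inv := fun s => Subtype.ext (by simp [hr0])
      right_inv := fun s => Subtype.ext (by simp [hr0]) }
  have h : r * ∑ s : fixF hF, (s : F) = ∑ s : fixF hF, (s : F) := by
    rw [Finset.mul_sum]
    exact Fintype.sum_equiv e _ _ fun s => rfl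
  exact (mul_eq_zero.1 (show (r - 1) * ∑ s : fixF hF, (s : F) = 0 by linear_combination h)).resolve_left
    (sub_ne_zero.2 hr1)

/-- A root group of a factor. -/
def rootHom (u : Fin m → F) (κ : F) : fixF hF →+ Matrix (Fin m) (Fin m) F :=
  AddMonoidHom.mk' (fun s => ((s : F) * κ) • vm q u u) fun s s' => by
    rw [AddSubgroup.coe_add, add_mul, add_smul]

lemma rootHom_apply (u : Fin m → F) (κ : F) (s : fixF hF) : rootHom hF u κ s = ((s : F) * κ) • vm q u u := rfl

lemma rootHom_mul {u : Fin m → F} (hu : hd q u u = 0) (κ : F) (s s' : fixF hF) :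
    rootHom hF u κ s * rootHom hF u κ s' = 0 := by
  rw [rootHom_apply, rootHom_apply, smul_mul_smul_comm, vm_mul_vm, hu, zero_smul, smul_zero]

lemma phi_affine {u : Fin m → F} (hu : hd q u u = 0) (κ : F) (ε : Fin d → Bool) (i : Fin t)
    (a : Fin d → Fin t → Fin m) {k k₀ : Fin d} (hk₀ : k₀ ≠ k) (hεk : ε k = true) {z : Fin m → F}
    (hz : hd q z u = 0) (hun : ∀ l, l ≠ k → l ≠ k₀ → u (a l i) = 0) (X : (Fin d → Fin t → Fin m) → F) :
    ∃ c : F, (u (a k₀ i) = 0 → c = 0) ∧ ∀ s : fixF hF,
      phi i a k z (act ε (slotU i (trU (rootHom hF u κ) (rootHom_mul hF hu κ) s)) X) =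
        phi i a k z X + (s : F) * c := by
  classical
  letI := Fintype.ofFinite F
  set O : Matrix (Fin m) (Fin m) F := 1
  set δ : Fin d → Fin m → F := fun l v => if ε l then O v (a l i) else O (a l i) v with hδ
  set η : Fin m → F := fun v => κ * (if ε k₀ then vm q u u v (a k₀ i) else -vm q u u (a k₀ i) v) with hη
  set rest : (Fin d → Fin m) → F := fun v =>
    z (v k) * (∏ l ∈ (Finset.univ.erase k).erase k₀, δ l (v l)) * X (fun l => Function.update (a l) i (v l)) with hrest
  refine ⟨∑ v, η (v k₀) * rest v, fun h0 => Finset.sum_eq_zero fun v _ => ?_, fun s => ?_⟩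
  · have : η (v k₀) = 0 := by simp [hη, vm_apply, h0, zero_pow (q_ne_zero hF)]
    rw [this, zero_mul]
  have h1 : ∀ s : fixF hF, phi i a k z (act ε (slotU i (trU (rootHom hF u κ) (rootHom_mul hF hu κ) s)) X) =
      ∑ v, (δ k₀ (v k₀) + (s : F) * η (v k₀)) * rest v := fun s => by
    simp only [phi_apply, act_trU, Finset.mul_sum]
    rw [Finset.sum_comm]
    refine Finset.sum_congr rfl fun v _ => ?_
    have hne : ∀ p l, l ≠ k → Function.update a k (Function.update (a k) i p) l = a l := fun p l hl =>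
      Function.update_of_ne hl _ _
    have hX : ∀ p, (fun l => Function.update (Function.update a k (Function.update (a k) i p) l) i (v l)) =
        fun l => Function.update (a l) i (v l) := fun p => funext fun l => by
      rcases eq_or_ne l k with rfl | hl
      · simp
      · rw [hne p l hl]
    simp only [hX, ← mul_assoc, ← Finset.sum_mul]
    rw [hrest]
    simp only [← mul_assoc]
    congr 1
    set f : Fin d → Fin m → F := fun l w => if ε l then O (v l) w + rootHom hF u κ s (v l) w
      else O w (v l) - rootHom hF u κ s w (v l)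
    rw [Finset.sum_congr rfl fun p _ => congrArg (z p * ·) (show _ = f k p * ∏ l ∈ Finset.univ.erase k, f l (a l i) by
      rw [← Finset.mul_prod_erase _ _ (Finset.mem_univ k)]
      congr 1
      · simp only [f, O]; rw [Function.update_self, Function.update_self]
      · exact Finset.prod_congr rfl fun l hl => by
          rw [hne p l (Finset.ne_of_mem_erase hl)])]
    simp only [← mul_assoc, ← Finset.sum_mul]
    rw [show ∑ p, z p * f k p = z (v k) by
      simp only [f, hεk, if_true, mul_add, Finset.sum_add_distrib, rootHom_apply, Matrix.smul_apply, smul_eq_mul,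
        vm_apply]
      rw [show ∑ p, z p * ((s : F) * κ * (u (v k) * u p ^ q)) = ((s : F) * κ * u (v k)) * hd q z u by
        rw [hd, Finset.mul_sum]; exact Finset.sum_congr rfl fun p _ => by ring, hz, mul_zero, add_zero]
      simp [O, Matrix.one_apply]]
    rw [← Finset.mul_prod_erase _ _ (Finset.mem_erase.2 ⟨hk₀, Finset.mem_univ k₀⟩),
      Finset.prod_congr rfl (g := fun l => δ l (v l)) fun l hl => by
        simp only [Finset.mem_erase] at hl
        simp [f, hδ, rootHom_apply, vm_apply, hun l hl.2.1 hl.1, zero_pow (q_ne_zero hF)]]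
    rw [show f k₀ (a k₀ i) = δ k₀ (v k₀) + (s : F) * η (v k₀) by
      simp only [f, hδ, hη, rootHom_apply, Matrix.smul_apply, smul_eq_mul]
      split_ifs <;> ring]
    ring
  have h2 := h1 0
  rw [show trU (rootHom hF u κ) (rootHom_mul hF hu κ) 0 = 1 from Units.ext (by rw [trU_val, map_zero, add_zero]; rfl),
    map_one, act_one] at h2
  rw [h1, h2, Finset.mul_sum, ← Finset.sum_add_distrib]
  exact Finset.sum_congr rfl fun v _ => by simp; ring

variable {M : Subgroup (GL (Fin t → Fin m) F)}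

lemma slotU_mem (hM : UBase q M) (i : Fin t) {g : GL (Fin m) F} (hg : g ∈ suGL m F q) : slotU i g ∈ M := by
  obtain ⟨z, hz, hzv⟩ := hM.slot_mem i g hg
  rwa [show slotU i g = z from Units.ext (by rw [slotU_val, hzv])]

/-- An invariant agreeing with the form where a root group acts affinely. -/
theorem exists_invariant (hM : UBad q M) (hm : 3 ≤ m) (hex : ¬ (q = 2 ∧ m = 3)) (ε : Fin d → Bool)
    (C : (Fin d → Fin t → Fin m) → F)
    (hC : ∀ h ∈ M, h ∈ tensorWreathStandard m t F → act ε h C = C) :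
    ∃ T : (Fin d → Fin t → Fin m) → F, (∀ g ∈ M, act ε g T = T) ∧
      ∀ (i : Fin t) (u : Fin m → F), u ≠ 0 → hd q u u = 0 → ∀ (a : Fin d → Fin t → Fin m) (k k₀ : Fin d),
        k₀ ≠ k → ε k = true → ∀ z : Fin m → F, hd q z u = 0 → (∀ l, l ≠ k → l ≠ k₀ → u (a l i) = 0) →
          (3 ≤ q ∨ u (a k₀ i) = 0) → phi i a k z T = phi i a k z C := by
  classical
  letI := Fintype.ofFinite F
  haveI : NeZero m := ⟨by omega⟩
  set H := (tensorWreathStandard m t F).subgroupOf M with hH
  letI : Fintype (↥M ⧸ H) := Fintype.ofFinite _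
  letI : Fintype (fixF hF) := Fintype.ofFinite _
  let f : ↥M ⧸ H → (Fin d → Fin t → Fin m) → F := fun ω =>
    act ε ((ω.out : ↥M) : GL (Fin t → Fin m) F)⁻¹ C
  have hf : ∀ g : ↥M, f (g : ↥M ⧸ H) = act ε (g : GL (Fin t → Fin m) F)⁻¹ C := by
    intro g
    obtain ⟨h, hh⟩ := QuotientGroup.mk_out_eq_mul H g
    show act ε _ C = _
    rw [hh, Subgroup.coe_mul, _root_.mul_inv_rev, act_mul, hC _ (inv_mem h.1.2) (inv_mem h.2)]
  have hsmul : ∀ (γ : ↥M) (ω : ↥M ⧸ H), f (γ • ω) = act ε (γ : GL (Fin t → Fin m) F)⁻¹ (f ω) := by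
    intro γ ω
    induction ω using QuotientGroup.induction_on with
    | _ g =>
      rw [show γ • (g : ↥M ⧸ H) = ((γ * g : ↥M) : ↥M ⧸ H) from rfl, hf, hf, Subgroup.coe_mul,
        _root_.mul_inv_rev, act_mul]
  refine ⟨∑ ω, f ω, fun g hg => ?_, fun i u hu0 hu a k k₀ hk₀ hεk z hz hun hq => ?_⟩
  · rw [act_sum]
    refine Fintype.sum_equiv (MulAction.toPerm (⟨g, hg⟩⁻¹ : ↥M)) _ _ fun ω => ?_
    rw [MulAction.toPerm_apply, hsmul, Subgroup.coe_inv, inv_inv]
  obtain ⟨κ, hκ0, hκ⟩ := TensorU.skew_exists hF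
  set A := rootHom hF u κ with hA
  set hA' := rootHom_mul hF hu κ
  set base : ↥M ⧸ H := ((1 : ↥M) : ↥M ⧸ H) with hbase
  have hρ : ∀ s, slotU i (trU A hA' s) ∈ M := fun s => by
    obtain ⟨x, hx, hxv⟩ := exists_root hF hu (c := (s : F) * κ) (by
      rw [mul_pow, s.2]; linear_combination (s : F) * hκ)
    rw [show trU A hA' s = x from Units.ext (by rw [trU_val, hA, rootHom_apply, hxv])]
    exact slotU_mem hF hM.toUBase i hx
  let op : fixF hF → ↥M ⧸ H → ↥M ⧸ H := fun s ω => (⟨_, hρ s⟩ : ↥M) • ω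
  have hadd : ∀ s s' ω, op (s + s') ω = op s (op s' ω) := fun s s' ω => by
    show _ • ω = _ • _ • ω
    rw [← mul_smul]
    refine congrArg (· • ω) (Subtype.ext ?_)
    show slotU i _ = slotU i _ * slotU i _
    rw [trU_add, map_mul]
  have hone : trU A hA' 0 = 1 := Units.ext (by rw [trU_val, map_zero, add_zero]; rfl)
  have h0 : ∀ ω, op 0 ω = ω := fun ω => by
    show _ • ω = ω
    rw [show (⟨_, hρ 0⟩ : ↥M) = 1 from Subtype.ext (by
      show slotU i (trU A hA' 0) = 1
      rw [hone, map_one]), one_smul]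
  have hfix : ∀ s, op s base = base := fun s => by
    show _ • _ = _
    refine QuotientGroup.eq.2 ?_
    rw [hH, Subgroup.mem_subgroupOf]
    simp only [smul_eq_mul, mul_one, Subgroup.coe_inv]
    exact inv_mem (slotU_mem_wreath i _)
  choose c hc0 hc using fun X => phi_affine hF hu κ ε i a hk₀ hεk hz hun X
  have key : phi i a k z (∑ ω ∈ Finset.univ.erase base, f ω) = 0 := by
    rw [map_sum]
    refine sum_affine_orbits op h0 hadd (fun ω => phi i a k z (f ω)) (fun ω => -c (f ω)) (fun s ω => ?_)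
      (fun ω => ?_) (cast_dvd_fixF hF) _ (fun s ω hω => ?_) fun ω hω => ?_
    · show phi i a k z (f (_ • ω)) = _
      rw [hsmul]
      show phi i a k z (act ε (slotU i (trU A hA' s))⁻¹ (f ω)) = _
      rw [← map_inv, show (trU A hA' s)⁻¹ = trU A hA' (-s) from Units.ext (by rw [trU_inv_val, trU_val]),
        hc, AddSubgroup.coe_neg]
      ring
    · rcases hq with hq | hq
      · rw [sum_fixF hF hq, zero_mul]
      · rw [hc0 _ hq, neg_zero, mul_zero]
    · refine Finset.mem_erase.2 ⟨fun e => Finset.ne_of_mem_erase hω ?_, Finset.mem_univ _⟩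
      rw [← h0 ω, ← neg_add_cancel s, hadd, e, hfix]
    · by_contra hcon
      push Not at hcon
      refine Finset.ne_of_mem_erase hω ?_
      induction ω using QuotientGroup.induction_on with
      | _ g =>
        have hg' : (g : GL (Fin t → Fin m) F)⁻¹ ∈ tensorWreathStandard m t F := by
          refine mem_of_root hF hM hm hex (M.inv_mem g.2) hu0 hu hκ0 hκ (i := i) fun s hs => ?_
          have hgH := QuotientGroup.eq.1 (hcon ⟨s, hs⟩).symm
          rw [Subgroup.mem_subgroupOf] at hgH
          simp only [smul_eq_mul, Subgroup.coe_mul, Subgroup.coe_inv] at hgH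
          refine ⟨_, hgH, ?_⟩
          rw [Units.val_mul, Units.val_mul, slotU_val, trU_val, hA, rootHom_apply, slot_add, slot_one, slot_smul,
            ← cj_smul, cj, inv_inv, add_mul, one_mul, mul_add, Units.inv_mul, mul_assoc]
        refine QuotientGroup.eq.2 ?_
        rw [hH, Subgroup.mem_subgroupOf]
        simpa using hg'
  rw [← Finset.sum_erase_add _ _ (Finset.mem_univ base), map_add, key, zero_add, hbase, hf, Subgroup.coe_one,
    inv_one, act_one]

lemma exists_phase_pow (e : ℕ) (he : 0 < e) (heq : e ≤ q) : ∃ l : F, l * l ^ q = 1 ∧ l ^ e ≠ 1 := by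
  classical
  letI := Fintype.ofFinite F
  by_contra hcon
  push Not at hcon
  open Polynomial in
    have hsub : (Finset.univ.filter fun l : F => l * l ^ q = 1).val ⊆ (X ^ e - C 1 : F[X]).roots := by
      intro l hl
      rw [Polynomial.mem_roots (Polynomial.X_pow_sub_C_ne_zero he 1)]
      simp only [Finset.mem_val, Finset.mem_filter, Finset.mem_univ, true_and] at hl
      simp [hcon l hl]
  have h := ((Multiset.card_le_card ((Multiset.le_iff_subset (Finset.nodup _)).2 hsub)).trans
    (Polynomial.card_roots' _)).trans Polynomial.natDegree_X_pow_sub_C.le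
  rw [Finset.card_val, card_phase hF] at h
  omega

omit hF in
/-- The weight of an index in the arguments. -/
def wt (i : Fin t) (a : Fin 4 → Fin t → Fin m) (p : Fin m) : ℤ :=
  (if a 0 i = p then 1 else 0) + (if a 2 i = p then 1 else 0) - (if a 1 i = p then 1 else 0) -
    (if a 3 i = p then 1 else 0)

omit hF in
lemma exists_weight (hm : 3 ≤ m) (hq : 2 ≤ q) (hex : ¬ (q = 2 ∧ m = 3)) {i : Fin t} {a : Fin 4 → Fin t → Fin m}
    (h : ¬ ∀ p, wt i a p = 0) : ∃ (p r : Fin m) (e : ℕ), p ≠ r ∧ 0 < e ∧ e ≤ q ∧ (e : ℤ) = wt i a p - wt i a r := by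
  classical
  have hsum : ∑ p, wt i a p = 0 := by simp [wt, Finset.sum_add_distrib]
  have habs : ∀ p, |wt i a p| ≤ (if a 0 i = p then 1 else 0) + (if a 2 i = p then 1 else 0) +
      (if a 1 i = p then 1 else 0) + (if a 3 i = p then 1 else 0) := fun p => by
    simp only [wt]; split_ifs <;> simp
  have htot : ∑ p, |wt i a p| ≤ 4 := (Finset.sum_le_sum fun p _ => habs p).trans (by simp [Finset.sum_add_distrib])
  have hle2 : ∀ p, wt i a p ≤ 2 := fun p => by simp only [wt]; split_ifs <;> simp
  obtain ⟨p, hp⟩ : ∃ p, 0 < wt i a p := by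
    by_contra hcon
    push Not at hcon
    exact h fun p => (Finset.sum_eq_zero_iff_of_nonpos fun r _ => hcon r).1 hsum p (Finset.mem_univ p)
  obtain ⟨r, hr⟩ : ∃ r, wt i a r < 0 := by
    by_contra hcon
    push Not at hcon
    exact (lt_irrefl _ (((Finset.sum_eq_zero_iff_of_nonneg fun r _ => hcon r).1 hsum p (Finset.mem_univ p)) ▸ hp))
  by_cases hz : ∃ r, wt i a r = 0
  · obtain ⟨r', hr'⟩ := hz
    have := hle2 p
    exact ⟨p, r', (wt i a p).toNat, fun e => by rw [e, hr'] at hp; exact lt_irrefl _ hp, by omega, by omega, by omega⟩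
  push Not at hz
  have hpr : p ≠ r := fun e => by rw [e] at hp; omega
  have hrest : ((m : ℤ) - 2) ≤ ∑ s ∈ (Finset.univ.erase p).erase r, |wt i a s| := by
    have h1 := Finset.card_nsmul_le_sum ((Finset.univ.erase p).erase r) (fun s => |wt i a s|) 1
      fun s _ => Int.one_le_abs (hz s)
    rw [Finset.card_erase_of_mem (Finset.mem_erase.2 ⟨hpr.symm, Finset.mem_univ r⟩),
      Finset.card_erase_of_mem (Finset.mem_univ p), Finset.card_univ, Fintype.card_fin, nsmul_one] at h1
    omega
  rw [← Finset.add_sum_erase _ _ (Finset.mem_univ p), ← Finset.add_sum_erase _ _ (Finset.mem_erase.2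
    ⟨hpr.symm, Finset.mem_univ r⟩), abs_of_pos hp, abs_of_neg hr] at htot
  exact ⟨p, r, (wt i a p - wt i a r).toNat, hpr, by omega, by
    have : q = 2 → 4 ≤ m := fun h2 => by have : m ≠ 3 := fun h3 => hex ⟨h2, h3⟩; omega
    omega, by omega⟩

/-- An invariant of the isometries of a factor vanishes at unbalanced arguments. -/
lemma eq_zero_of_wt (hm : 3 ≤ m) (hex : ¬ (q = 2 ∧ m = 3)) {i : Fin t} {D : (Fin 4 → Fin t → Fin m) → F}
    (hD : ∀ g ∈ suGL m F q, act ε4 (slotU i g) D = D) {a : Fin 4 → Fin t → Fin m} (h : ¬ ∀ p, wt i a p = 0) :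
    D a = 0 := by
  classical
  letI := Fintype.ofFinite F
  obtain ⟨p, r, e, hpr, he, heq, hew⟩ := exists_weight hm (CfsgLib.Forms.two_le_q hF) hex h
  obtain ⟨l, hl, hle⟩ := exists_phase_pow hF e he heq
  have hl0 : l ≠ 0 := fun h0 => by rw [h0, zero_mul] at hl; exact zero_ne_one hl
  set dd : Fin m → F := fun s => if s = p then l else if s = r then l⁻¹ else 1 with hdd
  have hdd0 : ∀ s, dd s ≠ 0 := fun s => by simp only [hdd]; split_ifs <;> simp [hl0]
  obtain ⟨g, hg, hgv⟩ := exists_gl_of_u hF (X := Matrix.diagonal dd) (by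
    rw [show st q (Matrix.diagonal dd) = Matrix.diagonal fun s => dd s ^ q from Matrix.ext fun x y => by
      rcases eq_or_ne x y with rfl | hxy <;> simp [st, *, Matrix.diagonal_apply_ne' _, zero_pow (q_ne_zero hF)],
      Matrix.diagonal_mul_diagonal, ← Matrix.diagonal_one]
    congr 1
    funext s
    simp only [hdd]
    split_ifs
    · rw [mul_comm, hl]
    · rw [inv_pow, ← mul_inv, mul_comm, hl, inv_one]
    · simp) (by
    rw [Matrix.det_diagonal, ← Finset.mul_prod_erase _ _ (Finset.mem_univ p),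
      ← Finset.mul_prod_erase _ _ (Finset.mem_erase.2 ⟨hpr.symm, Finset.mem_univ r⟩), Finset.prod_eq_one fun s hs => ?_]
    · simp [hdd, hpr.symm, hl0]
    · simp only [Finset.mem_erase] at hs
      simp [hdd, hs.1, hs.2.1])
  have hgi : ((g⁻¹ : GL (Fin m) F) : Matrix (Fin m) (Fin m) F) = Matrix.diagonal fun s => (dd s)⁻¹ :=
    Units.inv_eq_of_mul_eq_one_right (by
      rw [hgv, Matrix.diagonal_mul_diagonal, ← Matrix.diagonal_one]
      congr 1; funext s; exact mul_inv_cancel₀ (hdd0 s))
  have h1 := congrFun (hD g hg) a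
  rw [act_slot, Finset.sum_eq_single (fun k => a k i)] at h1
  · simp only [Fin.prod_univ_four, ε4, ent, Matrix.cons_val_zero, Matrix.cons_val_one, Matrix.cons_val, if_true,
      Bool.false_eq_true, if_false, hgv, hgi, Matrix.diagonal_apply_eq, Function.update_eq_self] at h1
    have hz : ∀ s, dd s = l ^ ((if p = s then 1 else 0) - (if r = s then 1 else 0) : ℤ) := fun s => by
      simp only [hdd]
      rcases eq_or_ne s p with rfl | hsp
      · simp [hpr.symm]
      rcases eq_or_ne s r with rfl | hsr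
      · simp [hsp, hsp.symm]
      · simp [hsp, hsp.symm, hsr, hsr.symm]
    have hprod : dd (a 0 i) * (dd (a 1 i))⁻¹ * dd (a 2 i) * (dd (a 3 i))⁻¹ = l ^ e := by
      rw [← zpow_natCast, hew, hz, hz, hz, hz, ← _root_.zpow_neg, ← _root_.zpow_neg, ← zpow_add₀ hl0, ← zpow_add₀ hl0,
        ← zpow_add₀ hl0]
      congr 1
      simp only [wt, eq_comm (a := p), eq_comm (a := r)]
      ring
    rw [hprod] at h1
    exact (mul_eq_zero.1 (show (l ^ e - 1) * D a = 0 by linear_combination h1)).resolve_left (sub_ne_zero.2 hle)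
  · intro v _ hv
    obtain ⟨k, hk⟩ := Function.ne_iff.1 hv
    rw [Finset.prod_eq_zero (Finset.mem_univ k), zero_mul]
    cases hk' : ε4 k
    · rw [ent_false, hgi, Matrix.diagonal_apply_ne _ (Ne.symm hk)]
    · rw [ent_true, hgv, Matrix.diagonal_apply_ne _ hk]
  · simp

omit hF in
lemma sum_cas_update [NeZero m] (i : Fin t) {X : Matrix (Fin m) (Fin m) F} (hX : ∑ p, X p p = 0)
    (x y : Fin t → Fin m) :
    ∑ p, ∑ r, X p r * cas (F := F) (∅ : Finset (Fin t)) 1 ![y, x, Function.update 0 i p, Function.update 0 i r] =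
      (slot i X : Mt t m F) x y := by
  classical
  rw [slot_eq_sum]
  simp only [Matrix.sum_apply, Matrix.smul_apply, smul_eq_mul]
  have hne : ∀ p r, p ≠ r →
      cas (F := F) (∅ : Finset (Fin t)) 1 ![y, x, Function.update 0 i p, Function.update 0 i r] = (eu i p r : Mt t m F) x y :=
    fun p r h => cas_one_update (Finset.notMem_empty i) h x y
  obtain ⟨b, hb⟩ : ∃ b, ∀ p, cas (F := F) (∅ : Finset (Fin t)) 1 ![y, x, Function.update 0 i p, Function.update 0 i p] =
      (eu i p p : Mt t m F) x y + b := by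
    have h0 : ∀ X : Mt t m F, cj 1 X = X := fun X => by simp [cj]
    refine ⟨∑ l ∈ Finset.univ.erase i, (eu l 0 0 : Mt t m F) x y, fun p => ?_⟩
    simp only [cas, h0, Matrix.cons_val_zero, Matrix.cons_val_one, Matrix.cons_val, Finset.compl_empty]
    rw [← Finset.add_sum_erase _ _ (Finset.mem_univ i)]
    congr 1
    · rw [Finset.sum_eq_single p, Finset.sum_eq_single p]
      · simp [eu, slot_update]
      · intro q _ hq
        simp [eu, slot_update, Matrix.single_apply, hq]
      · simp
      · intro p' _ hp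
        refine Finset.sum_eq_zero fun q _ => ?_
        simp [eu, slot_update, Matrix.single_apply, hp]
      · simp
    · refine Finset.sum_congr rfl fun l hl => ?_
      have hli := Finset.ne_of_mem_erase hl
      have hv : ∀ a b : Fin m, (eu l a b : Mt t m F) (Function.update 0 i p) (Function.update 0 i p) =
          if a = 0 ∧ b = 0 then 1 else 0 := fun a b => by
        rw [eu, slot_apply, if_pos fun _ _ => rfl, Function.update_of_ne hli, Pi.zero_apply, Matrix.single_apply]
      simp only [hv, ite_and, mul_ite, mul_one, mul_zero, Finset.sum_ite_eq', Finset.mem_univ, if_true]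
  have e : ∀ p r, cas (F := F) (∅ : Finset (Fin t)) 1 ![y, x, Function.update 0 i p, Function.update 0 i r] =
      (eu i p r : Mt t m F) x y + if p = r then b else 0 := fun p r => by
    rcases eq_or_ne p r with rfl | h
    · rw [if_pos rfl, hb]
    · rw [if_neg h, add_zero, hne p r h]
  simp only [e, mul_add, Finset.sum_add_distrib, mul_ite, mul_zero, Finset.sum_ite_eq, Finset.mem_univ, if_true,
    ← Finset.sum_mul, hX, zero_mul, add_zero]

/-- Members fixing the Casimir form lie in the wreath group. -/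
lemma mem_of_cas (hM : UBad q M) (hm : 3 ≤ m) (hex : ¬ (q = 2 ∧ m = 3)) (i : Fin t)
    (hinv : ∀ g ∈ M, cas (∅ : Finset (Fin t)) g = cas ∅ 1) {g : GL (Fin t → Fin m) F} (hg : g ∈ M) :
    g ∈ tensorWreathStandard m t F := by
  classical
  haveI : NeZero m := ⟨by omega⟩
  letI := Fintype.ofFinite F
  obtain ⟨u, hu0, hu⟩ := TensorU.exists_iso hF (m := m) (by omega)
  change hd q u u = 0 at hu
  obtain ⟨κ, hκ0, hκ⟩ := TensorU.skew_exists hF
  set X : Matrix (Fin m) (Fin m) F := κ • vm q u u with hX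
  have htr : ∑ p, X p p = 0 := by
    simp only [hX, Matrix.smul_apply, smul_eq_mul, vm_apply, ← Finset.mul_sum]
    rw [show ∑ p, u p * u p ^ q = hd q u u from rfl, hu, mul_zero]
  set K : Fin t → Matrix (Fin m) (Fin m) F := fun l => ∑ p, ∑ r, X p r •
    Matrix.of fun a b => cj g (eu l b a) (Function.update 0 i r) (Function.update 0 i p) with hK
  have hcj : cj g (∑ l ∈ (∅ : Finset (Fin t))ᶜ, slot l (K l)) = slot i X := by
    ext x y
    rw [← sum_cas_update i htr x y, ← hinv g hg]
    simp only [cas, Matrix.cons_val_zero, Matrix.cons_val_one, Matrix.cons_val, slot_eq_sum, cj, Finset.mul_sum,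
      Finset.sum_mul, Matrix.sum_apply, mul_smul_comm, smul_mul_assoc, Matrix.smul_apply, smul_eq_mul, hK,
      Matrix.of_apply]
    symm
    rw [Finset.sum_congr rfl fun p _ => Finset.sum_comm, Finset.sum_comm]
    refine Finset.sum_congr rfl fun l _ => ?_
    rw [Finset.sum_congr rfl fun p _ => Finset.sum_comm, Finset.sum_comm]
    refine Finset.sum_congr rfl fun a _ => ?_
    rw [Finset.sum_congr rfl fun p _ => Finset.sum_comm, Finset.sum_comm]
    refine Finset.sum_congr rfl fun b _ => Finset.sum_congr rfl fun p _ => Finset.sum_congr rfl fun r _ => ?_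
    ring
  have hX' : cj g⁻¹ (slot i X) = ∑ l ∈ (∅ : Finset (Fin t))ᶜ, slot l (K l) := by rw [← hcj, cj_inv_cj]
  have hab : (⟨0, by omega⟩ : Fin m) ≠ ⟨1, by omega⟩ := by simp
  obtain ⟨h₀, -, hh₀⟩ := exists_conj_single hm hu0 (f := κ • cq q u) (fun e => by
    obtain ⟨a, ha⟩ := Function.ne_iff.1 hu0
    exact mul_ne_zero hκ0 (pow_ne_zero q ha) (congrFun e a))
    (by rw [smul_dotProduct, dotProduct_comm, ← hd_eq_dot, hu, smul_zero]) hab
  obtain ⟨j, A, hA, -, hAA⟩ := classify_sum hm K hX'
    (by rw [← cj_mul, slot_mul, hX, smul_mul_smul_comm, vm_mul_vm, hu, zero_smul, smul_zero, slot_zero, cj_zero])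
    (i := i) (a := ⟨0, by omega⟩) (b := ⟨1, by omega⟩) (by
      rw [rank_cj, ← rank_cj (slotU i h₀), cj_slotU, hX, eu, ← hh₀, Matrix.vecMulVec_smul]
      rfl)
  refine inv_mem_iff.1 (mem_of_root hF hM hm hex (M.inv_mem hg) hu0 hu hκ0 hκ (i := i) fun s _ => ?_)
  have hsA : (s • A) * (s • A) = 0 := by rw [smul_mul_smul_comm, hAA, smul_zero]
  let v : GL (Fin m) F := ⟨1 + s • A, 1 - s • A,
    by rw [mul_sub, mul_one, add_mul, one_mul, hsA]; abel, by rw [sub_mul, one_mul, mul_add, mul_one, hsA]; abel⟩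
  refine ⟨slotU j v, slotU_mem_wreath j v, ?_⟩
  rw [slotU_val, ← cj_smul, ← slot_smul, ← smul_smul, ← hX, slot_smul, cj_smul, hA]
  show slot j (1 + s • A) = _
  rw [slot_add, slot_one, slot_smul]

/-- An overgroup without full centres lies in the wreath group. -/
theorem le_wreath (hM : UBad q M) (hm : 3 ≤ m) (hex : ¬ (q = 2 ∧ m = 3)) (ht : 0 < t) :
    M ≤ tensorWreathStandard m t F := by
  classical
  letI := Fintype.ofFinite F
  haveI : NeZero m := ⟨by omega⟩
  set i : Fin t := ⟨0, ht⟩
  set C : (Fin 4 → Fin t → Fin m) → F := cas ∅ (1 : GL (Fin t → Fin m) F) with hCdef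
  have hCH : ∀ h ∈ M, h ∈ tensorWreathStandard m t F → act ε4 h C = C := fun h hh hN => by
    rw [hCdef, act_cas, mul_one]
    exact cas_eq_of_mem (M := M) (by omega) ⟨inv_mem hh, by simp⟩ (inv_mem hN)
  obtain ⟨T, hT, hTC⟩ := exists_invariant hF hM hm hex ε4 C hCH
  set D := T - C with hDdef
  have hD : ∀ g ∈ suGL m F q, act ε4 (slotU i g) D = D := fun g hg => by
    rw [hDdef, act_sub, hT _ (slotU_mem hF hM.toUBase i hg),
      hCH _ (slotU_mem hF hM.toUBase i hg) (slotU_mem_wreath i g)]
  have hTeq : T = C := funext fun a => by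
    rw [← sub_eq_zero]
    show D a = 0
    by_cases hw : ∀ p, wt i a p = 0
    swap
    · exact eq_zero_of_wt hF hm hex hD hw
    obtain ⟨β, hβ⟩ := TensorU.norm_exists hF (t := (-1 : F)) (by rw [TensorU.pow_neg hF, one_pow])
    have hβ0 : β ≠ 0 := fun h => by rw [h, zero_mul] at hβ; simp at hβ
    have hiso : ∀ b c : Fin m, b ≠ c → (Pi.single b 1 + β • Pi.single c 1 : Fin m → F) ≠ 0 ∧
        hd q (Pi.single b 1 + β • Pi.single c 1 : Fin m → F) (Pi.single b 1 + β • Pi.single c 1) = 0 := fun b c h => by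
      refine ⟨fun e => by simpa [h] using congrFun e b, ?_⟩
      simp only [hd_add_right hF, hd_smul_right, hd_single_right _ _ (q_ne_zero hF), Pi.add_apply, Pi.smul_apply,
        smul_eq_mul, Pi.single_eq_same, Pi.single_eq_of_ne h, Pi.single_eq_of_ne h.symm, mul_zero, add_zero, zero_add,
        mul_one]
      linear_combination hβ
    have hpair : (a 0 i = a 1 i ∧ a 2 i = a 3 i) ∨ (a 0 i = a 3 i ∧ a 2 i = a 1 i) := by
      have h0 := hw (a 0 i)
      have h2 := hw (a 2 i)
      have h1 := hw (a 1 i)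
      simp only [wt] at h0 h1 h2
      grind
    have hval : ∀ k : Fin 4, a k i = a 0 i ∨ a k i = a 2 i := fun k => by
      fin_cases k <;> rcases hpair with ⟨e, e'⟩ | ⟨e, e'⟩ <;> simp [e, e']
    -- two indices outside
    by_cases hfree : ∃ b c : Fin m, b ≠ c ∧ (∀ k, a k i ≠ b) ∧ ∀ k, a k i ≠ c
    · obtain ⟨b, c, hbc, hb, hc⟩ := hfree
      have hu : ∀ k, (Pi.single b 1 + β • Pi.single c 1 : Fin m → F) (a k i) = 0 := fun k => by
        simp [hb k, hc k]
      have := hTC i _ (hiso b c hbc).1 (hiso b c hbc).2 a 2 0 (by decide) rfl (Pi.single (a 2 i) 1)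
        (hd_swap0 hF (by rw [hd_single_right _ _ (q_ne_zero hF)]; exact hu 2)) (fun l _ _ => hu l) (Or.inr (hu 0))
      rw [phi_single, phi_single] at this
      simp [hDdef, this]
    push Not at hfree
    have h02 : a 0 i ≠ a 2 i := by
      intro e
      have hall : ∀ k, a k i = a 0 i := fun k => (hval k).elim id (fun h => h.trans e.symm)
      obtain ⟨b, hb, c, hc, hbc⟩ := Finset.one_lt_card.1 (show 1 < (Finset.univ.erase (a 0 i)).card by
        rw [Finset.card_erase_of_mem (Finset.mem_univ _), Finset.card_univ, Fintype.card_fin]; omega)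
      obtain ⟨k, hk⟩ := hfree b c hbc (fun k h => Finset.ne_of_mem_erase hb (by rw [← h, hall k]))
      exact Finset.ne_of_mem_erase hc (by rw [← hk, hall k])
    have hm3 : m = 3 := by
      by_contra hne
      obtain ⟨b, hb, c, hc, hbc⟩ := Finset.one_lt_card.1
        (show 1 < ((Finset.univ.erase (a 0 i)).erase (a 2 i)).card by
          rw [Finset.card_erase_of_mem (Finset.mem_erase.2 ⟨h02.symm, Finset.mem_univ _⟩),
            Finset.card_erase_of_mem (Finset.mem_univ _), Finset.card_univ, Fintype.card_fin]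
          omega)
      simp only [Finset.mem_erase] at hb hc
      obtain ⟨k, hk⟩ := hfree b c hbc (fun k h => (hval k).elim (fun e => hb.2.1 (h.symm.trans e))
        fun e => hb.1 (h.symm.trans e))
      exact (hval k).elim (fun e => hc.2.1 (hk.symm.trans e)) fun e => hc.1 (hk.symm.trans e)
    have hq : 3 ≤ q := by
      have := CfsgLib.Forms.two_le_q hF
      have : q ≠ 2 := fun h => hex ⟨h, hm3⟩
      omega
    obtain ⟨c, hc⟩ : ∃ c, c ∈ (Finset.univ.erase (a 0 i)).erase (a 2 i) := Finset.card_pos.1 (by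
      rw [Finset.card_erase_of_mem (Finset.mem_erase.2 ⟨h02.symm, Finset.mem_univ _⟩),
        Finset.card_erase_of_mem (Finset.mem_univ _), Finset.card_univ, Fintype.card_fin]
      omega)
    simp only [Finset.mem_erase] at hc
    set u : Fin m → F := Pi.single (a 2 i) 1 + β • Pi.single c 1 with hudef
    have hu' := hiso (a 2 i) c (Ne.symm hc.1)
    obtain ⟨k₀, hk₀, hrest⟩ : ∃ k₀ : Fin 4, k₀ ≠ 2 ∧ ∀ l, l ≠ 2 → l ≠ k₀ → a l i = a 0 i := by
      rcases hpair with ⟨e, e'⟩ | ⟨e, e'⟩
      · exact ⟨3, by decide, fun l h1 h2 => by fin_cases l <;> simp_all⟩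
      · exact ⟨1, by decide, fun l h1 h2 => by fin_cases l <;> simp_all⟩
    have h := hTC i u hu'.1 hu'.2 a 2 k₀ hk₀ rfl u hu'.2
      (fun l h1 h2 => by rw [hrest l h1 h2, hudef]; simp [h02, hc.2.1.symm]) (Or.inl hq)
    have hDphi : phi i a 2 u D = 0 := by rw [hDdef, map_sub, h, sub_self]
    have hunb : D (Function.update a 2 (Function.update (a 2) i c)) = 0 := by
      refine eq_zero_of_wt hF hm hex hD fun hall => ?_
      have hc0 := hall c
      rcases hpair with ⟨e, e'⟩ | ⟨e, e'⟩ <;>
        simp [wt, Function.update_of_ne, hc.1.symm, hc.2.1.symm, ← e, ← e'] at hc0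
    rw [phi_apply, Finset.sum_eq_single (a 2 i)] at hDphi
    · simpa [hudef, hc.1] using hDphi
    · intro p _ hp
      rcases eq_or_ne p c with rfl | hpc
      · rw [hunb, mul_zero]
      · simp [hudef, hp, hpc]
    · simp
  intro g hg
  refine mem_of_cas hF hM hm hex i (fun x hx => ?_) hg
  rw [← hCdef, ← hTeq]
  conv_rhs => rw [← hT _ (inv_mem hx)]
  rw [hTeq, hCdef, act_cas, inv_inv, mul_one]

end CfsgLib.Geo.TensorPow.U
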