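/-
Restricting to the factors other than one, and the dichotomy between the wreath group and full centres.
-/
import Cfsg.Agent.Geo.TensorPow.U.Avg

set_option autoImplicit false
set_option linter.unusedSectionVars false

namespace CfsgLib.Geo.TensorPow.U

open Matrix Cfsg.Geo CfsgLib.Geo CfsgLib.Aschbacher CfsgLib.Geo.UTv
open scoped MatrixGroups

variable {F : Type*} [Field F] {q t m s : ℕ}

/-- The permutation fixing `b` and acting as `σ` on the others. -/
def extP (b : Fin (s + 1)) (σ : Equiv.Perm (Fin s)) : Equiv.Perm (Fin (s + 1)) :=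
  ((finSuccEquiv' b).trans σ.optionCongr).trans (finSuccEquiv' b).symm

lemma extP_self (b : Fin (s + 1)) (σ : Equiv.Perm (Fin s)) : extP b σ b = b := by simp [extP]

lemma extP_succ (b : Fin (s + 1)) (σ : Equiv.Perm (Fin s)) (l : Fin s) :
    extP b σ (b.succAbove l) = b.succAbove (σ l) := by simp [extP]

lemma extP_mul (b : Fin (s + 1)) (σ τ : Equiv.Perm (Fin s)) : extP b (σ * τ) = extP b σ * extP b τ := by
  ext l
  rcases Fin.eq_self_or_eq_succAbove b l with rfl | ⟨l, rfl⟩
  · simp [Equiv.Perm.mul_apply, extP_self]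
  · simp [Equiv.Perm.mul_apply, extP_succ]

/-- A matrix of the other factors acting trivially on the factor `b`. -/
def emb (b : Fin (s + 1)) (X : Mt s m F) : Mt (s + 1) m F :=
  Matrix.of fun x y => if x b = y b then X (b.removeNth x) (b.removeNth y) else 0

lemma emb_apply_insert (b : Fin (s + 1)) (X : Mt s m F) (p r : Fin m) (x y : Fin s → Fin m) :
    emb b X (b.insertNth p x) (b.insertNth r y) = if p = r then X x y else 0 := by
  simp [emb]

lemma emb_add (b : Fin (s + 1)) (X Y : Mt s m F) : emb b (X + Y) = emb b X + emb b Y :=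
  Matrix.ext fun x y => by simp only [emb, Matrix.of_apply, Matrix.add_apply]; split_ifs <;> simp

lemma emb_smul (b : Fin (s + 1)) (c : F) (X : Mt s m F) : emb b (c • X) = c • emb b X :=
  Matrix.ext fun x y => by simp only [emb, Matrix.of_apply, Matrix.smul_apply]; split_ifs <;> simp

lemma emb_tens (b : Fin (s + 1)) (a : Fin s → Matrix (Fin m) (Fin m) F) :
    emb b (tens a : Mt s m F) = tens (b.insertNth (1 : Matrix (Fin m) (Fin m) F) a) := Matrix.ext fun x y => by
  simp only [emb, tens, Matrix.of_apply, Fin.prod_univ_succAbove _ b, Fin.insertNth_apply_same,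
    Fin.insertNth_apply_succAbove, Matrix.one_apply, Fin.removeNth]
  split_ifs <;> simp

lemma emb_one (b : Fin (s + 1)) : emb b (1 : Mt s m F) = 1 := by
  rw [← tens_one, emb_tens, ← tens_one]
  congr 1
  funext l
  rcases Fin.eq_self_or_eq_succAbove b l with rfl | ⟨l, rfl⟩ <;> simp

lemma emb_mul (b : Fin (s + 1)) (X Y : Mt s m F) : emb b (X * Y) = emb b X * emb b Y := Matrix.ext fun x y => by
  rw [Matrix.mul_apply, ← (Fin.insertNthEquiv (fun _ => Fin m) b).sum_comp, Fintype.sum_prod_type]
  simp only [emb, Fin.insertNthEquiv_apply, Matrix.of_apply, Fin.insertNth_apply_same, Fin.removeNth_insertNth,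
    Matrix.mul_apply]
  by_cases h : x b = y b
  · rw [Finset.sum_eq_single (x b)]
    · simp [h, Fin.insertNthEquiv]
    · intro p _ hp; simp [Ne.symm hp]
    · simp
  · rw [if_neg h, eq_comm]
    refine Finset.sum_eq_zero fun p _ => Finset.sum_eq_zero fun z _ => ?_
    by_cases hp : x b = p
    · rw [if_pos hp, if_neg (fun e => h (hp.trans e)), mul_zero]
    · rw [if_neg hp, zero_mul]

lemma emb_injective [NeZero m] (b : Fin (s + 1)) : Function.Injective (emb b : Mt s m F → Mt (s + 1) m F) :=
  fun X Y h => Matrix.ext fun x y => by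
    have := congrFun (congrFun h (b.insertNth 0 x)) (b.insertNth 0 y)
    rwa [emb_apply_insert, emb_apply_insert, if_pos rfl, if_pos rfl] at this

/-- The embedding of the invertible matrices of the other factors. -/
def embHom (b : Fin (s + 1)) : GL (Fin s → Fin m) F →* GL (Fin (s + 1) → Fin m) F :=
  Units.map { toFun := emb b, map_one' := emb_one b, map_mul' := emb_mul b }

lemma embHom_val (b : Fin (s + 1)) (g : GL (Fin s → Fin m) F) :
    (embHom b g : Mt (s + 1) m F) = emb b (g : Mt s m F) := rfl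

lemma exists_emb [NeZero m] {b : Fin (s + 1)} {X : Mt (s + 1) m F} (h : Com b X) : ∃ Y, X = emb b Y := by
  refine ⟨Matrix.of fun x y => X (b.insertNth 0 x) (b.insertNth 0 y), Matrix.ext fun x y => ?_⟩
  have hu : ∀ z : Fin (s + 1) → Fin m, Function.update z b 0 = b.insertNth 0 (b.removeNth z) := fun z => by
    rw [Fin.insertNth_removeNth]
  rw [h.apply_update x y 0, hu, hu]
  rfl

lemma exists_embHom [NeZero m] {b : Fin (s + 1)} {g : GL (Fin (s + 1) → Fin m) F} (h : Com b (g : Mt (s + 1) m F)) :
    ∃ g', embHom b g' = g := by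
  obtain ⟨X, hX⟩ := exists_emb h
  obtain ⟨Y, hY⟩ := exists_emb h.inv
  refine ⟨⟨X, Y, emb_injective b ?_, emb_injective b ?_⟩, Units.ext hX.symm⟩
  · rw [emb_mul, ← hX, ← hY, Units.mul_inv, emb_one]
  · rw [emb_mul, ← hX, ← hY, Units.inv_mul, emb_one]

lemma emb_permMat (b : Fin (s + 1)) (σ : Equiv.Perm (Fin s)) :
    emb b (permMat m σ : Mt s m F) = permMat m (extP b σ) := Matrix.ext fun x y => by
  simp only [emb, permMat, Matrix.of_apply]
  have : y = x ∘ extP b σ ↔ x b = y b ∧ b.removeNth y = b.removeNth x ∘ σ := by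
    constructor
    · rintro rfl
      exact ⟨by simp [extP_self], funext fun l => by simp [Fin.removeNth, extP_succ]⟩
    · rintro ⟨h1, h2⟩
      funext l
      rcases Fin.eq_self_or_eq_succAbove b l with rfl | ⟨l, rfl⟩
      · simp [extP_self, h1]
      · simpa [Fin.removeNth, extP_succ] using congrFun h2 l
  by_cases h1 : x b = y b <;> by_cases h2 : b.removeNth y = b.removeNth x ∘ σ <;> simp [this, h1, h2]

lemma embHom_mem_wreath [Finite F] (b : Fin (s + 1)) {g : GL (Fin s → Fin m) F}
    (hg : g ∈ tensorWreathStandard m s F) : embHom b g ∈ tensorWreathStandard m (s + 1) F := by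
  letI := Fintype.ofFinite F
  obtain ⟨a, σ, hv⟩ := exists_tens_perm hg
  set A : Fin (s + 1) → GL (Fin m) F := b.insertNth (1 : GL (Fin m) F) a with hA
  have hA' : (fun l => (A l : Matrix (Fin m) (Fin m) F)) =
      b.insertNth (1 : Matrix (Fin m) (Fin m) F) (fun l => (a l : Matrix (Fin m) (Fin m) F)) := by
    funext l
    rcases Fin.eq_self_or_eq_succAbove b l with rfl | ⟨l, rfl⟩ <;> simp [hA]
  have : embHom b g = tensUnit A * permUnit m (extP b σ) := Units.ext (by
    rw [embHom_val, hv, emb_mul, emb_tens, emb_permMat, Units.val_mul, ← hA']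
    rfl)
  rw [this]
  exact tensUnit_mem A _

lemma mem_wreath_one [NeZero m] (hm : 2 ≤ m) (g : GL (Fin 1 → Fin m) F) : g ∈ tensorWreathStandard m 1 F :=
  mem_wreath_of_pres hm one_pos fun i => ⟨i, fun p r => inSlot_of_com fun l hl => absurd (Subsingleton.elim l i) hl⟩

variable [Finite F] (hF : Nat.card F = q ^ 2)
include hF

/-- An overgroup of the special isometries of the factors and the even permutations among the isometries. -/
structure UMain (q : ℕ) (M : Subgroup (GL (Fin t → Fin m) F)) : Prop extends UBase q M where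
  perm_mem : ∀ σ : Equiv.Perm (Fin t), Mem M (permMat m (σ * σ))

lemma emb_st (b : Fin (s + 1)) (X : Mt s m F) : st q (emb b X) = emb b (st q X) := Matrix.ext fun x y => by
  simp only [st, emb, Matrix.transpose_apply, Matrix.map_apply, Matrix.of_apply, eq_comm (a := y b)]
  split_ifs <;> simp [zero_pow (q_ne_zero hF)]

lemma comap_main [NeZero m] {M : Subgroup (GL (Fin (s + 1) → Fin m) F)} (hM : UMain q M) (b : Fin (s + 1)) :
    UMain q (M.comap (embHom b)) := by
  refine ⟨⟨fun g hg => emb_injective b ?_, fun i h hh => ?_⟩, fun σ => ?_⟩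
  · have := hM.iso _ hg
    rwa [embHom_val, emb_st hF, ← emb_mul, ← emb_one b] at this
  · refine ⟨slotU i h, ?_, slotU_val i h⟩
    obtain ⟨g, hg, hgv⟩ := hM.slot_mem (b.succAbove i) h hh
    rw [Subgroup.mem_comap, show embHom b (slotU i h) = g from Units.ext (by
      rw [embHom_val, slotU_val, hgv, slot, emb_tens, slot]
      congr 1
      funext l
      rcases Fin.eq_self_or_eq_succAbove b l with rfl | ⟨l, rfl⟩
      · simp [Function.update_of_ne (Fin.succAbove_ne _ i).symm]
      · rcases eq_or_ne l i with rfl | hli <;>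
          simp [*, Function.update_of_ne, (Fin.succAbove_right_injective (p := b)).ne_iff])]
    exact hg
  · refine ⟨permUnit m (σ * σ), ?_, rfl⟩
    obtain ⟨g, hg, hgv⟩ := hM.perm_mem (extP b σ)
    rw [Subgroup.mem_comap, show embHom b (permUnit m (σ * σ)) = g from Units.ext (by
      rw [embHom_val, hgv, ← extP_mul]
      exact emb_permMat b (σ * σ))]
    exact hg

/-- A property closed under linear combinations holding at all dyads at one vector holds everywhere. -/
lemma dyad_induction (p : Matrix (Fin m) (Fin m) F → Prop) (hadd : ∀ A B, p A → p B → p (A + B))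
    (hsmul : ∀ (c : F) A, p A → p (c • A)) (hdy : ∀ z : Fin m → F, p (vm q z z)) (Z : Matrix (Fin m) (Fin m) F) :
    p Z := by
  obtain ⟨ζ, hζ⟩ := TensorU.moved_exists hF
  have hxy : ∀ x y : Fin m → F, p (vm q x y) := fun x y => by
    have hne : ζ ^ q - ζ ≠ 0 := sub_ne_zero.2 hζ
    have hS : ∀ μ : F, p (μ ^ q • vm q x y + μ • vm q y x) := fun μ => by
      have := hadd _ _ (hdy (x + μ • y)) (hadd _ _ (hsmul (-1) _ (hdy x)) (hsmul (-(μ * μ ^ q)) _ (hdy y)))
      convert this using 1
      simp only [vm_add_left, vm_add_right hF, vm_smul_left, vm_smul_right]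
      module
    have h1 := hsmul (ζ ^ q - ζ)⁻¹ _ (hadd _ _ (hS ζ) (hsmul (-ζ) _ (hS 1)))
    convert h1 using 1
    rw [eq_inv_smul_iff₀ hne, one_pow]
    module
  have h0 : p 0 := by simpa using hsmul 0 _ (hdy 0)
  rw [Matrix.matrix_eq_sum_single Z]
  refine Finset.sum_induction _ p hadd h0 fun a _ => Finset.sum_induction _ p hadd h0 fun b _ => ?_
  rw [show Matrix.single a b (Z a b) = Z a b • vm q (Pi.single a 1) (Pi.single b 1) from Matrix.ext fun x y => by
    simp [vm_apply, Matrix.single_apply, Pi.single_apply, ite_and, zero_pow (q_ne_zero hF), eq_comm]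
    split_ifs <;> simp_all [zero_pow (q_ne_zero hF)]]
  exact hsmul _ _ (hxy _ _)

variable {M : Subgroup (GL (Fin t → Fin m) F)}

/-- Root elements trivial on the factor `b` with arbitrary parts on the factors outside `a` and `b`. -/
lemma mem_mixed (hm : 2 ≤ m) {a b : Fin t} (hab : a ≠ b) {u : Fin m → F} (hu : hd q u u = 0)
    (hb : ∀ v : Fin t → Fin m → F, (∃ l, l ≠ b ∧ hd q (v l) (v l) = 0) → ∀ c : F, c + c ^ q = 0 →
      Mem M (1 + c • tens (Function.update (fun l => vm q (v l) (v l)) b 1)))
    (Ω : Fin t → Matrix (Fin m) (Fin m) F) (ha : Ω a = vm q u u) (hΩ : Ω b = 1) (l : F) :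
    Mem M (1 + (l • tens Ω - l ^ q • st q (tens Ω))) := by
  classical
  have hz : ∀ (Ω Ω' : Fin t → Matrix (Fin m) (Fin m) F), Ω a * Ω' a = 0 → (tens Ω : Mt t m F) * tens Ω' = 0 := by
    intro Ω Ω' h
    rw [tens_mul]
    ext x y
    simp only [tens, Matrix.of_apply, Matrix.zero_apply]
    exact Finset.prod_eq_zero (Finset.mem_univ a) (by rw [h]; rfl)
  have hN : vm q u u * vm q u u = (0 : Matrix (Fin m) (Fin m) F) := by rw [vm_mul_vm, hu, zero_smul]
  suffices H : ∀ S : Finset (Fin t), a ∉ S → b ∉ S → ∀ Ω : Fin t → Matrix (Fin m) (Fin m) F, Ω a = vm q u u → Ω b = 1 →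
      (∀ k, k ∉ S → k ≠ a → k ≠ b → ∃ z, Ω k = vm q z z) →
      ∀ l : F, Mem M (1 + (l • tens Ω - l ^ q • st q (tens Ω))) from
    H ((Finset.univ.erase a).erase b) (by simp) (by simp) Ω ha hΩ
      (fun k hk h1 h2 => absurd (Finset.mem_erase.2 ⟨h2, Finset.mem_erase.2 ⟨h1, Finset.mem_univ k⟩⟩) hk) l
  intro S
  induction S using Finset.induction_on with
  | empty =>
    intro _ _ Ω ha hb' hdy l
    choose! z hz' using hdy
    set v : Fin t → Fin m → F := Function.update z a u
    have e : (tens Ω : Mt t m F) = tens (Function.update (fun l => vm q (v l) (v l)) b 1) := by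
      congr 1
      funext k
      rcases eq_or_ne k b with rfl | hkb
      · simp [hb']
      rcases eq_or_ne k a with rfl | hka
      · simp [v, hkb, ha]
      · simp [v, hkb, hka, hz' k (by simp) hka hkb]
    have hsym : st q (tens Ω : Mt t m F) = tens Ω := by
      rw [e, st_tens]
      congr 1
      funext k
      rcases eq_or_ne k b with rfl | hkb
      · simp [st_one hF]
      · simp [hkb, st_vm hF]
    rw [hsym, ← sub_smul, e]
    exact hb v ⟨a, hab, by simpa [v] using hu⟩ _ (by rw [TensorU.pow_sub hF, qq hF]; ring)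
  | insert k S hk ih =>
    intro haS hbS Ω ha hb' hdy
    have hka : k ≠ a := fun e => haS (e ▸ Finset.mem_insert_self k S)
    have hkb : k ≠ b := fun e => hbS (e ▸ Finset.mem_insert_self k S)
    suffices ∀ (Z : Matrix (Fin m) (Fin m) F) (l : F),
        Mem M (1 + (l • tens (Function.update Ω k Z) - l ^ q • st q (tens (Function.update Ω k Z)))) by
      simpa using this (Ω k)
    intro Z
    refine dyad_induction hF (fun Z => ∀ l : F,
      Mem M (1 + (l • tens (Function.update Ω k Z) - l ^ q • st q (tens (Function.update Ω k Z)))))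
      (fun A B hA hB l => ?_) (fun c A hA l => ?_) (fun z => ?_) Z
    · have hprod : ∀ A B : Matrix (Fin m) (Fin m) F,
          (l • tens (Function.update Ω k A) - l ^ q • st q (tens (Function.update Ω k A) : Mt t m F)) *
            (l • tens (Function.update Ω k B) - l ^ q • st q (tens (Function.update Ω k B) : Mt t m F)) = 0 := by
        intro A B
        simp only [st_tens, sub_mul, mul_sub, smul_mul_smul_comm]
        rw [hz, hz, hz, hz]
        · simp
        all_goals simp [Function.update_of_ne hka.symm, ha, st_vm hF, hN]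
      have := (hA l).mul (hB l)
      rw [add_mul, one_mul, mul_add (l • _ - _), mul_one, hprod, add_zero] at this
      convert this using 1
      rw [tens_update_add, st_add hF]
      module
    · have := hA (l * c)
      convert this using 1
      rw [tens_update_smul, st_smul hF, mul_pow]
      module
    · refine ih (fun h => haS (Finset.mem_insert_of_mem h)) (fun h => hbS (Finset.mem_insert_of_mem h)) _
        (by rw [Function.update_of_ne hka.symm, ha]) (by rw [Function.update_of_ne hkb.symm, hb'])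
        fun j hj h1 h2 => ?_
      rcases eq_or_ne j k with rfl | hjk
      · exact ⟨z, Function.update_self ..⟩
      · rw [Function.update_of_ne hjk]
        exact hdy j (by simp [hjk, hj]) h1 h2

/-- Full centres on the factors other than one give one with all factors isotropic. -/
lemma exists_all_iso (hm : 3 ≤ m) (hM : UMain q M) {a b c : Fin t} (hab : a ≠ b) (hac : a ≠ c) (hbc : b ≠ c)
    {u : Fin m → F} (hu : hd q u u = 0)
    (hb : ∀ v : Fin t → Fin m → F, (∃ l, l ≠ b ∧ hd q (v l) (v l) = 0) → ∀ c : F, c + c ^ q = 0 →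
      Mem M (1 + c • tens (Function.update (fun l => vm q (v l) (v l)) b 1))) :
    ∃ x : F, x ≠ 0 ∧ Mem M (1 + x • vm q (pv fun _ : Fin t => u) (pv fun _ : Fin t => u)) := by
  classical
  by_cases hu0 : u = 0
  · refine ⟨1, one_ne_zero, ?_⟩
    rw [pv_eq_zero (i := a) (v := fun _ : Fin t => u) hu0, vm_zero_left, smul_zero, add_zero]
    exact Mem.one
  -- a three-cycle moving `b` to `a`
  set σ : Equiv.Perm (Fin t) := Equiv.swap a c * Equiv.swap a b with hσ
  have hσb : σ b = c := by simp [hσ]
  have hσc : σ c = a := by simp [hσ, Equiv.swap_apply_of_ne_of_ne hac.symm hbc.symm]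
  set w := σ * σ with hw
  have hwb : w b = a := by rw [hw, Equiv.Perm.mul_apply, hσb, hσc]
  have ha : ∀ v : Fin t → Fin m → F, (∃ l, l ≠ a ∧ hd q (v l) (v l) = 0) → ∀ c : F, c + c ^ q = 0 →
      Mem M (1 + c • tens (Function.update (fun l => vm q (v l) (v l)) a 1)) := by
    rintro v ⟨l, hla, hl⟩ x hx
    obtain ⟨g, hg, hgv⟩ := hM.perm_mem σ
    have h1 := Mem.cj (hb (fun k => v (w k)) ⟨w.symm l, fun e => hla (by rw [← hwb, ← e, Equiv.apply_symm_apply]),
      by simpa using hl⟩ x hx) hg
    rw [cj_smul, cj, hgv, show ((g⁻¹ : GL (Fin t → Fin m) F) : Mt t m F) = permMat m w.symm from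
      Units.inv_eq_of_mul_eq_one_right (by rw [hgv, hw]; exact permMat_mul_inv _), permMat_mul_tens, mul_assoc,
      permMat_mul_inv, mul_one] at h1
    convert h1 using 4
    congr 1
    funext k
    rw [← hw]
    rcases eq_or_ne k a with rfl | hk
    · rw [Function.update_self, show w.symm k = b from w.symm_apply_eq.2 hwb.symm, Function.update_self]
    · rw [Function.update_of_ne hk, Function.update_of_ne (fun e => hk (by rw [← hwb, ← e, Equiv.apply_symm_apply]))]
      simp
  obtain ⟨u', huu', hu'u, hu'⟩ := exists_hyp' hF hu0 hu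
  obtain ⟨e, he, hue, -⟩ := exists_unit_perp hF hm hu huu' hu'
  set N : Matrix (Fin m) (Fin m) F := vm q u u with hN
  have hNN : N * N = 0 := by rw [hN, vm_mul_vm, hu, zero_smul]
  set Ωa : Fin t → Matrix (Fin m) (Fin m) F := fun k => if k = a then N else if k = b then 1 else vm q u e with hΩa
  set Ωb : Fin t → Matrix (Fin m) (Fin m) F := fun k => if k = b then N else if k = a then 1 else vm q u e with hΩb
  set Xa : Mt t m F := tens Ωa
  set Xb : Mt t m F := tens Ωb
  set W : Mt t m F := tens fun _ => N with hW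
  have hzero : ∀ (A B : Fin t → Matrix (Fin m) (Fin m) F) k, A k * B k = 0 → (tens A : Mt t m F) * tens B = 0 := by
    intro A B k h
    rw [tens_mul]
    ext x y
    simp only [tens, Matrix.of_apply, Matrix.zero_apply]
    exact Finset.prod_eq_zero (Finset.mem_univ k) (by rw [h]; rfl)
  have hKa := fun l => mem_mixed hF (M := M) (by omega) hab hu hb Ωa (by simp [hΩa, hN]) (by simp [hΩa, hab.symm]) l
  have hKb := fun l => mem_mixed hF (M := M) (by omega) hab.symm hu ha Ωb (by simp [hΩb, hN]) (by simp [hΩb, hab]) l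
  have hsN : st q N = N := st_vm hF u u
  have hue' : hd q e u = 0 := hd_swap0 hF hue
  have p1 : Xa * st q Xb = W ∧ Xb * st q Xa = W := by
    simp only [Xa, Xb, hW, st_tens, tens_mul]
    constructor <;>
    · congr 1
      funext k
      rcases eq_or_ne k a with rfl | hka
      · simp [hΩa, hΩb, hab, hsN, st_one hF]
      rcases eq_or_ne k b with rfl | hkb
      · simp [hΩa, hΩb, hab.symm, hsN, st_one hF]
      · simp [hΩa, hΩb, hka, hkb, st_vm hF, vm_mul_vm, he, hN]
  have p2 : Xa * Xb = 0 ∧ Xb * Xa = 0 := by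
    constructor <;> refine hzero _ _ c ?_ <;> simp [hΩa, hΩb, hac.symm, hbc.symm, vm_mul_vm, hue]
  have p3 : st q Xa * Xb = 0 ∧ st q Xb * Xa = 0 := by
    constructor <;> rw [st_tens] <;> refine hzero _ _ c ?_ <;>
      simp [hΩa, hΩb, hac.symm, hbc.symm, st_vm hF, vm_mul_vm, hu]
  have p4 : st q Xa * st q Xb = 0 ∧ st q Xb * st q Xa = 0 := by
    constructor <;> rw [st_tens, st_tens] <;> refine hzero _ _ c ?_ <;>
      simp [hΩa, hΩb, hac.symm, hbc.symm, st_vm hF, vm_mul_vm, hue']
  obtain ⟨ζ, hζ⟩ := TensorU.moved_exists hF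
  set A := (1 : F) • Xa - (1 : F) ^ q • st q Xa with hA
  set B := ζ • Xb - ζ ^ q • st q Xb with hB
  have hAA : A * A = 0 := by
    simp only [hA, Xa, st_tens, sub_mul, mul_sub, smul_mul_smul_comm]
    rw [hzero _ _ a, hzero _ _ a, hzero _ _ a, hzero _ _ a] <;> simp [hΩa, hsN, hNN]
  have hBB : B * B = 0 := by
    simp only [hB, Xb, st_tens, sub_mul, mul_sub, smul_mul_smul_comm]
    rw [hzero _ _ b, hzero _ _ b, hzero _ _ b, hzero _ _ b] <;> simp [hΩb, hsN, hNN]
  have hAB : A * B = -(ζ ^ q) • W := by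
    simp only [hA, hB, one_pow, one_smul, sub_mul, mul_sub, smul_mul_assoc, mul_smul_comm, p1.1, p2.1, p3.1, p4.1,
      smul_zero, sub_zero, zero_sub, neg_smul]
  have hBA : B * A = -ζ • W := by
    simp only [hA, hB, one_pow, one_smul, sub_mul, mul_sub, smul_mul_assoc, p1.2, p2.2, p3.2, p4.2,
      smul_zero, sub_zero, zero_sub, neg_smul]
  have hWA : W * A = 0 := by
    simp only [hA, hW, Xa, st_tens, mul_sub, mul_smul_comm]
    rw [hzero _ _ a, hzero _ _ a] <;> simp [hΩa, hsN, hNN]
  have hWB : W * B = 0 := by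
    simp only [hB, hW, Xb, st_tens, mul_sub, mul_smul_comm]
    rw [hzero _ _ b, hzero _ _ b] <;> simp [hΩb, hsN, hNN]
  refine ⟨ζ - ζ ^ q, sub_ne_zero.2 (Ne.symm hζ), ?_⟩
  obtain ⟨gA, hgA, hgAv⟩ := hKa 1
  obtain ⟨gB, hgB, hgBv⟩ := hKb ζ
  refine ⟨gA * gB * (gB * gA)⁻¹, M.mul_mem (M.mul_mem hgA hgB) (M.inv_mem (M.mul_mem hgB hgA)), ?_⟩
  rw [show vm q (pv fun _ : Fin t => u) (pv fun _ : Fin t => u) = W by rw [hW, ← tens_vm]]
  have key : ((gA * gB : GL (Fin t → Fin m) F) : Mt t m F) =
      (1 + (ζ - ζ ^ q) • W) * ((gB * gA : GL (Fin t → Fin m) F) : Mt t m F) := by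
    rw [Units.val_mul, Units.val_mul, hgAv, hgBv]
    change (1 + A) * (1 + B) = (1 + (ζ - ζ ^ q) • W) * ((1 + B) * (1 + A))
    simp only [mul_add, add_mul, one_mul, mul_one, smul_mul_assoc, mul_assoc]
    simp only [← mul_assoc W B, hWB, hWA, hAB, hBA, zero_mul, mul_smul_comm, smul_zero, add_zero]
    have hWW : W * W = 0 := by rw [hW]; exact hzero _ _ a hNN
    simp only [hWW, smul_zero, add_zero]
    module
  rw [Units.val_mul, key, mul_assoc, Units.mul_inv, mul_one]

/-- The wreath group or all transvections with pure centres having an isotropic factor. -/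
theorem le_wreath_or_full (hm : 3 ≤ m) (hex : ¬ (q = 2 ∧ m = 3)) :
    ∀ t, 0 < t → ∀ M : Subgroup (GL (Fin t → Fin m) F), UMain q M →
      M ≤ tensorWreathStandard m t F ∨
        (2 ≤ t ∧ ∀ v : Fin t → Fin m → F, (∃ l, hd q (v l) (v l) = 0) → FullAt q M (pv v)) := by
  classical
  haveI : NeZero m := ⟨by omega⟩
  intro t
  induction t using Nat.strong_induction_on with
  | _ t ih =>
    intro ht M hM
    by_cases h1 : t = 1
    · subst h1; exact Or.inl fun g _ => mem_wreath_one (by omega) g
    by_cases hfull : ∀ v : Fin t → Fin m → F, (∃ l, hd q (v l) (v l) = 0) → FullAt q M (pv v)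
    · exact Or.inr ⟨by omega, hfull⟩
    refine Or.inl (le_wreath hF ⟨hM.toUBase, hfull, fun g hg b hcom => ?_⟩ hm hex ht)
    obtain ⟨s, rfl⟩ : ∃ s, t = s + 1 := ⟨t - 1, by omega⟩
    obtain ⟨g', rfl⟩ := exists_embHom hcom
    refine embHom_mem_wreath b ?_
    rcases ih s (by omega) (by omega) _ (comap_main hF hM b) with h | ⟨hs, hsub⟩
    · exact h hg
    exfalso
    obtain ⟨u, hu0, hu⟩ := TensorU.exists_iso hF (m := m) (by omega)
    have hb : ∀ v : Fin (s + 1) → Fin m → F, (∃ l, l ≠ b ∧ hd q (v l) (v l) = 0) → ∀ c : F, c + c ^ q = 0 →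
        Mem M (1 + c • tens (Function.update (fun l => vm q (v l) (v l)) b 1)) := by
      rintro v ⟨l, hlb, hl⟩ x hx
      obtain ⟨l', rfl⟩ := Fin.exists_succAbove_eq hlb
      obtain ⟨g, hg, hgv⟩ := (hsub (fun k => v (b.succAbove k)) ⟨l', hl⟩).2 x hx
      refine ⟨embHom b g, hg, ?_⟩
      rw [embHom_val, hgv, emb_add, emb_one, emb_smul, ← tens_vm, emb_tens]
      congr 3
      funext k
      rcases Fin.eq_self_or_eq_succAbove b k with rfl | ⟨k, rfl⟩ <;> simp [Fin.succAbove_ne]
    obtain ⟨a, ha, c, hc, hac⟩ := Finset.one_lt_card.1 (show 1 < ((Finset.univ : Finset (Fin (s + 1))).erase b).card by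
      rw [Finset.card_erase_of_mem (Finset.mem_univ b), Finset.card_univ, Fintype.card_fin]; omega)
    obtain ⟨x, hx0, hx⟩ := exists_all_iso hF hm hM (Finset.ne_of_mem_erase ha) hac (Finset.ne_of_mem_erase hc).symm hu hb
    exact hfull (fullAt_all hF hM.toUBase hm hex hu0 hu (fullAt_of_one hF hM.toUBase hm (by omega) hu0 hu hx0 hx))

end CfsgLib.Geo.TensorPow.U
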