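/-
Full centres at pure tensors with an isotropic factor give the special unitary group.
-/
import Cfsg.Agent.Geo.TensorPow.U.Vec
import Cfsg.Agent.Geo.UnitEichler

set_option autoImplicit false
set_option linter.unusedSectionVars false

namespace CfsgLib.Geo.TensorPow.U

open Matrix Cfsg Cfsg.Geo CfsgLib.Geo CfsgLib.Aschbacher CfsgLib.Geo.UTv
open scoped MatrixGroups

variable {F : Type*} [Field F] {q t m n : ℕ}

lemma hd_reindex (e : Fin n ≃ (Fin t → Fin m)) (x y : (Fin t → Fin m) → F) :
    Cfsg.hermForm n F q (x ∘ e) (y ∘ e) = hd q x y :=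
  Equiv.sum_comp e (fun a => x a * y a ^ q)

lemma pv_single (z : Fin t → Fin m) :
    pv (fun l => (Pi.single (z l) 1 : Fin m → F)) = Pi.single z 1 := by
  funext x
  by_cases h : x = z
  · subst h; simp [pv]
  · rw [Pi.single_eq_of_ne h]
    obtain ⟨l, hl⟩ := Function.ne_iff.1 h
    exact Finset.prod_eq_zero (Finset.mem_univ l) (Pi.single_eq_of_ne hl _)

variable [Finite F] (hF : Nat.card F = q ^ 2)
include hF

/-- A subspace with all isotropic vectors not orthogonal to a given isotropic vector is everything. -/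
lemma eq_top_of_iso {u v0 : Fin m → F} (hu : hd q u u = 0) (huv : hd q u v0 = 1) (hvu : hd q v0 u = 1)
    (hv : hd q v0 v0 = 0) (W : Submodule F (Fin m → F))
    (h : ∀ z, hd q z z = 0 → hd q z u ≠ 0 → z ∈ W) : W = ⊤ := by
  obtain ⟨k, hk0, hk⟩ := TensorU.skew_exists hF
  have hv0 : v0 ∈ W := h v0 hv (by rw [hvu]; exact one_ne_zero)
  have huW : u ∈ W := by
    have h1 : v0 + k • u ∈ W := h _ (by
      rw [hd_add_left, hd_add_right hF, hd_add_right hF, hd_smul_left, hd_smul_left, hd_smul_right, hd_smul_right,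
        hu, hv, huv, hvu]
      linear_combination hk) (by rw [hd_add_left, hd_smul_left, hu, hvu, mul_zero, add_zero]; exact one_ne_zero)
    have h2 := W.smul_mem k⁻¹ (W.sub_mem h1 hv0)
    rwa [add_sub_cancel_left, smul_smul, inv_mul_cancel₀ hk0, one_smul] at h2
  obtain ⟨τ, hτ⟩ := Unit.exists_trace_one (isUnitaryForm hF (n := 1)).ne_refl (isUnitaryForm hF (n := 1)).involutive
  rw [frobEquiv_apply hF] at hτ
  refine eq_top_iff.2 fun x _ => ?_
  set y := x - hd q x v0 • u - hd q x u • v0 with hy
  have hyu : hd q y u = 0 := by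
    rw [hy, sub_eq_add_neg, sub_eq_add_neg, ← neg_smul, ← neg_smul, hd_add_left, hd_add_left, hd_smul_left,
      hd_smul_left, hu, hvu]
    ring
  have hyv : hd q y v0 = 0 := by
    rw [hy, sub_eq_add_neg, sub_eq_add_neg, ← neg_smul, ← neg_smul, hd_add_left, hd_add_left, hd_smul_left,
      hd_smul_left, hv, huv]
    ring
  have hN : hd q y y ^ q = hd q y y := (hd_swap hF y y).symm
  set b := -(hd q y y * τ) with hb
  have h3 : y + v0 + b • u ∈ W := h _ (by
    simp only [hd_add_left, hd_add_right hF, hd_smul_left, hd_smul_right, hu, hv, huv, hvu, hyu, hyv,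
      hd_swap0 hF hyu, hd_swap0 hF hyv, hb, TensorU.pow_neg hF, mul_pow, hN]
    linear_combination -(hd q y y) * hτ) (by
    rw [hd_add_left, hd_add_left, hd_smul_left, hu, hvu, hyu, mul_zero, add_zero, zero_add]; exact one_ne_zero)
  have h4 := W.sub_mem (W.sub_mem h3 (W.smul_mem b huW)) hv0
  rw [add_sub_cancel_right, add_sub_cancel_right] at h4
  have h5 := W.add_mem (W.add_mem h4 (W.smul_mem (hd q x v0) huW)) (W.smul_mem (hd q x u) hv0)
  convert h5 using 1
  rw [hy]; abel

variable {M : Subgroup (GL (Fin n) F)}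

/-- The special unitary group from full centres at all pure tensors with an isotropic factor. -/
theorem suGL_le_of_fullPure (hm : 3 ≤ m) (ht : 2 ≤ t) (hn : 4 ≤ n) (e : Fin n ≃ (Fin t → Fin m))
    (hMI : M ≤ suGL n F q)
    (hfull : ∀ v : Fin t → Fin m → F, (∃ l, hd q (v l) (v l) = 0) → Full q M (pv v ∘ e)) :
    suGL n F q ≤ M := by
  classical
  have hf := isUnitaryForm hF (n := n)
  obtain ⟨u, hu0, hu⟩ : ∃ u : Fin m → F, u ≠ 0 ∧ hd q u u = 0 := TensorU.exists_iso hF (by omega)
  obtain ⟨v0, huv, hvu, hv⟩ := exists_hyp' hF hu0 hu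
  obtain ⟨c, hc0, hc⟩ := TensorU.skew_exists hF
  haveI : NeZero t := ⟨by omega⟩
  have hother : ∀ i : Fin t, ∃ j, j ≠ i := fun i => by
    haveI : Nontrivial (Fin t) := Fin.nontrivial_iff_two_le.2 ht
    exact exists_ne i
  set U : Fin t → Fin m → F := fun _ => u with hU
  set V : Fin n → F := pv U ∘ e with hV
  have hVF : Full q M V := hfull U ⟨0, hu⟩
  let T : ((Fin t → Fin m) → F) →ₗ[F] (Fin n → F) := LinearMap.funLeft F F e
  have hT : ∀ x, T x = x ∘ e := fun _ => rfl
  let S : Submodule F ((Fin t → Fin m) → F) :=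
    { carrier := {x | ∀ l : F, VP q M V (l • T x)}
      add_mem' := fun {x y} hx hy l => by rw [map_add, smul_add]; exact (hx l).add hF hVF.1 (hy l)
      zero_mem' := fun l => by
        rw [map_zero, smul_zero]; simpa using VP.centre hF (M := M) hVF.1 (0 : F)
      smul_mem' := fun a x hx l => by rw [map_smul, smul_smul]; exact hx _ }
  have hSperp : ∀ x ∈ S, hd q x (pv U) = 0 := fun x hx => by
    have := (hx 1).1
    rwa [one_smul, hT, hV, hd_reindex] at this
  -- elements with one factor moved off the centre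
  have hbase : ∀ (i : Fin t) (y : Fin m → F), pvL U i y ∈ S := by
    intro i y l
    obtain ⟨j, hji⟩ := hother i
    set μ := l / c with hμ
    set x0 := pvL U i y with hx0
    have hz : ∀ y', hd q (pvL U i y') (pvL U i y') = 0 := fun y' => by
      rw [pvL_apply]
      exact hd_pv_eq_zero (i := j) (by rw [Function.update_of_ne hji]; exact hu)
    have hfl : ∀ y', Full q M (pvL U i y' ∘ e) := fun y' => by
      rw [pvL_apply]; exact hfull _ ⟨j, by rw [Function.update_of_ne hji]; exact hu⟩
    have hxv : hd q x0 (pv U) = 0 := by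
      rw [hx0, pvL_apply]
      exact hd_pv_eq_zero (i := j) (by rw [Function.update_of_ne hji]; exact hu)
    set X : Fin n → F := T x0 with hX
    have hXX : Cfsg.hermForm n F q X X = 0 := by rw [hX, hT, hd_reindex, hz]
    have hXV : Cfsg.hermForm n F q X V = 0 := by rw [hX, hT, hV, hd_reindex, hxv]
    have hVX : Cfsg.hermForm n F q V X = 0 := by rw [hf.herm, hXV, map_zero]
    have hsum : pvL U i (u + μ • y) ∘ e = V + μ • X := by
      rw [map_add, map_smul, show pvL U i u = pv U from pvL_self U i]; rfl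
    have hc1 : (-c) + (-c) ^ q = 0 := by rw [TensorU.pow_neg hF]; linear_combination -hc
    have hn' : (μ * μ ^ q) ^ q = μ * μ ^ q := by rw [mul_pow, qq hF, mul_comm]
    have hc2 : (-c * (μ * μ ^ q)) + (-c * (μ * μ ^ q)) ^ q = 0 := by
      rw [mul_pow, hn']; linear_combination (μ * μ ^ q) * hc1
    obtain ⟨d1, m1⟩ := (hfl (u + μ • y)).2 c hc
    obtain ⟨d2, m2⟩ := hVF.2 (-c) hc1
    obtain ⟨d3, m3⟩ := (hfl y).2 _ hc2
    refine ⟨by rw [hf.smul_left, hXV, mul_zero], _, M.mul_mem (M.mul_mem m1 m2) m3, 0, fun z => ?_⟩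
    have hl : μ * c = l := div_mul_cancel₀ l hc0
    simp only [mul_mulVec, tvec_mulVec, smul_dotProduct, axisOf_dot, smul_eq_mul, hsum]
    rw [show pvL U i y ∘ e = X from rfl]
    simp only [hf.add_left, Unit.add_right hf, hf.smul_left, Unit.smul_right hf, hXX, hXV, hVX, hVF.1,
      frobEquiv_apply hF, mul_zero, add_zero, zero_add]
    clear_value μ
    rw [← hl, mul_pow]
    match_scalars
    all_goals first | linear_combination (μ ^ q * Cfsg.hermForm n F q z X) * hc | ring
  have hmove : ∀ (x : (Fin t → Fin m) → F) (a : Fin t → Fin m → F), x ∈ S → (∃ l, hd q (a l) (a l) = 0) →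
      hd q (pv a) (pv U) = 0 → hd q x (pv a) ≠ 0 → pv a ∈ S := by
    intro x a hx ha hperp hne l
    have haF := hfull a ha
    obtain ⟨d1, m1⟩ := haF.2 c hc
    have hg := mulVec_inv_mulVec (F := F) (ι := Fin n)
    set w : Fin n → F := T (pv a) with hw
    have hwV : Cfsg.hermForm n F q w V = 0 := by rw [hw, hT, hV, hd_reindex, hperp]
    have hVw : Cfsg.hermForm n F q V w = 0 := by rw [hf.herm, hwV, map_zero]
    set d := c * hd q x (pv a) with hd'
    have hd0 : d ≠ 0 := mul_ne_zero hc0 hne
    have h1 := (hx (l / d)).conj hMI m1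
    rw [utv_mulVec hF haF.1, utv_mulVec hF haF.1, show pv a ∘ e = w from rfl, hVw, mul_zero, zero_smul, add_zero,
      hf.smul_left] at h1
    have h2 := h1.sub hF hVF.1 (hx (l / d))
    rw [add_sub_cancel_left, hw, hT, hT, hd_reindex] at h2
    rwa [show l • T (pv a) = (c * (l / d * hd q x (pv a))) • T (pv a) by rw [hd']; congr 1; field_simp]
  -- pure tensors with a factor orthogonal to the centre
  have hgen : ∀ (k : Fin t) (s : Finset (Fin t)), k ∉ s → ∀ a : Fin t → Fin m → F, hd q (a k) u = 0 →
      (∀ l, l ≠ k → l ∉ s → hd q (a l) (a l) = 0 ∧ hd q (a l) u ≠ 0) → pv a ∈ S := by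
    intro k s
    induction s using Finset.induction_on with
    | empty =>
      intro _ a hak hrest
      obtain ⟨j, hjk⟩ := hother k
      have hwj : ∀ y, hd q (pvL a k y) (pvL a k y) = 0 := fun y => by
        rw [pvL_apply]
        exact hd_pv_eq_zero (i := j) (by rw [Function.update_of_ne hjk]; exact (hrest j hjk (by simp)).1)
      suffices H : ∀ y, hd q y u = 0 → y ∉ F ∙ u → pvL a k y ∈ S by
        rw [← pvL_self a k]
        by_cases hyu : a k ∈ F ∙ u
        · obtain ⟨y, hy, hy'⟩ : ∃ y, hd q y u = 0 ∧ y ∉ F ∙ u := by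
            obtain ⟨e', he', hue, -⟩ := exists_unit_perp hF hm hu huv hv
            exact ⟨e', hd_swap0 hF hue, fun hmem => by
              obtain ⟨r, rfl⟩ := Submodule.mem_span_singleton.1 hmem
              rw [hd_smul_left, hd_smul_right, hu, mul_zero, mul_zero] at he'
              exact zero_ne_one he'⟩
          rw [← add_sub_cancel_right (a k) y, map_sub]
          refine S.sub_mem (H _ (by rw [hd_add_left, hak, hy, add_zero]) fun h => hy' ?_) (H y hy hy')
          simpa using (F ∙ u).sub_mem h hyu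
        · exact H _ hak hyu
      intro y hyu hy
      obtain ⟨p, hpu, hpy⟩ : ∃ p, hd q p u = 0 ∧ hd q p y ≠ 0 := by
        obtain ⟨p, hup, hyp⟩ := Unit.exists_f_eq (isUnitaryForm hF (n := m)) hy
        exact ⟨p, hd_swap0 hF hup, fun h => one_ne_zero (hyp.symm.trans (hd_swap0 hF h))⟩
      rw [pvL_apply]
      refine hmove (pvL U k p) _ (hbase k p) ⟨j, by rw [Function.update_of_ne hjk]; exact (hrest j hjk (by simp)).1⟩ ?_ ?_
      · exact hd_pv_eq_zero (i := k) (by simp [hU, hyu])
      · rw [← pvL_apply, hd_pvL]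
        refine mul_ne_zero hpy (Finset.prod_ne_zero_iff.2 fun l hl h => ?_)
        exact (hrest l (Finset.ne_of_mem_erase hl) (by simp)).2 (hd_swap0 hF h)
    | insert r s hr ih =>
      intro hks a hak hrest
      have hkr : k ≠ r := fun h => hks (h ▸ Finset.mem_insert_self r s)
      have := eq_top_of_iso hF hu huv hvu hv (S.comap (pvL a r)) fun z hz hzu => by
        rw [Submodule.mem_comap, pvL_apply]
        refine ih (fun h => hks (Finset.mem_insert_of_mem h)) _ (by rwa [Function.update_of_ne hkr])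
          fun l hlk hls => ?_
        rcases eq_or_ne l r with rfl | hlr
        · rw [Function.update_self]; exact ⟨hz, hzu⟩
        · rw [Function.update_of_ne hlr]; exact hrest l hlk (by simp [hlr, hls])
      have h1 : a r ∈ S.comap (pvL a r) := this ▸ Submodule.mem_top
      rwa [Submodule.mem_comap, pvL_self] at h1
  set W : Submodule F ((Fin t → Fin m) → F) := S ⊔ (F ∙ pv fun _ : Fin t => v0) with hW
  have hpure : ∀ (s : Finset (Fin t)) (a : Fin t → Fin m → F), (∀ l, l ∉ s → a l = v0) → pv a ∈ W := by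
    intro s
    induction s using Finset.induction_on with
    | empty =>
      intro a ha
      rw [show a = fun _ => v0 from funext fun l => ha l (by simp)]
      exact Submodule.mem_sup_right (Submodule.mem_span_singleton_self _)
    | insert r s hr ih =>
      intro a ha
      rw [← pvL_self a r, ← sub_add_cancel (a r) (hd q (a r) u • v0), map_add, map_smul]
      refine W.add_mem (Submodule.mem_sup_left ?_) (W.smul_mem _ ?_)
      · rw [pvL_apply]
        refine hgen r (Finset.univ.erase r) (by simp) _ ?_ fun l hl hl' => absurd (by simp [hl]) hl'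
        rw [Function.update_self, sub_eq_add_neg, ← neg_smul, hd_add_left, hd_smul_left, hvu]; ring
      · rw [pvL_apply]
        refine ih _ fun l hl => ?_
        rcases eq_or_ne l r with rfl | hlr
        · rw [Function.update_self]
        · rw [Function.update_of_ne hlr]; exact ha l (by simp [hlr, hl])
  have hWtop : W = ⊤ := by
    rw [eq_top_iff, ← (Pi.basisFun F (Fin t → Fin m)).span_eq, Submodule.span_le]
    rintro _ ⟨z, rfl⟩
    rw [Pi.basisFun_apply, SetLike.mem_coe, ← pv_single]
    exact hpure Finset.univ _ fun l hl => absurd (Finset.mem_univ l) hl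
  have hVP : ∀ x, Cfsg.hermForm n F q x V = 0 → VP q M V x := by
    intro x hx
    obtain ⟨x, rfl⟩ : ∃ y, T y = x := ⟨x ∘ e.symm, by rw [hT]; funext i; simp⟩
    have hmem : x ∈ W := hWtop ▸ Submodule.mem_top
    obtain ⟨s, hs, w, hw, rfl⟩ := Submodule.mem_sup.1 hmem
    obtain ⟨r, rfl⟩ := Submodule.mem_span_singleton.1 hw
    rw [hT, hV, hd_reindex, hd_add_left, hSperp s hs, zero_add, hd_smul_left, hd_pv] at hx
    obtain rfl : r = 0 := by simpa [hU, hvu] using hx
    rw [zero_smul, add_zero]
    simpa using hs 1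
  refine suGL_le_of_vp hF hn hMI hVF (hfull (fun _ => v0) ⟨0, hv⟩) ?_ hVP
  rw [hV, hd_reindex, hd_pv]
  simp [hU, hvu]

end CfsgLib.Geo.TensorPow.U
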