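/-
The stabiliser of a tensor power of a unitary space is maximal in the special unitary group.
-/
import Cfsg.Agent.Geo.TensorPow.U.Rec
import Cfsg.Agent.Geo.TensorPow.U.Span
import Cfsg.Agent.Geo.SubfieldOvergroup
import Cfsg.Agent.Geo.TensorUnitRes
import Cfsg.Agent.Elusive.UnitSimil
import Cfsg.Agent.Aschbacher.Form.Members

set_option autoImplicit false
set_option linter.unusedSectionVars false

namespace CfsgLib.Geo.TensorPow.U

open Matrix Cfsg Cfsg.Geo CfsgLib.Geo CfsgLib.Aschbacher CfsgLib.Geo.UTv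
open scoped MatrixGroups

variable {F : Type*} [Field F] {q t m n : ℕ}

lemma reindex_val (e : Fin n ≃ (Fin t → Fin m)) (g : GL (Fin t → Fin m) F) :
    ((glReindex e.symm g : GL (Fin n) F) : Matrix (Fin n) (Fin n) F) = (g : Mt t m F).submatrix e e := rfl

lemma reindex_mulVec (e : Fin n ≃ (Fin t → Fin m)) (g : GL (Fin t → Fin m) F) (x : (Fin t → Fin m) → F) :
    ((glReindex e.symm g : GL (Fin n) F) : Matrix (Fin n) (Fin n) F) *ᵥ (x ∘ e) = ((g : Mt t m F) *ᵥ x) ∘ e := by
  rw [reindex_val, Matrix.submatrix_mulVec_equiv]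
  congr 1
  rw [Function.comp_assoc, Equiv.self_comp_symm, Function.comp_id]

lemma reindex_mem_specialLinear (e : Fin n ≃ (Fin t → Fin m)) {g : GL (Fin t → Fin m) F}
    (hg : g ∈ specialLinear (Fin t → Fin m) F) : glReindex e.symm g ∈ specialLinear (Fin n) F := by
  rw [mem_specialLinear] at hg ⊢
  rw [reindex_val, Matrix.det_submatrix_equiv_self]
  exact hg

lemma tens_map (a : Fin t → Matrix (Fin m) (Fin m) F) :
    (tens a : Mt t m F).map (· ^ q) = tens fun i => (a i).map (· ^ q) := Matrix.ext fun x y => by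
  simp [tens, Finset.prod_pow]

variable [Finite F] (hF : Nat.card F = q ^ 2)
include hF

lemma reindex_mem_GU (e : Fin n ≃ (Fin t → Fin m)) {g : GL (Fin t → Fin m) F} :
    glReindex e.symm g ∈ Cfsg.GU n F q ↔ st q (g : Mt t m F) * (g : Mt t m F) = 1 := by
  rw [isU_iff hF, UTv.mem_GU]
  constructor
  · intro h x y
    have := h (x ∘ e) (y ∘ e)
    rwa [reindex_mulVec, reindex_mulVec, hd_reindex, hd_reindex] at this
  · intro h u v
    obtain ⟨x, rfl⟩ : ∃ x, x ∘ e = u := ⟨u ∘ e.symm, funext fun i => by simp⟩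
    obtain ⟨y, rfl⟩ : ∃ y, y ∘ e = v := ⟨v ∘ e.symm, funext fun i => by simp⟩
    rw [reindex_mulVec, reindex_mulVec, hd_reindex, hd_reindex]
    exact h x y

/-- The stabiliser in standard coordinates is maximal. -/
theorem std_maximal (hm : 3 ≤ m) (ht : 2 ≤ t) (hex : ¬ (q = 2 ∧ m = 3)) (e : Fin n ≃ (Fin t → Fin m)) :
    IsMaximalIn (suGL n F q)
      ((tensorWreathStandard m t F).map (glReindex e.symm).toMonoidHom ⊓ suGL n F q) := by
  classical
  letI := Fintype.ofFinite F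
  have hn : n = m ^ t := by simpa using Fintype.card_congr e
  have hn4 : 4 ≤ n := by
    rw [hn]
    calc 4 ≤ m ^ 2 := by nlinarith
      _ ≤ m ^ t := Nat.pow_le_pow_right (by omega) ht
  set ψ := glReindex (F := F) e.symm with hψ
  refine ⟨lt_of_le_of_ne inf_le_right fun h => ?_, fun M hM hMI => ?_⟩
  · obtain ⟨v, hv0, hv⟩ := TensorU.exists_iso hF (m := n) (by omega)
    obtain ⟨w, -, hwv, -⟩ := TensorU.exists_hyp hF hv0 hv
    obtain ⟨c, hc0, hc⟩ := TensorU.skew_exists hF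
    have hax : uax q v c ≠ 0 := fun h0 => hc0 (by
      have := congrArg (fun φ => φ ⬝ᵥ w) h0
      simp only [smul_dotProduct, axisOf_dot, hwv, smul_eq_mul, mul_one, zero_dotProduct] at this
      exact this)
    refine tvec_notMem_wreath (by omega) ht (Or.inl hm) e 1 (uax_dot_self hv c) hv0 hax ?_
    have hmem := utv_mem hF hv hc
    have hmem' : tvec v (uax q v c) (uax_dot_self hv c) ∈ (tensorWreathStandard m t F).map ψ.toMonoidHom :=
      (h.symm ▸ hmem : _ ∈ (tensorWreathStandard m t F).map ψ.toMonoidHom ⊓ suGL n F q).1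
    exact ⟨_, hmem', by simp⟩
  set M' := M.comap ψ.toMonoidHom with hM'
  have hin : ∀ g, g ∈ tensorWreathStandard m t F → st q (g : Mt t m F) * (g : Mt t m F) = 1 →
      g ∈ specialLinear (Fin t → Fin m) F → g ∈ M' := fun g h1 h2 h3 =>
    hM ⟨Subgroup.mem_map_of_mem ψ.toMonoidHom h1, (reindex_mem_GU hF e).2 h2, reindex_mem_specialLinear e h3⟩
  have hmain : UMain q M' := by
    refine ⟨⟨fun g hg => (reindex_mem_GU hF e).1 (hMI hg).1, fun i h hh => ?_⟩, fun σ => ?_⟩
    · refine ⟨slotU i h, hin _ (slotU_mem_wreath i h) ?_ (det_slotU hm i hh.2), slotU_val i h⟩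
      rw [slotU_val, st_slot hF, slot_mul, ((mem_su hF).1 hh).1, slot_one]
    · refine ⟨permUnit m (σ * σ), hin _ (Subgroup.subset_closure (Or.inr ⟨σ * σ, fun _ _ => rfl⟩)) ?_
        (det_permUnit_sq σ), rfl⟩
      show st q (permMat m (σ * σ) : Mt t m F) * permMat m (σ * σ) = 1
      have hmap : (permMat m (σ * σ) : Mt t m F).map (· ^ q) = permMat m (σ * σ) := Matrix.ext fun x y => by
        simp only [Matrix.map_apply, permMat, Matrix.of_apply]
        split_ifs <;> simp [q_ne_zero hF]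
      rw [st, hmap, permMat_transpose]
      simpa using permMat_mul_inv (m := m) (F := F) (σ * σ).symm
  rcases le_wreath_or_full hF hm hex t (by omega) M' hmain with h | ⟨-, h⟩
  · refine Or.inl (le_antisymm (fun g hg => ⟨?_, hMI hg⟩) hM)
    obtain ⟨g, rfl⟩ := ψ.surjective g
    exact Subgroup.mem_map_of_mem ψ.toMonoidHom (h hg)
  · refine Or.inr (le_antisymm hMI (suGL_le_of_fullPure hF hm ht hn4 e hMI fun v hv => ?_))
    obtain ⟨h0, hfull⟩ := h v hv
    refine full_of_mem hF ((hd_reindex e _ _).trans h0) fun c hc => ?_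
    obtain ⟨g, hg, hgv⟩ := hfull c hc
    have he : tvec (pv v ∘ e) (uax q (pv v ∘ e) c) (uax_dot_self ((hd_reindex e _ _).trans h0) c) = ψ g :=
      gl_ext_mulVec fun y => by
        obtain ⟨x, rfl⟩ : ∃ x, x ∘ e = y := ⟨y ∘ e.symm, funext fun i => by simp⟩
        rw [utv_mulVec hF ((hd_reindex e _ _).trans h0), hψ, reindex_mulVec, hgv, tv_mulVec, hd_reindex]
        rfl
    rw [he]
    exact hg

/-- The stabiliser of a tensor power of a unitary space is maximal. -/
theorem unitary_tensorWreath_maximal (hm : 3 ≤ m) (ht : 2 ≤ t) (hex : ¬ (q = 2 ∧ m = 3))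
    (e : Fin n ≃ (Fin t → Fin m)) (P : GL (Fin n) F) {f₁ : (Fin m → F) → (Fin m → F) → F}
    (hf₁ : Cfsg.Geo.IsUnitaryFormPow q f₁)
    (hT : Cfsg.Geo.IsTensorPowerFormStructure (fun x : F => x ^ q) (Cfsg.hermForm n F q) f₁ e P) :
    IsMaximalIn (suGL n F q) (tensorWreathSubgroup m t e P ⊓ suGL n F q) := by
  classical
  obtain ⟨c, hc, hform⟩ := hT
  obtain ⟨Q, hQ⟩ := CfsgLib.Elusive.UnitSimil.exists_std hF hf₁
  have hG : (Q : Matrix (Fin m) (Fin m) F)ᵀ * gramMatrix f₁ * (Q : Matrix (Fin m) (Fin m) F).map (· ^ q) = 1 := by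
    refine Matrix.ext fun i j => ?_
    have := hQ (Pi.single i 1) (Pi.single j 1)
    rw [← hd_fin, hd_single_right _ _ (q_ne_zero hF)] at this
    rw [Matrix.one_apply, show (if i = j then (1 : F) else 0) = (Pi.single i 1 : Fin m → F) j by
      simp [Pi.single_apply, eq_comm], ← this]
    conv_rhs =>
      rw [pi_eq_sum_univ' ((Q : Matrix (Fin m) (Fin m) F) *ᵥ Pi.single i 1),
        pi_eq_sum_univ' ((Q : Matrix (Fin m) (Fin m) F) *ᵥ Pi.single j 1)]
    rw [CfsgLib.Elusive.UnitSimil.sum_left hF hf₁]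
    simp only [Matrix.mul_apply, Finset.sum_mul]
    rw [Finset.sum_comm]
    refine Finset.sum_congr rfl fun a _ => ?_
    rw [CfsgLib.Elusive.UnitSimil.sum_right hF hf₁]
    refine Finset.sum_congr rfl fun b _ => ?_
    rw [hf₁.smul_left, CfsgLib.Elusive.UnitSimil.smul_right hF hf₁]
    simp only [Cfsg.Geo.gramMatrix, Matrix.mulVec_single_one, Matrix.transpose_apply, Matrix.map_apply,
      Matrix.col_apply]
    ring
  set TQ : Mt t m F := tens fun _ => (Q : Matrix (Fin m) (Fin m) F) with hTQ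
  have hgr : ∀ x y : (Fin t → Fin m) → F,
      Cfsg.hermForm n F q ((P : Matrix (Fin n) (Fin n) F) *ᵥ ((TQ *ᵥ x) ∘ e))
        ((P : Matrix (Fin n) (Fin n) F) *ᵥ ((TQ *ᵥ y) ∘ e)) = c * hd q x y := by
    intro x y
    have e1 : ∀ u v : (Fin t → Fin m) → F,
        ∑ a, ∑ b, u a * (∏ i, gramMatrix f₁ (a i) (b i)) * v b ^ q =
          u ⬝ᵥ ((tens fun _ => gramMatrix f₁) *ᵥ cq q v) := fun u v => by
      simp only [dotProduct, Matrix.mulVec, Finset.mul_sum, tens, Matrix.of_apply, cq, mul_assoc]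
    rw [hform, e1, cq_mulVec hF, ← Matrix.vecMul_transpose, ← Matrix.dotProduct_mulVec, Matrix.mulVec_mulVec,
      Matrix.mulVec_mulVec, hTQ, tens_map, tens_transpose, tens_mul, tens_mul, hG, tens_one,
      Matrix.one_mulVec, hd_eq_dot]
  have hcq : c ^ q = c := by
    have h := hgr (Pi.single (fun _ => ⟨0, by omega⟩) 1) (Pi.single (fun _ => ⟨0, by omega⟩) 1)
    rw [hd_single_right _ _ (q_ne_zero hF), Pi.single_eq_same, mul_one] at h
    rw [← h, TensorU.self_pow hF]
  obtain ⟨l, hl⟩ := TensorU.norm_exists hF hcq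
  have hl0 : l ≠ 0 := fun h => hc (by rw [← hl, h, zero_mul])
  haveI : NeZero t := ⟨by omega⟩
  set s : Fin t → F := Function.update 1 0 l⁻¹ with hs
  have hs' : ∏ i, s i = l⁻¹ := by
    rw [hs, Finset.prod_update_of_mem (Finset.mem_univ _)]
    simp
  have hsa : ∀ i, s i ≠ 0 := fun i => by
    rcases eq_or_ne i 0 with rfl | hi
    · simp [hs, hl0]
    · simp [hs, Function.update_of_ne hi]
  set A : GL (Fin t → Fin m) F := tensUnit fun i => Units.map (algebraMap F (Matrix (Fin m) (Fin m) F)).toMonoidHom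
    (Units.mk0 (s i) (hsa i)) * Q with hA
  have hAv : (A : Mt t m F) = l⁻¹ • TQ := by
    rw [← hs', hTQ, ← tens_smul, hA]
    show tens _ = _
    congr 1
    funext i
    rw [Units.val_mul, Units.coe_map]
    show algebraMap F (Matrix (Fin m) (Fin m) F) (s i) * _ = _
    rw [← Algebra.smul_def]
  set ψ := glReindex (F := F) e.symm with hψ
  have hAm : ψ A ∈ (tensorWreathStandard m t F).map ψ.toMonoidHom :=
    Subgroup.mem_map_of_mem ψ.toMonoidHom (Subgroup.subset_closure (Or.inl ⟨_, fun _ _ => rfl⟩))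
  set R := P * ψ A with hR
  have hRU : R ∈ Cfsg.GU n F q := UTv.mem_GU.2 fun u v => by
    obtain ⟨x, rfl⟩ : ∃ x, x ∘ e = u := ⟨u ∘ e.symm, funext fun i => by simp⟩
    obtain ⟨y, rfl⟩ : ∃ y, y ∘ e = v := ⟨v ∘ e.symm, funext fun i => by simp⟩
    have hh : ∀ z, (R : Matrix (Fin n) (Fin n) F) *ᵥ (z ∘ e) =
        l⁻¹ • (P : Matrix (Fin n) (Fin n) F) *ᵥ ((TQ *ᵥ z) ∘ e) := fun z => by
      rw [hR, mul_mulVec, hψ, reindex_mulVec, hAv, Matrix.smul_mulVec,
        show (l⁻¹ • (TQ *ᵥ z)) ∘ e = l⁻¹ • ((TQ *ᵥ z) ∘ e) from rfl, Matrix.mulVec_smul]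
    rw [hh, hh, CfsgLib.Unitary.herm_smul_left, Unit.smul_right (isUnitaryForm hF), frobEquiv_apply hF, hgr,
      hd_reindex, inv_pow, ← hl]
    field_simp
  have hTP : tensorWreathSubgroup m t e P =
      ((tensorWreathStandard m t F).map ψ.toMonoidHom).map (MulAut.conj R).toMonoidHom := by
    set X := (tensorWreathStandard m t F).map ψ.toMonoidHom with hX
    show X.map (MulAut.conj P).toMonoidHom = _
    ext z
    simp only [Subgroup.mem_map, MulEquiv.coe_toMonoidHom, MulAut.conj_apply, hR]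
    constructor
    · rintro ⟨g, hg, rfl⟩
      exact ⟨(ψ A)⁻¹ * g * ψ A, X.mul_mem (X.mul_mem (X.inv_mem hAm) hg) hAm, by group⟩
    · rintro ⟨g, hg, rfl⟩
      exact ⟨ψ A * g * (ψ A)⁻¹, X.mul_mem (X.mul_mem hAm hg) (X.inv_mem hAm), by group⟩
  rw [hTP]
  refine isMaximalIn_conj R ?_ (std_maximal hF hm ht hex e)
  ext x
  simp only [Subgroup.mem_map, MulEquiv.coe_toMonoidHom, MulAut.conj_apply]
  constructor
  · rintro ⟨y, hy, rfl⟩
    exact TensorU.det_conj_GU hF hRU hy
  · intro hx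
    refine ⟨R⁻¹ * x * R, ?_, by group⟩
    have := TensorU.det_conj_GU hF ((Cfsg.GU n F q).inv_mem hRU) hx
    rwa [inv_inv] at this

end CfsgLib.Geo.TensorPow.U
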